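import Cfsg.Agent.H996.Eight.Enc

/-!
# The table of the spherical machine: `F₄`, node `3` (helper996, for S4612; made by a program)

24 states, 5 classes.
-/

set_option autoImplicit false
set_option maxRecDepth 20000

namespace Cfsg.Agent.H996.PQ.TabF4d

open Cfsg.Agent.H967.Sph Cfsg.Agent.H64.Dl.Sph Cfsg.Agent.H996.Eight.Cert Cfsg.Agent.H996.Eight.En

/-- the Cartan matrix -/
def A (i k : Fin 4) : ℤ := (([[2, -1, 0, 0], [-1, 2, -2, 0], [0, -1, 2, -1], [0, 0, -1, 2]] : List (List ℤ)).getD i []).getD k 0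

/-- the encoded table -/
def enc : Enc 4 24 5 where
  j := 3
  V := 18551813145641404559631278111941347364420240026327995261459484224281168218420212520500643827731685137908616955205768
  S := 209585948347032473388732970014326661067019478864286225440091573055080811631635641918521840323481389960760558027924482972446772979876024392460794981171878097421696060824418990709289157128957192767635028664153743602587170420898821481453121671536296703818781583818173854995363941488944742400
  C := 170173342163579295669533205362410528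
  P := 37995022776389900215743671079527250221795632900091847944390629043208192
  Q := 15496162291301456167483478576
  CP := 1765157046060728488021291325614354216206943458759285923392767603727400959
  CQ := 640881819876013052428030464
  R := 25301659681792
  W := 369144744884584745186752644434212645045964364134001803520

/-- the table -/
def tab : Tab A 3 24 5 :=
  enc.tab A (by decide +kernel) (by decide +kernel) (by decide +kernel) (by decide +kernel) (by decide +kernel)
    (by decide +kernel) (by decide +kernel)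

/-- the exponents of the parameters -/
def e (i : Fin 4) : ℕ := ([1, 1, 1, 1] : List ℕ).getD i 0

def matL : List (List (List ℤ)) := [[[], [0, 1], [], [], []], [[0, 1], [0, -1, 1, 1, 1, 1], [0, 0, 0, 0, 0, 1, 1, 1], [0, 0, 0, 0, 0, 0, 0, 0, 1], []], [[], [0, 0, 0, 0, 0, 1, 1, 1], [0, 0, 0, 0, 0, -1, 0, 0, 1], [0, 0, 0, 0, 0, 0, 0, 0, 0, 1, 1, 1], []], [[], [0, 0, 0, 0, 0, 0, 0, 0, 1], [0, 0, 0, 0, 0, 0, 0, 0, 0, 1, 1, 1], [0, 0, 0, 0, 0, 0, 0, 0, -1, 0, 0, 0, 2, 1, 1], [0, 0, 0, 0, 0, 0, 0, 0, 0, 0, 0, 0, 0, 0, 0, 1]], [[], [], [], [0, 0, 0, 0, 0, 0, 0, 0, 0, 0, 0, 0, 0, 0, 0, 1], [0, 0, 0, 0, 0, 0, 0, 0, 0, 0, 0, 0, 0, 0, 0, -1, 1]]]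

def bbL : List (List (List ℤ)) := [[[], [0, 1, 1, 1, 2, 1, 1, 1], [], [], []], [[1], [-1, 1, 1, 1, 1], [0, 0, 0, 0, 1, 1, 1], [0, 0, 0, 0, 0, 0, 0, 1], []], [[], [1, 1, 1, 1], [-1, 0, 0, 0, 1], [0, 0, 0, 0, 1, 1, 1, 1], []], [[], [1], [0, 1, 1, 1], [-1, 0, 0, 0, 2, 1, 1], [0, 0, 0, 0, 0, 0, 0, 1]], [[], [], [], [1, 1, 1, 2, 1, 1, 1], [-1, 0, 0, -1, 1, 0, 0, 1]]]

def kL : List (List ℤ) := [[1], [0, 1, 1, 1, 2, 1, 1, 1], [0, 0, 0, 0, 0, 1, 1, 1, 1, 1, 1], [0, 0, 0, 0, 0, 0, 0, 0, 1, 1, 1, 2, 1, 1, 1], [0, 0, 0, 0, 0, 0, 0, 0, 0, 0, 0, 0, 0, 0, 0, 1]]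

/-- the data -/
def data : Data A 3 24 5 where
  t := tab
  e := e
  wl := enc.wl
  mat c c' := (matL.getD c []).getD c' []
  kk c := kL.getD c []
  ff := [1, 1, 1, 2, 1, 1, 1]
  bb c c' := (bbL.getD c []).getD c' []
  chkM := by decide +kernel
  chkK := by decide +kernel
  chkF := by decide +kernel
  chkP := by decide +kernel
  chkB := by decide +kernel
  wo := by decide +kernel
  ws := by decide +kernel

end Cfsg.Agent.H996.PQ.TabF4d
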