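import Cfsg.Agent.H996.PQ.Full
import Cfsg.Agent.H996.Eight.TabE6a

/-!
# Full certificate: `E₆`, node `0` (helper996, for S4612; made by a program)

`|G : P| = 1*q^0*P3^2*P6*P9*P12`, number of the long root subgroups `1*q^0*P2*P3*P4*P6*P8*P9*P12` (`Pn` the cyclotomic
polynomials at `q`). Constituents (degree, `D`):
* `0`: degree `1*q^0 / 1`, `D = 0`
* `1`: degree `1*q^1*P8*P9 / 1`, `D = 1*q^10*P2*P3*P4*P6*P12`
* `2`: degree `1*q^2*P4*P5*P8*P12 / 1`, `D = 1*q^10*P2*P3*P6*P9`
-/

set_option autoImplicit false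
set_option maxRecDepth 20000

namespace Cfsg.Agent.H996.PQ.FullE6a

open Cfsg.Agent.H967.Sph Cfsg.Agent.H64.Dl.Sph Cfsg.Agent.H996.Eight Cfsg.Agent.H996.Eight.Cert Cfsg.Agent.H996.Eight.En

def c0 : Crt 3 := ⟨[], fun _ => [1], [], [1], 1⟩

/-- the certificates -/
def C (i : Fin 3) : Crt 3 := ([c0, TabE6a.c1, TabE6a.c2] : List (Crt 3)).getD i c0


/-- the polynomials -/
def pol : Pol 3 where
  N := [1, 1, 1, 1, 2, 2, 2, 2, 3, 2, 2, 2, 2, 1, 1, 1, 1]
  dn i := (C i).dn
  den i := (C i).den
  D i := ([[], [0, 0, 0, 0, 0, 0, 0, 0, 0, 0, 1, 1, 1, 1, 1, 1, 1, 1, 1, 1, 1, 1], [0, 0, 0, 0, 0, 0, 0, 0, 0, 0, 1, 1, 1, 2, 2, 2, 2, 2, 2, 1, 1, 1]] : List (List ℤ)).getD i []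
  o := 0
  nu i := (C i).nu

/-- the long roots -/
def rt : RTab 6 36 where
  V := 7331566395056160060549284009442795241351119215625718893002915619584587539175055751230915715968324127587009560457556548596168175056902106132822510811188054924000120976853835536635153485957765008219076215460580874791814683116389258393370362880118595138081
  S := 2076635944059057629637969631888537951357646509122253012206279055995176526520765225327400323215484652096816529001367443428986030446537889245787283259705337930811328363144431576883677120188420553605118684487124264869534439832070753611381322632634528202824025659412761918012251955768128820395615112177818183811112127012156773828978048221550826992749904504416963926507912296394882027851151387835636812645578435699408067696120470293959359088362213788594837433407780373998629167850119134551517601623293049865074172314291011840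
  P := 22300743875209884457241280930548420417028657
  Q := 99113885505702252063072373449803893309440

/-- **The full certificate.** -/
def full : Full TabE6a.A 0 27 3 ![1, 2, 2, 3, 2, 1] where
  Da := TabE6a.data
  C := C
  i₀ := 0
  P := pol
  hP := ⟨rfl, rfl, rfl, by decide +kernel⟩
  hN := by decide +kernel
  triv := ⟨by decide +kernel, rfl, rfl⟩
  ok := fun i => match i with
    | 0 => fun h => absurd rfl h
    | 1 => fun _ => ⟨ok1_of_ok TabE6a.ok1, TabE6a.dvd1⟩
    | 2 => fun _ => ⟨ok1_of_ok TabE6a.ok2, TabE6a.dvd2⟩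
  uq := fun i => match i with
    | 0 => fun h => absurd rfl h
    | 1 => fun _ => uq_of_ok TabE6a.ok1
    | 2 => fun _ => uq_of_ok TabE6a.ok2
  FF := [0, 0, 0, 1, 1]
  LL := 1
  cf i := ([[0, 0, 0, 1, 1], [1, 0, 0, 1, 0, 0, 1], [1, 0, -1, 0, 1]] : List (List ℤ)).getD i []
  hF := by decide +kernel
  hcf := by decide +kernel
  hsum := by decide +kernel
  hne := by decide +kernel
  NL := [1, 1, 1, 2, 3, 3, 4, 5, 5, 5, 6, 6, 5, 5, 5, 4, 3, 3, 2, 1, 1, 1]
  nr := 36
  nz := ⟨by decide⟩
  Z := rt
  hZ := ⟨by decide +kernel, by decide +kernel, by decide +kernel⟩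
  kap n := ([0, 1] : List (Fin 3)).getD n 0
  hkap := by decide +kernel
  VV c := ([[1, 1, 1, 1, 2, 2, 2, 2, 3, 2, 2, 1, 1], [0, 0, 0, 0, 0, 0, 0, 0, 0, 0, 0, 1, 1, 1, 1, 1, 1], []] : List (List ℤ)).getD c []
  hVV := by decide +kernel
  hD := by decide +kernel

end Cfsg.Agent.H996.PQ.FullE6a
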