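import Cfsg.Agent.H996.PQ.TabE7c

/-!
# Full certificate: `E₇`, node `1` (helper996, for S4612; made by a program)

`|G : P| = 1*q^0*P2^4*P3*P4*P6^2*P8*P9*P10*P12*P14*P18`, number of the long root subgroups `1*q^0*P2*P3*P6*P7*P9*P12*P14*P18` (`Pn` the cyclotomic
polynomials at `q`). Constituents (degree, `D`):
* `0`: degree `1*q^0 / 1`, `D = 0`
* `1`: degree `1*q^1*P7*P12*P14 / 1`, `D = 1*q^16*P2*P3*P6*P9*P18`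
* `2`: degree `1*q^2*P3^2*P6^2*P9*P12*P18 / 1`, `D = 1*q^16*P2*P7*P8*P14`
* `3`: degree `1*q^3*P7*P9*P14*P18 / 1`, `D = 1*q^16*P2*P3*P5*P6*P10*P12`
* `4`: degree `1*q^3*P5*P7*P8*P12*P14*P18 / 2`, `D = 1*q^15*P2*P3*P6*P9*(-1 + 2*q + 1*q^3 + -1*q^4 + 1*q^7)`
* `5`: degree `1*q^3*P2^4*P6^2*P7*P10*P14*P18 / 2`, `D = 1*q^15*P3*P4*P8*P9*P12`
* `6`: degree `1*q^4*P5*P8*P9*P10*P12*P14*P18 / 2`, `D = 1*q^15*P2*P3*P6*P7*(-1 + 2*q + -1*q^2 + 1*q^3 + -1*q^6 + 1*q^7)`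
* `7`: degree `1*q^4*P2^4*P5*P6^2*P9*P10*P14*P18 / 2`, `D = 1*q^15*P3*P7*P12*(1 + 1*q^4 + -1*q^5 + 1*q^6)`
* `8`: degree `1*q^5*P3^2*P6^2*P7*P9*P12*P14*P18 / 1`, `D = 1*q^16*P2*(2 + 2*q^2 + 4*q^4 + 4*q^6 + 4*q^8 + 3*q^10 + 2*q^12 + 1*q^14 + 1*q^16)`
* `9`: degree `1*q^6*P5*P7*P9*P10*P12*P14*P18 / 1`, `D = 1*q^16*P2*P3*P4*P6*P8*(1 + 1*q^2 + -1*q^4 + 1*q^6)`
-/

set_option autoImplicit false
set_option maxRecDepth 20000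

namespace Cfsg.Agent.H996.PQ.FullE7c

open Cfsg.Agent.H996.PQ.Big Cfsg.Agent.H967.Sph Cfsg.Agent.H64.Dl.Sph Cfsg.Agent.H996.Eight Cfsg.Agent.H996.Eight.Cert Cfsg.Agent.H996.Eight.En

/-- degree `1*q^0 / 1` -/
def c0 : Crt 10 where
  th := [0, 1, 1, 2, 3, 4, 4, 5, 4, 4, 3, 2, 1, 1]
  nu c := ([[1], [1], [1], [1], [1], [1], [1], [1], [1], [1]] : List (List ℤ)).getD c []
  steps := []
  dn := [1]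
  den := 1

/-- degree `1*q^1*P7*P12*P14 / 1` -/
def c1 : Crt 10 where
  th := [-1, 0, 0, 1, 2, 4, 4, 5, 4, 3, 2, 1]
  nu c := ([[0, 0, 0, 0, 0, 0, 0, 0, 0, 1, 1, 1, 1, 1, 1, 1], [0, 0, 0, 0, 0, 0, 0, 0, -1, 0, 1, 2, 2, 1], [0, 0, 0, 0, 0, 0, -1, -1, -1, 1, 2, 2, 1], [0, 0, 0, 0, 0, -1, -2, -1, 0, 2, 2, 1], [0, 0, 0, 0, -1, -1, -1, 0, 0, 1, 1, 1, 1], [0, 0, 0, 0, -1, -2, -2, 0, 1, 2, 1], [0, 0, 0, -1, -1, -1, -1, 0, 0, 1, 1, 1], [0, 0, 0, -1, -2, -2, -1, 1, 1, 1], [0, 0, -1, -2, -2, -1, 0, 1], [-1, -1, -1, -1, -1, -1, -1]] : List (List ℤ)).getD c []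
  steps := []
  dn := [0, 1, 0, 0, 0, 1, 0, 1, 0, 1, 0, 1, 0, 1, 0, 0, 0, 1]
  den := 1

/-- degree `1*q^2*P3^2*P6^2*P9*P12*P18 / 1` -/
def c2 : Crt 10 where
  th := [-1, 0, -1, 0, 1, 3, 3, 4, 3, 2, 1]
  nu c := ([[0, 0, 0, 0, 0, 0, 0, 0, 0, 0, 0, 0, 0, 0, 1, 1, 2, 2, 3, 3, 3, 2, 2, 1, 1], [0, 0, 0, 0, 0, 0, 0, 0, 0, 0, 0, 0, 0, -1, 0, -1, 1, 1, 3, 3, 2, 1], [0, 0, 0, 0, 0, 0, 0, 0, 0, 0, 1, -1, -1, -3, -1, -1, 1, 2, 2, 2], [0, 0, 0, 0, 0, 0, 0, 0, 1, 1, 0, -2, -3, -3, -1, 0, 2, 1, 1], [0, 0, 0, 0, 0, 0, 1, 0, 1, -1, 0, -2, -2, -2, -1, 0, 0, 1, 1, 1], [0, 0, 0, 0, 0, 0, 1, 1, 2, 0, -1, -3, -3, -2, 0, 1, 1], [0, 0, 0, 0, 0, 1, 1, 1, 0, 0, -1, -2, -2, -2, 0, -1, 1, 0, 1], [0, 0, 0, 0, 0, 2, 2, 2, 1, -1, -1, -3, -1, -1, 1], [0, 0, 0, 1, 2, 3, 3, 1, 1, -1, 0, -1], [1, 1, 2, 2, 3, 3,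 3, 2, 2, 1, 1]] : List (List ℤ)).getD c []
  steps := []
  dn := [0, 0, 1, 0, 1, 0, 2, 0, 2, 0, 3, 0, 3, 0, 3, 0, 3, 0, 3, 0, 2, 0, 2, 0, 1, 0, 1]
  den := 1

/-- degree `1*q^3*P7*P9*P14*P18 / 1` -/
def c3 : Crt 10 where
  th := [-1, 0, -1, 0, 0, 1, 1, 2, 1, 1, 1]
  nu c := ([[0, 0, 0, 0, 0, 0, 0, 0, 0, 0, 0, 0, 0, 0, 0, 1, 1, 1, 1, 1, 1, 1], [0, 0, 0, 0, 0, 0, 0, 0, 0, 0, 0, 0, 0, 0, -1, 0, 0, 1, 1], [0, 0, 0, 0, 0, 0, 0, 0, 0, 0, 0, 1, -1, -1, -1, 0, 1], [0, 0, 0, 0, 0, 0, 0, 0, 0, 1, 1, 0, -1, -1, 0, 1], [0, 0, 0, 0, 0, 0, -1, 0, 0, 0, -1, -1, -1, -1, -1, -1], [0, 0, 0, 0, 0, 0, -1, 0, 1, 1, 0, -1, -1], [0, 0, 0, 0, 0, 0, 1, 1, 1, 1, 1, 1, 0, 0, 0, 1], [0, 0, 0, 0, 0, -1, 0, 1, 1, 1, -1], [0, 0, 0, -1, -1, 0, 0, 1], [-1, -1, -1, -1, -1, -1, -1]] : List (List ℤ)).getD c []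
  steps := []
  dn := [0, 0, 0, 1, 0, 1, 0, 1, 0, 2, 0, 2, 0, 2, 0, 3, 0, 2, 0, 2, 0, 2, 0, 1, 0, 1, 0, 1]
  den := 1

/-- degree `1*q^3*P5*P7*P8*P12*P14*P18 / 2` -/
def c4 : Crt 10 where
  th := [-1, 0, -1, -1, 0, 0, 0, 1, 0, 1]
  nu c := ([[0, 0, 0, 0, 0, 0, 0, 0, 0, 0, 0, 0, 0, 0, 0, 0, 0, 0, 1, 2, 3, 4, 5, 5, 5, 4, 3, 2, 1], [0, 0, 0, 0, 0, 0, 0, 0, 0, 0, 0, 0, 0, 0, 0, 0, 0, -1, -1, -1, -1, 0, 1, 1, 1], [0, 0, 0, 0, 0, 0, 0, 0, 0, 0, 0, 0, 0, 0, 1, 1, 0, -1, -1, -1, -1, 0, 1], [0, 0, 0, 0, 0, 0, 0, 0, 0, 0, 0, -1, 0, 1, 1, 1, 0, -1, -1, -1], [0, 0, 0, 0, 0, 0, 0, 0, 0, 0, 1, 2, 3, 4, 5, 5, 4, 3, 3, 2, 1, 1, 1], [0, 0, 0, 0, 0, 0, 0, 0, 0, -1, -1, -1, 0, 1, 1, 1, 0, -1], [0, 0, 0, 0, 0, 0, 1, 1, 1, 2, 3, 3, 4, 5, 5, 4, 3, 2, 1], [0, 0, 0, 0, 0, 0, 1, 0, -1, -1, -1, -1, 0, 1,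 1], [0, 0, 0, 0, 1, 1, 1, 0, -1, -1, -1, -1], [1, 2, 3, 4, 5, 5, 5, 4, 3, 2, 1]] : List (List ℤ)).getD c []
  steps := []
  dn := [0, 0, 0, 1, 1, 1, 0, 2, 1, 3, 1, 4, 1, 5, 1, 6, 2, 6, 0, 6, 2, 6, 1, 5, 1, 4, 1, 3, 1, 2, 0, 1, 1, 1]
  den := 2

/-- degree `1*q^3*P2^4*P6^2*P7*P10*P14*P18 / 2` -/
def c5 : Crt 10 where
  th := [-1, 0, -1, -1, 0, 2, 2, 3, 2, 1]
  nu c := ([[0, 0, 0, 0, 0, 0, 0, 0, 0, 0, 0, 0, 0, 0, 0, 0, 0, 0, 1, 2, 3, 5, 7, 8, 9, 9, 8, 7, 5, 3, 2, 1], [0, 0, 0, 0, 0, 0, 0, 0, 0, 0, 0, 0, 0, 0, 0, 0, 0, -1, -1, -1, -2, -1, 2, 4, 5, 5, 3, 1], [0, 0, 0, 0, 0, 0, 0, 0, 0, 0, 0, 0, 0, 0, 1, 1, 0, -2, -4, -5, -4, -1, 2, 3, 2, 1], [0, 0, 0, 0, 0, 0, 0, 0, 0, 0, 0, -1, 0, 3, 4, 1, -1, -4, -6, -5, -1, 1, 1], [0, 0, 0, 0, 0, 0, 0, 0, 0, 0, 1, 2, 3, 3, 3, 2, 0, -2, -2, -2, -2,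 0, 1, 1, 1, 1], [0, 0, 0, 0, 0, 0, 0, 0, 0, -1, -1, 1, 5, 6, 4, 1, -1, -4, -3, 0, 1], [0, 0, 0, 0, 0, 0, -1, -1, -1, -1, 0, 2, 2, 2, 2, 0, -2, -3, -3, -3, -2, -1], [0, 0, 0, 0, 0, 0, -1, -2, -3, -2, 1, 4, 5, 4, 2, 0, -1, -1], [0, 0, 0, 0, -1, -3, -5, -5, -4, -2, 1, 2, 1, 1, 1], [-1, -2, -3, -5, -7, -8, -9, -9, -8, -7, -5, -3, -2, -1]] : List (List ℤ)).getD c []
  steps := []
  dn := [0, 0, 0, 1, 1, 1, 2, 2, 3, 3, 3, 4, 5, 5, 5, 6, 6, 6, 6, 6, 6, 6, 5, 5, 5, 4, 3, 3, 3, 2, 2, 1, 1, 1]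
  den := 2

/-- degree `1*q^4*P5*P8*P9*P10*P12*P14*P18 / 2` -/
def c6 : Crt 10 where
  th := [-1, 0, -1, -1, -1, -1, -1, 0, -1]
  nu c := ([[0, 0, 0, 0, 0, 0, 0, 0, 0, 0, 0, 0, 0, 0, 0, 0, 0, 0, 0, 0, 0, 1, 1, 1, 1, 1], [0, 0, 0, 0, 0, 0, 0, 0, 0, 0, 0, 0, 0, 0, 0, 0, 0, 0, 0, 0, -1], [0, 0, 0, 0, 0, 0, 0, 0, 0, 0, 0, 0, 0, 0, 0, 0, 0, 1], [0, 0, 0, 0, 0, 0, 0, 0, 0, 0, 0, 0, 0, 0, -1], [0, 0, 0, 0, 0, 0, 0, 0, 0, 0, 0, 0, -1, -1, -1, -1, -1], [0, 0, 0, 0, 0, 0, 0, 0, 0, 0, 0, 1], [0, 0, 0, 0, 0, 0, 0, 0, 0, 1, 1, 1, 1, 1], [0, 0, 0, 0, 0, 0, 0, 0, -1], [0, 0, 0, 0, 0, 1], [-1, -1, -1, -1, -1]] : List (List ℤ)).getD c []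
  steps := []
  dn := [0, 0, 0, 0, 1, -1, 1, -1, 3, -3, 5, -4, 6, -6, 9, -7, 11, -9, 11, -9, 13, -10, 13, -9, 11, -9, 11, -7, 9, -6, 6, -4, 5, -3, 3, -1, 1, -1, 1]
  den := 2

/-- degree `1*q^4*P2^4*P5*P6^2*P9*P10*P14*P18 / 2` -/
def c7 : Crt 10 where
  th := [-1, 0, -1, -1, -1, 1, 1, 2, 1]
  nu c := ([[0, 0, 0, 0, 0, 0, 0, 0, 0, 0, 0, 0, 0, 0, 0, 0, 0, 0, 0, 0, 0, 1, 2, 3, 5, 7, 8, 9, 9, 8, 7, 5, 3, 2, 1], [0, 0, 0, 0, 0, 0, 0, 0, 0, 0, 0, 0, 0, 0, 0, 0, 0, 0, 0, 0, -1, -1, -1, -2, -2, 0, 2, 3, 3, 1], [0, 0, 0, 0, 0, 0, 0, 0, 0, 0, 0, 0, 0, 0, 0, 0, 0, 1, 1, 1, 0, -2, -4, -4, -1, 1, 1], [0, 0, 0, 0, 0, 0, 0, 0, 0, 0, 0, 0, 0, 0, -1, -1, 1, 4, 4, 2, -2, -3, -1, 1], [0, 0, 0, 0, 0, 0, 0, 0, 0, 0, 0, 0, -1, 0, 1, 1, 1, 2, 1, -1, -2, -3, -3, -3, -2, -1], [0, 0, 0, 0, 0, 0, 0, 0, 0,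 0, 0, 1, -1, -3, -2, 2, 4, 4, 1, -1, -1], [0, 0, 0, 0, 0, 0, 0, 0, 0, -1, -2, -3, -3, -3, -2, -1, 1, 2, 1, 1, 1, 0, -1], [0, 0, 0, 0, 0, 0, 0, 0, 1, 1, -1, -4, -4, -2, 0, 1, 1, 1], [0, 0, 0, 0, 0, 1, 3, 3, 2, 0, -2, -2, -1, -1, -1], [1, 2, 3, 5, 7, 8, 9, 9, 8, 7, 5, 3, 2, 1]] : List (List ℤ)).getD c []
  steps := []
  dn := [0, 0, 0, 0, 1, 1, 1, 3, 3, 3, 5, 6, 6, 8, 9, 9, 11, 11, 11, 13, 13, 12, 13, 13, 11, 11, 11, 9, 9, 8, 6, 6, 5, 3, 3, 3, 1, 1, 1]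
  den := 2

/-- degree `1*q^5*P3^2*P6^2*P7*P9*P12*P14*P18 / 1` -/
def c8 : Crt 10 where
  th := [-1, 0, -1, -1, -1, 0, 0, 1]
  nu c := ([[0, 0, 0, 0, 0, 0, 0, 0, 0, 0, 0, 0, 0, 0, 0, 0, 0, 0, 0, 0, 0, 0, 0, 1, 2, 4, 6, 9, 11, 13, 13, 13, 11, 9, 6, 4, 2, 1], [0, 0, 0, 0, 0, 0, 0, 0, 0, 0, 0, 0, 0, 0, 0, 0, 0, 0, 0, 0, 0, 0, -1, -1, -2, -2, -3, -2, -1, 1, 1, 1], [0, 0, 0, 0, 0, 0, 0, 0, 0, 0, 0, 0, 0, 0, 0, 0, 0, 0, 0, 1, 1, 2, 1, 1, -1, -2, -2], [0, 0, 0, 0, 0, 0, 0, 0, 0, 0, 0, 0, 0, 0, 0, 0, -1, -1, -1, 1, 2, 3, 1, 0, -1], [0, 0, 0, 0, 0, 0, 0, 0, 0, 0, 0, 0, 0, 0, -1, -1, -1, 0, 0, 2, 3, 4, 3, 3, 2, 1], [0, 0, 0, 0, 0, 0, 0, 0, 0, 0, 0, 0, 0, 1, 0, -1, -3, -2, -1, 1, 1, 1], [0, 0, 0, 0, 0, 0, 0, 0, 0, 0, 0, 0, -1, -2, -3, -3, -4, -3, -2, 0, 0, 1, 1, 1], [0, 0, 0, 0, 0, 0, 0, 0,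 0, 0, 0, 2, 2, 1, -1, -1, -2, -1, -1], [0, 0, 0, 0, 0, 0, -1, -1, -1, 1, 2, 3, 2, 2, 1, 1], [-1, -2, -4, -6, -9, -11, -13, -13, -13, -11, -9, -6, -4, -2, -1]] : List (List ℤ)).getD c []
  steps := []
  dn := [0, 0, 0, 0, 0, 1, 0, 2, 0, 4, 0, 6, 0, 9, 0, 12, 0, 15, 0, 17, 0, 19, 0, 19, 0, 19, 0, 17, 0, 15, 0, 12, 0, 9, 0, 6, 0, 4, 0, 2, 0, 1]
  den := 1

/-- degree `1*q^6*P5*P7*P9*P10*P12*P14*P18 / 1` -/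
def c9 : Crt 10 where
  th := [-1, 0, -1, -1, -1, 0, -1]
  nu c := ([[0, 0, 0, 0, 0, 0, 0, 0, 0, 0, 0, 0, 0, 0, 0, 0, 0, 0, 0, 0, 0, 0, 0, 0, 1, 2, 3, 4, 5, 5, 5, 4, 3, 2, 1], [0, 0, 0, 0, 0, 0, 0, 0, 0, 0, 0, 0, 0, 0, 0, 0, 0, 0, 0, 0, 0, 0, 0, -1, -1, -1, -1, -1], [0, 0, 0, 0, 0, 0, 0, 0, 0, 0, 0, 0, 0, 0, 0, 0, 0, 0, 0, 0, 1, 1, 1], [0, 0, 0, 0, 0, 0, 0, 0, 0, 0, 0, 0, 0, 0, 0, 0, 0, -1, -1, 0, 1], [0, 0, 0, 0, 0, 0, 0, 0, 0, 0, 0, 0, 0, 0, 0, -1, -1, -1, -1, -1], [0, 0, 0, 0, 0, 0, 0, 0, 0, 0, 0, 0, 0, 0, 1, 0, -1, -1], [0, 0, 0, 0, 0, 0, 0, 0, 0, 0, 0, 0, 0, 0, 0, -1, -1, -1, -1, -1], [0, 0, 0, 0, 0, 0, 0, 0, 0, 0, 0, 0, 1, 1, 1], [0, 0, 0, 0, 0, 0, 0, -1, -1, -1, -1, -1], [1, 2, 3, 4, 5, 5, 5, 4, 3, 2, 1]] : List (List ℤ)).getD c []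
  steps := []
  dn := [0, 0, 0, 0, 0, 0, 1, 0, 1, 0, 2, 0, 4, 0, 5, 0, 6, 0, 9, 0, 9, 0, 10, 0, 11, 0, 10, 0, 9, 0, 9, 0, 6, 0, 5, 0, 4, 0, 2, 0, 1, 0, 1]
  den := 1

/-- the certificates -/
def C (i : Fin 10) : Crt 10 := ([c0, c1, c2, c3, c4, c5, c6, c7, c8, c9] : List (Crt 10)).getD i c0

theorem okA0 : ok1 c0 (TabE7c.data.t.cls TabE7c.data.t.o) TabE7c.data.bb TabE7c.data.kk := by decide +kernel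

theorem okA1 : ok1 c1 (TabE7c.data.t.cls TabE7c.data.t.o) TabE7c.data.bb TabE7c.data.kk := by decide +kernel

theorem okA2 : ok1 c2 (TabE7c.data.t.cls TabE7c.data.t.o) TabE7c.data.bb TabE7c.data.kk := by decide +kernel

theorem okA3 : ok1 c3 (TabE7c.data.t.cls TabE7c.data.t.o) TabE7c.data.bb TabE7c.data.kk := by decide +kernel

theorem okA4 : ok1 c4 (TabE7c.data.t.cls TabE7c.data.t.o) TabE7c.data.bb TabE7c.data.kk := by decide +kernel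

theorem okA5 : ok1 c5 (TabE7c.data.t.cls TabE7c.data.t.o) TabE7c.data.bb TabE7c.data.kk := by decide +kernel

theorem okA6 : ok1 c6 (TabE7c.data.t.cls TabE7c.data.t.o) TabE7c.data.bb TabE7c.data.kk := by decide +kernel

theorem okA7 : ok1 c7 (TabE7c.data.t.cls TabE7c.data.t.o) TabE7c.data.bb TabE7c.data.kk := by decide +kernel

theorem okA8 : ok1 c8 (TabE7c.data.t.cls TabE7c.data.t.o) TabE7c.data.bb TabE7c.data.kk := by decide +kernel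

theorem okA9 : ok1 c9 (TabE7c.data.t.cls TabE7c.data.t.o) TabE7c.data.bb TabE7c.data.kk := by decide +kernel

theorem okA (i : Fin 10) : ok1 (C i) (TabE7c.data.t.cls TabE7c.data.t.o) TabE7c.data.bb TabE7c.data.kk :=
  match i with
  | 0 => okA0
  | 1 => okA1
  | 2 => okA2
  | 3 => okA3
  | 4 => okA4
  | 5 => okA5
  | 6 => okA6
  | 7 => okA7
  | 8 => okA8
  | 9 => okA9

theorem dvdA : ∀ i, pDvd (C i).den (C i).dn := by decide +kernel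

theorem neA : ∀ i k, i < k → pNV (pAdd (C i).th (pNeg (C k).th)) = true := by decide +kernel


/-- the polynomials -/
def pol : Pol 10 where
  N := [1, 1, 1, 2, 3, 4, 5, 7, 8, 10, 12, 14, 16, 18, 20, 22, 24, 25, 26, 27, 28, 28, 28, 27, 26, 25, 24, 22, 20, 18, 16, 14, 12, 10, 8, 7, 5, 4, 3, 2, 1, 1, 1]
  dn i := (C i).dn
  den i := (C i).den
  D i := ([[], [0, 0, 0, 0, 0, 0, 0, 0, 0, 0, 0, 0, 0, 0, 0, 0, 1, 1, 1, 1, 1, 1, 1, 1, 1, 1, 1, 1, 1, 1, 1, 1, 1, 1], [0, 0, 0, 0, 0, 0, 0, 0, 0, 0, 0, 0, 0, 0, 0, 0, 1, 1, 1, 1, 2, 2, 2, 2, 2, 2, 2, 2, 2, 2, 1, 1, 1, 1], [0, 0, 0, 0, 0, 0, 0, 0, 0, 0, 0, 0, 0, 0, 0, 0, 1, 1, 1, 1, 2, 2, 2, 2, 3, 3, 2, 2, 2, 2, 1, 1, 1, 1], [0, 0, 0, 0, 0, 0, 0, 0, 0, 0, 0, 0, 0, 0, 0, -1, 1, 1, 1, 2, 2, 3, 3, 3, 4, 3, 3, 3, 2, 2, 1, 1, 1, 1], [0, 0, 0, 0,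 0, 0, 0, 0, 0, 0, 0, 0, 0, 0, 0, 1, 1, 1, 1, 2, 2, 3, 3, 3, 2, 3, 3, 3, 2, 2, 1, 1, 1, 1], [0, 0, 0, 0, 0, 0, 0, 0, 0, 0, 0, 0, 0, 0, 0, -1, 0, 0, 1, 2, 3, 4, 5, 5, 5, 4, 3, 3, 2, 2, 1, 1, 1, 1], [0, 0, 0, 0, 0, 0, 0, 0, 0, 0, 0, 0, 0, 0, 0, 1, 2, 2, 1, 2, 3, 4, 3, 3, 3, 4, 3, 3, 2, 2, 1, 1, 1, 1], [0, 0, 0, 0, 0, 0, 0, 0, 0, 0, 0, 0, 0, 0, 0, 0, 2, 2, 2, 2, 4, 4, 4, 4, 4, 4, 3, 3, 2, 2, 1, 1, 1, 1], [0, 0, 0, 0, 0, 0, 0, 0, 0, 0, 0, 0, 0, 0, 0, 0, 1, 1, 3, 3, 4, 4, 5, 5, 4, 4, 3, 3, 2, 2, 1, 1, 1, 1]] : List (List ℤ)).getD i []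
  o := 0
  nu i := (C i).nu

/-- the long roots -/
def rt : RTab 7 63 where
  V := 3873222968231703687278468810929741583741972455588405215650574477141682445634109645232793080414578078382140457859352902091769555428435338825587286911464856346009055822631901228400418115201692206499984534956441838125702133155515309457348364193267527849698834153963741964674951477010240601422731008495874235556679444799854235633039872214343780233544844633264963031644469422154680185925807065313062813427547062475836564726560506556879601674692505769316110845403252345113773268190252749750267524645637589842698024276020512899874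
  S := 262830772539133951542118485302570572268192502568423075016101281014802815484560926336030777964425719769816343674964634083764231163191436476679459619640584184383710587909692491222942435524164012072366289069702157292987401403765973845563714239623199269306911802699327953186992198403127691107964027654120999454666792819241422505086613043557037480421995280423800938761378540139727681900060777149752595936330820070610382473905677507593588709600248759903168928397688204939514523119586838938702628177241332087914949891881464003846947368472051598679963765497055049419711663403505467744507466602180424809232507897439207779600283933018190741817978874445648436339707568385738300378025285300150814798711513083427562875943157695382050105390591644564739951573029878653358263416465273984085874504479826298475271883573339639841429287115950093113963785332110937917811656333457322112732891365845224071508801616433915813043885355882462825073474510733128379770766731913693668760174371680374179801900075734708541816401724641845315274850468421487235880446818127251513580576020763770881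
  P := 7237005550492136888816159464980983237289113347922155751814053495367898764064
  Q := 32164456531457402204468303681508422296660100604734339836290737793386151936

/-- the sums for the long roots -/
def Z2 : ℕ := 0x1004010080200c0300c0300c030080200401004000000000000000000000000000000000000000000000000000000000000000000000000000000040100804014070240b0300e0380e0380c02c0901c05010020040100000000000000000000000000000000000000000000000000000000000000000000000040200c0501c0a0340f0481505c18064190601805814048100380c0280801c05010030080100401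

/-- the classes of the long root elements -/
def kap (n : ℕ) : Fin 10 := ([0, 1, 6] : List (Fin 10)).getD n 0

def al (k : Fin 7) : ℕ := ([2, 2, 3, 4, 3, 2, 1] : List ℕ).getD k 0

def VV (c : Fin 10) : List ℤ := ([[1, 1, 1, 2, 3, 4, 5, 7, 8, 10, 12, 14, 16, 18, 20, 22, 24, 24, 25, 25, 24, 23, 21, 18, 15, 13, 10, 7, 5, 3, 2, 1], [0, 0, 0, 0, 0, 0, 0, 0, 0, 0, 0, 0, 0, 0, 0, 0, 0, 1, 1, 2, 4, 5, 7, 9, 11, 12, 14, 14, 14, 14, 12, 11, 9, 7, 5, 4, 2, 1, 1], [], [], [], [], [0, 0, 0, 0, 0, 0, 0, 0, 0, 0, 0, 0, 0, 0, 0, 0, 0, 0, 0, 0, 0, 0, 0, 0, 0, 0, 0, 1, 1, 1, 2, 2, 3, 3, 3, 3, 3, 3, 2, 2, 1, 1, 1], [], [], []] : List (List ℤ)).getD c []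

theorem hV : TabE7c.B.cV 10 10 43 al 136 3 Z2 = true := by decide +kernel

theorem hVV : ChkC (rclL TabE7c.data.t ![2, 2, 3, 4, 3, 2, 1] kap) TabE7c.data.wl VV :=
  TabE7c.okB.chkC (by decide) (by decide) TabE7c.hZ TabE7c.hA2 (al := al) (by decide +kernel) (T0 := 136) (D := 3)
    (by decide +kernel) hV (o := 0) (by decide +kernel) (by decide +kernel)

/-- **The full certificate.** -/
noncomputable def full : Full TabE7c.A 1 576 10 ![2, 2, 3, 4, 3, 2, 1] where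
  Da := TabE7c.data
  C := C
  i₀ := 0
  P := pol
  hP := ⟨rfl, rfl, rfl, by decide +kernel⟩
  hN := by decide +kernel
  triv := ⟨by decide +kernel, rfl, rfl⟩
  ok i _ := ⟨okA i, dvdA i⟩
  uq i _ := uq_of_spec C _ _ (fun i => (okA i).1) (fun i => (okA i).2.2.1) neA i
  FF := [0, 0, 0, 0, 0, 0, 0, 0, 0, 0, 0, 0, 0, 0, 0, 0, 0, 0, 1, 2, 3, 4, 5, 5, 5, 4, 3, 2, 1]
  LL := 2
  cf i := ([[0, 0, 0, 0, 0, 0, 0, 0, 0, 0, 0, 0, 0, 0, 0, 0, 0, 0, 2, 4, 6, 8, 10, 10, 10, 8, 6, 4, 2], [0, 0, 0, 0, 0, 0, 0, 0, 0, 0, 2, 2, 2, 2, 4, 2, 4, 4, 6, 4, 6, 4, 6, 4, 4, 2, 4, 2, 2, 2, 2], [0, 0, 0, 0, 0, 0, 2, 2, 2, 2, 4, 2, 4, 4, 6, 4, 6, 4, 6, 4, 6, 4, 6, 4, 4, 2, 4, 2, 2, 2, 2], [0, 0, 0, 0, 0, 0, 2, 2, 4, 4, 6, 4, 8, 6, 10, 8, 12, 8, 14, 10, 14, 10, 14, 8, 12, 8, 10, 6, 8, 4, 6, 4, 4, 2, 2], [0, 0,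 0, 1, 1, 1, 0, 2, 1, 3, 1, 4, 1, 5, 1, 6, 2, 6, 0, 6, 2, 6, 1, 5, 1, 4, 1, 3, 1, 2, 0, 1, 1, 1], [0, 0, 0, 1, 1, 1, 1, 1, 2, 2, 2, 2, 3, 3, 3, 3, 3, 3, 3, 3, 3, 3, 2, 2, 2, 2, 1, 1, 1, 1, 1], [0, 1, 0, 1, 0, 3, 0, 5, 0, 7, 0, 10, 0, 14, 0, 15, 0, 19, 0, 20, 0, 20, 0, 20, 0, 19, 0, 15, 0, 14, 0, 10, 0, 7, 0, 5, 0, 3, 0, 1, 0, 1], [0, 1, 1, 1, 2, 2, 2, 3, 4, 4, 5, 5, 5, 6, 6, 6, 7, 7, 6, 6, 6, 5, 5, 5, 4, 4, 3, 2, 2, 2, 1, 1, 1], [2, 0, 2, 0, 4, 0, 6, 0, 8, 0, 10, 0, 12, 0, 12, 0, 14, 0, 12, 0, 12, 0, 10, 0, 8, 0, 6, 0, 4, 0, 2, 0, 2], [2, 0, 2, 0, 4, 0, 8, 0, 10, 0, 12, 0, 18, 0, 18, 0, 20, 0, 22, 0, 20, 0, 18, 0, 18, 0, 12, 0, 10, 0, 8, 0, 4, 0, 2, 0, 2]] : List (List ℤ)).getD i []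
  hF := by decide +kernel
  hcf := by decide +kernel
  hsum := by decide +kernel
  hne := by decide +kernel
  NL := [1, 1, 1, 1, 2, 2, 3, 3, 4, 4, 5, 5, 6, 6, 6, 6, 7, 7, 6, 6, 6, 6, 5, 5, 4, 4, 3, 3, 2, 2, 1, 1, 1, 1]
  nr := 63
  nz := ⟨by decide⟩
  Z := rt
  hZ := ⟨by decide +kernel, by decide +kernel, by decide +kernel⟩
  kap := kap
  hkap := by decide +kernel
  VV := VV
  hVV := hVV
  hD := by decide +kernel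

end Cfsg.Agent.H996.PQ.FullE7c
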