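import Cfsg.Agent.H996.PQ.RowsX
import Cfsg.Agent.H996.Eight.TabE7b
import Cfsg.Agent.H996.PQ.FullE7c

/-!
# The separation theorem and the polynomials: `E₇(q)`, node `1` (helper996, for S4612; made by a program)
-/

set_option autoImplicit false
set_option maxRecDepth 20000

namespace Cfsg.Agent.H996.PQ.FullE7c

open Cfsg Cfsg.Agent.H317.PQ Cfsg.Agent.H64.Dl.Sph Cfsg.Agent.H996.Eight Cfsg.Agent.H996.Eight.Cert Cfsg.Agent.H35.ExcIdx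
open Cfsg.Lie Cfsg.Agent.ChevalleyStructure.CoxeterGeomTypes Cfsg.Agent.Nodes.RGDChev

universe u

theorem evN (x : ℤ) : evZ x pol.N = (x + 1) ^ 4 * (x ^ 2 + x + 1) * (x ^ 2 + 1) * (x ^ 2 - x + 1) ^ 2 * (x ^ 4 + 1) * (x ^ 6 + x ^ 3 + 1) * (x ^ 4 - x ^ 3 + x ^ 2 - x + 1) * (x ^ 4 - x ^ 2 + 1) * (x ^ 6 - x ^ 5 + x ^ 4 - x ^ 3 + x ^ 2 - x + 1) * (x ^ 6 - x ^ 3 + 1) := by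
  show evZ x [1, 1, 1, 2, 3, 4, 5, 7, 8, 10, 12, 14, 16, 18, 20, 22, 24, 25, 26, 27, 28, 28, 28, 27, 26, 25, 24, 22, 20, 18, 16, 14, 12, 10, 8, 7, 5, 4, 3, 2, 1, 1, 1] = _
  simp only [evZ]
  ring

theorem evD1 (x : ℤ) : evZ x (pol.D 1) = x ^ 16 * (x + 1) * (x ^ 2 + x + 1) * (x ^ 2 - x + 1) * (x ^ 6 + x ^ 3 + 1) * (x ^ 6 - x ^ 3 + 1) := by
  show evZ x [0, 0, 0, 0, 0, 0, 0, 0, 0, 0, 0, 0, 0, 0, 0, 0, 1, 1, 1, 1, 1, 1, 1, 1, 1, 1, 1, 1, 1, 1, 1, 1, 1, 1] = _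
  simp only [evZ]
  ring

theorem evD2 (x : ℤ) : evZ x (pol.D 2) = x ^ 16 * (x + 1) * (x ^ 6 + x ^ 5 + x ^ 4 + x ^ 3 + x ^ 2 + x + 1) * (x ^ 4 + 1) * (x ^ 6 - x ^ 5 + x ^ 4 - x ^ 3 + x ^ 2 - x + 1) := by
  show evZ x [0, 0, 0, 0, 0, 0, 0, 0, 0, 0, 0, 0, 0, 0, 0, 0, 1, 1, 1, 1, 2, 2, 2, 2, 2, 2, 2, 2, 2, 2, 1, 1, 1, 1] = _
  simp only [evZ]
  ring

theorem evD3 (x : ℤ) : evZ x (pol.D 3) = x ^ 16 * (x + 1) * (x ^ 2 + x + 1) * (x ^ 4 + x ^ 3 + x ^ 2 + x + 1) * (x ^ 2 - x + 1) * (x ^ 4 - x ^ 3 + x ^ 2 - x + 1) * (x ^ 4 - x ^ 2 + 1) := by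
  show evZ x [0, 0, 0, 0, 0, 0, 0, 0, 0, 0, 0, 0, 0, 0, 0, 0, 1, 1, 1, 1, 2, 2, 2, 2, 3, 3, 2, 2, 2, 2, 1, 1, 1, 1] = _
  simp only [evZ]
  ring

theorem evD4 (x : ℤ) : evZ x (pol.D 4) = x ^ 15 * (x + 1) * (x ^ 2 + x + 1) * (x ^ 2 - x + 1) * (x ^ 6 + x ^ 3 + 1) * (x ^ 7 - x ^ 4 + x ^ 3 + 2 * x - 1) := by
  show evZ x [0, 0, 0, 0, 0, 0, 0, 0, 0, 0, 0, 0, 0, 0, 0, -1, 1, 1, 1, 2, 2, 3, 3, 3, 4, 3, 3, 3, 2, 2, 1, 1, 1, 1] = _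
  simp only [evZ]
  ring

theorem evD5 (x : ℤ) : evZ x (pol.D 5) = x ^ 15 * (x ^ 2 + x + 1) * (x ^ 2 + 1) * (x ^ 4 + 1) * (x ^ 6 + x ^ 3 + 1) * (x ^ 4 - x ^ 2 + 1) := by
  show evZ x [0, 0, 0, 0, 0, 0, 0, 0, 0, 0, 0, 0, 0, 0, 0, 1, 1, 1, 1, 2, 2, 3, 3, 3, 2, 3, 3, 3, 2, 2, 1, 1, 1, 1] = _
  simp only [evZ]
  ring

theorem evD6 (x : ℤ) : evZ x (pol.D 6) = x ^ 15 * (x + 1) * (x ^ 2 + x + 1) * (x ^ 2 - x + 1) * (x ^ 6 + x ^ 5 + x ^ 4 + x ^ 3 + x ^ 2 + x + 1) * (x ^ 7 - x ^ 6 + x ^ 3 - x ^ 2 + 2 * x - 1) := by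
  show evZ x [0, 0, 0, 0, 0, 0, 0, 0, 0, 0, 0, 0, 0, 0, 0, -1, 0, 0, 1, 2, 3, 4, 5, 5, 5, 4, 3, 3, 2, 2, 1, 1, 1, 1] = _
  simp only [evZ]
  ring

theorem evD7 (x : ℤ) : evZ x (pol.D 7) = x ^ 15 * (x ^ 2 + x + 1) * (x ^ 6 + x ^ 5 + x ^ 4 + x ^ 3 + x ^ 2 + x + 1) * (x ^ 4 - x ^ 2 + 1) * (x ^ 6 - x ^ 5 + x ^ 4 + 1) := by
  show evZ x [0, 0, 0, 0, 0, 0, 0, 0, 0, 0, 0, 0, 0, 0, 0, 1, 2, 2, 1, 2, 3, 4, 3, 3, 3, 4, 3, 3, 2, 2, 1, 1, 1, 1] = _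
  simp only [evZ]
  ring

theorem evD8 (x : ℤ) : evZ x (pol.D 8) = x ^ 16 * (x + 1) * (x ^ 16 + x ^ 14 + 2 * x ^ 12 + 3 * x ^ 10 + 4 * x ^ 8 + 4 * x ^ 6 + 4 * x ^ 4 + 2 * x ^ 2 + 2) := by
  show evZ x [0, 0, 0, 0, 0, 0, 0, 0, 0, 0, 0, 0, 0, 0, 0, 0, 2, 2, 2, 2, 4, 4, 4, 4, 4, 4, 3, 3, 2, 2, 1, 1, 1, 1] = _
  simp only [evZ]
  ring

theorem evD9 (x : ℤ) : evZ x (pol.D 9) = x ^ 16 * (x + 1) * (x ^ 2 + x + 1) * (x ^ 2 + 1) * (x ^ 2 - x + 1) * (x ^ 4 + 1) * (x ^ 6 - x ^ 4 + x ^ 2 + 1) := by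
  show evZ x [0, 0, 0, 0, 0, 0, 0, 0, 0, 0, 0, 0, 0, 0, 0, 0, 1, 1, 3, 3, 4, 4, 5, 5, 4, 4, 3, 3, 2, 2, 1, 1, 1, 1] = _
  simp only [evZ]
  ring

theorem evdn1 (x : ℤ) : evZ x (pol.dn 1) = x * (x ^ 6 + x ^ 5 + x ^ 4 + x ^ 3 + x ^ 2 + x + 1) * (x ^ 4 - x ^ 2 + 1) * (x ^ 6 - x ^ 5 + x ^ 4 - x ^ 3 + x ^ 2 - x + 1) := by
  show evZ x [0, 1, 0, 0, 0, 1, 0, 1, 0, 1, 0, 1, 0, 1, 0, 0, 0, 1] = _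
  simp only [evZ]
  ring

theorem evdn2 (x : ℤ) : evZ x (pol.dn 2) = x ^ 2 * (x ^ 2 + x + 1) ^ 2 * (x ^ 2 - x + 1) ^ 2 * (x ^ 6 + x ^ 3 + 1) * (x ^ 4 - x ^ 2 + 1) * (x ^ 6 - x ^ 3 + 1) := by
  show evZ x [0, 0, 1, 0, 1, 0, 2, 0, 2, 0, 3, 0, 3, 0, 3, 0, 3, 0, 3, 0, 2, 0, 2, 0, 1, 0, 1] = _
  simp only [evZ]
  ring

theorem evdn3 (x : ℤ) : evZ x (pol.dn 3) = x ^ 3 * (x ^ 6 + x ^ 5 + x ^ 4 + x ^ 3 + x ^ 2 + x + 1) * (x ^ 6 + x ^ 3 + 1) * (x ^ 6 - x ^ 5 + x ^ 4 - x ^ 3 + x ^ 2 - x + 1) * (x ^ 6 - x ^ 3 + 1) := by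
  show evZ x [0, 0, 0, 1, 0, 1, 0, 1, 0, 2, 0, 2, 0, 2, 0, 3, 0, 2, 0, 2, 0, 2, 0, 1, 0, 1, 0, 1] = _
  simp only [evZ]
  ring

theorem evdn4 (x : ℤ) : evZ x (pol.dn 4) = x ^ 3 * (x ^ 4 + x ^ 3 + x ^ 2 + x + 1) * (x ^ 6 + x ^ 5 + x ^ 4 + x ^ 3 + x ^ 2 + x + 1) * (x ^ 4 + 1) * (x ^ 4 - x ^ 2 + 1) * (x ^ 6 - x ^ 5 + x ^ 4 - x ^ 3 + x ^ 2 - x + 1) * (x ^ 6 - x ^ 3 + 1) := by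
  show evZ x [0, 0, 0, 1, 1, 1, 0, 2, 1, 3, 1, 4, 1, 5, 1, 6, 2, 6, 0, 6, 2, 6, 1, 5, 1, 4, 1, 3, 1, 2, 0, 1, 1, 1] = _
  simp only [evZ]
  ring

theorem evdn5 (x : ℤ) : evZ x (pol.dn 5) = x ^ 3 * (x + 1) ^ 4 * (x ^ 2 - x + 1) ^ 2 * (x ^ 6 + x ^ 5 + x ^ 4 + x ^ 3 + x ^ 2 + x + 1) * (x ^ 4 - x ^ 3 + x ^ 2 - x + 1) * (x ^ 6 - x ^ 5 + x ^ 4 - x ^ 3 + x ^ 2 - x + 1) * (x ^ 6 - x ^ 3 + 1) := by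
  show evZ x [0, 0, 0, 1, 1, 1, 2, 2, 3, 3, 3, 4, 5, 5, 5, 6, 6, 6, 6, 6, 6, 6, 5, 5, 5, 4, 3, 3, 3, 2, 2, 1, 1, 1] = _
  simp only [evZ]
  ring

theorem evdn6 (x : ℤ) : evZ x (pol.dn 6) = x ^ 4 * (x ^ 4 + x ^ 3 + x ^ 2 + x + 1) * (x ^ 4 + 1) * (x ^ 6 + x ^ 3 + 1) * (x ^ 4 - x ^ 3 + x ^ 2 - x + 1) * (x ^ 4 - x ^ 2 + 1) * (x ^ 6 - x ^ 5 + x ^ 4 - x ^ 3 + x ^ 2 - x + 1) * (x ^ 6 - x ^ 3 + 1) := by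
  show evZ x [0, 0, 0, 0, 1, -1, 1, -1, 3, -3, 5, -4, 6, -6, 9, -7, 11, -9, 11, -9, 13, -10, 13, -9, 11, -9, 11, -7, 9, -6, 6, -4, 5, -3, 3, -1, 1, -1, 1] = _
  simp only [evZ]
  ring

theorem evdn7 (x : ℤ) : evZ x (pol.dn 7) = x ^ 4 * (x + 1) ^ 4 * (x ^ 4 + x ^ 3 + x ^ 2 + x + 1) * (x ^ 2 - x + 1) ^ 2 * (x ^ 6 + x ^ 3 + 1) * (x ^ 4 - x ^ 3 + x ^ 2 - x + 1) * (x ^ 6 - x ^ 5 + x ^ 4 - x ^ 3 + x ^ 2 - x + 1) * (x ^ 6 - x ^ 3 + 1) := by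
  show evZ x [0, 0, 0, 0, 1, 1, 1, 3, 3, 3, 5, 6, 6, 8, 9, 9, 11, 11, 11, 13, 13, 12, 13, 13, 11, 11, 11, 9, 9, 8, 6, 6, 5, 3, 3, 3, 1, 1, 1] = _
  simp only [evZ]
  ring

theorem evdn8 (x : ℤ) : evZ x (pol.dn 8) = x ^ 5 * (x ^ 2 + x + 1) ^ 2 * (x ^ 2 - x + 1) ^ 2 * (x ^ 6 + x ^ 5 + x ^ 4 + x ^ 3 + x ^ 2 + x + 1) * (x ^ 6 + x ^ 3 + 1) * (x ^ 4 - x ^ 2 + 1) * (x ^ 6 - x ^ 5 + x ^ 4 - x ^ 3 + x ^ 2 - x + 1) * (x ^ 6 - x ^ 3 + 1) := by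
  show evZ x [0, 0, 0, 0, 0, 1, 0, 2, 0, 4, 0, 6, 0, 9, 0, 12, 0, 15, 0, 17, 0, 19, 0, 19, 0, 19, 0, 17, 0, 15, 0, 12, 0, 9, 0, 6, 0, 4, 0, 2, 0, 1] = _
  simp only [evZ]
  ring

theorem evdn9 (x : ℤ) : evZ x (pol.dn 9) = x ^ 6 * (x ^ 4 + x ^ 3 + x ^ 2 + x + 1) * (x ^ 6 + x ^ 5 + x ^ 4 + x ^ 3 + x ^ 2 + x + 1) * (x ^ 6 + x ^ 3 + 1) * (x ^ 4 - x ^ 3 + x ^ 2 - x + 1) * (x ^ 4 - x ^ 2 + 1) * (x ^ 6 - x ^ 5 + x ^ 4 - x ^ 3 + x ^ 2 - x + 1) * (x ^ 6 - x ^ 3 + 1) := by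
  show evZ x [0, 0, 0, 0, 0, 0, 1, 0, 1, 0, 2, 0, 4, 0, 5, 0, 6, 0, 9, 0, 9, 0, 10, 0, 11, 0, 10, 0, 9, 0, 9, 0, 6, 0, 5, 0, 4, 0, 2, 0, 1, 0, 1] = _
  simp only [evZ]
  ring

/-- the degrees: `evdn` -/
theorem deg {x : ℕ} (hx : 2 ≤ x) (i : Fin 10) : (pol.den i : ℤ) * (pol.deg x i : ℤ) = evZ x (pol.dn i) :=
  full.degZ hx i

theorem hA : cartanOf chevE7 7 = TabE7c.A := by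
  funext i k
  revert i k
  decide +kernel

/-- the eigenvalues of the double cosets: row `i` (constituent), column `c` (double coset) -/
def lamL : List (List (List ℤ)) :=
  [[[1], [0, 1, 1, 2, 3, 4, 4, 5, 4, 4, 3, 2, 1, 1], [0, 0, 0, 0, 0, 0, 1, 2, 4, 6, 9, 11, 13, 13, 13, 11, 9, 6, 4, 2, 1], [0, 0, 0, 0, 0, 0, 0, 0, 0, 0, 0, 1, 2, 4, 7, 10, 13, 16, 17, 17, 16, 13, 10, 7, 4, 2, 1], [0, 0, 0, 0, 0, 0, 0, 0, 0, 0, 0, 0, 0, 0, 0, 1, 1, 1, 1, 1, 1, 1], [0, 0, 0, 0, 0, 0, 0, 0, 0, 0, 0, 0, 0, 0, 0, 0, 1, 2, 4, 7, 10, 13, 16, 17, 17, 16, 13, 10, 7, 4, 2, 1], [0, 0, 0, 0, 0, 0, 0, 0, 0, 0, 0, 0, 0, 0, 0, 0, 0, 0, 0, 0, 0, 1, 1, 1, 1, 1, 1, 1], [0, 0, 0, 0, 0, 0, 0, 0, 0, 0, 0, 0, 0, 0, 0, 0, 0, 0, 0, 0,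 0, 0, 1, 2, 4, 6, 9, 11, 13, 13, 13, 11, 9, 6, 4, 2, 1], [0, 0, 0, 0, 0, 0, 0, 0, 0, 0, 0, 0, 0, 0, 0, 0, 0, 0, 0, 0, 0, 0, 0, 0, 0, 0, 0, 0, 0, 1, 1, 2, 3, 4, 4, 5, 4, 4, 3, 2, 1, 1], [0, 0, 0, 0, 0, 0, 0, 0, 0, 0, 0, 0, 0, 0, 0, 0, 0, 0, 0, 0, 0, 0, 0, 0, 0, 0, 0, 0, 0, 0, 0, 0, 0, 0, 0, 0, 0, 0, 0, 0, 0, 0, 1]],
   [[1], [-1, 0, 0, 1, 2, 4, 4, 5, 4, 3, 2, 1], [0, 0, 0, -1, -2, -4, -4, -4, -1, 2, 7, 10, 12, 11, 9, 6, 3, 1], [0, 0, 0, 0, 0, 0, 0, -1, -3, -5, -8, -9, -8, -5, 0, 6, 10, 12, 12, 9, 6, 3, 1], [0, 0, 0, 0, 0, 0, 0, 0, 0, 0, -1, -1, -1, 0, 0, 1, 1, 1, 1], [0, 0, 0, 0, 0, 0, 0, 0, 0, 0, 0, -1, -3, -6, -9, -12, -12, -10, -6, 0, 5, 8, 9, 8, 5, 3, 1], [0, 0, 0, 0, 0, 0, 0, 0, 0, 0, 0, 0, 0, 0,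 0, -1, -1, -1, -1, 0, 0, 1, 1, 1], [0, 0, 0, 0, 0, 0, 0, 0, 0, 0, 0, 0, 0, 0, 0, 0, -1, -3, -6, -9, -11, -12, -10, -7, -2, 1, 4, 4, 4, 2, 1], [0, 0, 0, 0, 0, 0, 0, 0, 0, 0, 0, 0, 0, 0, 0, 0, 0, 0, 0, 0, 0, 0, -1, -2, -3, -4, -5, -4, -4, -2, -1, 0, 0, 1], [0, 0, 0, 0, 0, 0, 0, 0, 0, 0, 0, 0, 0, 0, 0, 0, 0, 0, 0, 0, 0, 0, 0, 0, 0, 0, 0, 0, 0, 0, 0, 0, 0, -1]],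
   [[1], [-1, 0, -1, 0, 1, 3, 3, 4, 3, 2, 1], [0, 0, 1, 0, -1, -4, -5, -7, -5, -2, 3, 6, 7, 6, 4, 2], [0, 0, 0, 0, 0, 1, 2, 2, 1, -2, -7, -10, -11, -9, -4, 1, 4, 5, 4, 2, 1], [0, 0, 0, 0, 0, 0, 0, 1, 0, 0, -1, -1, -1, -1, 0, 1, 1], [0, 0, 0, 0, 0, 0, 0, 0, 1, 2, 4, 5, 4, 1, -4, -9, -11, -10, -7, -2, 1, 2, 2, 1], [0, 0, 0, 0, 0, 0, 0, 0, 0, 0, 0, 0, 1, 1, 0, -1, -1, -1, -1, 0, 0, 1], [0, 0, 0, 0, 0, 0, 0, 0, 0, 0, 0, 0, 0, 2, 4, 6, 7, 6, 3, -2, -5, -7, -5, -4, -1, 0, 1], [0, 0, 0, 0, 0, 0, 0, 0, 0, 0, 0, 0, 0, 0, 0, 0, 0, 0, 1, 2, 3, 4, 3, 3, 1, 0, -1, 0, -1], [0, 0, 0, 0, 0, 0, 0, 0, 0, 0, 0, 0, 0, 0, 0, 0, 0, 0, 0, 0, 0, 0, 0, 0, 0, 0, 0, 0, 1]],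
   [[1], [-1, 0, -1, 0, 0, 1, 1, 2, 1, 1, 1], [0, 0, 1, 0, 0, -2, -2, -4, -4, -4, -2, -1, 0, 1, 1, 1], [0, 0, 0, 0, 0, 1, 2, 3, 4, 4, 3, 2, 0, -1, -1, -1, 0, 1, 1, 1, 1], [0, 0, 0, 0, 0, 0, -1, 0, 0, 0, -1, -1, -1, -1, -1, -1], [0, 0, 0, 0, 0, 0, 0, -1, -1, -1, -1, 0, 1, 1, 1, 0, -2, -3, -4, -4, -3, -2, -1], [0, 0, 0, 0, 0, 0, 0, 0, 0, 0, 0, 0, 1, 1, 1, 1, 1, 1, 0, 0, 0, 1], [0, 0, 0, 0, 0, 0, 0, 0, 0, 0, 0, 0, -1, -1, -1, 0, 1, 2, 4, 4, 4, 2, 2, 0, 0, -1], [0, 0, 0, 0, 0, 0, 0, 0, 0, 0, 0, 0, 0, 0, 0, 0, 0, -1, -1, -1, -2, -1, -1, 0, 0, 1, 0, 1], [0, 0, 0, 0, 0, 0, 0, 0, 0, 0, 0, 0, 0, 0, 0, 0, 0, 0, 0, 0, 0, 0, 0, 0, 0, 0, 0, -1]],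
   [[1], [-1, 0, -1, -1, 0, 0, 0, 1, 0, 1], [0, 0, 1, 1, 1, 0, 0, -1, -2, -2, -1, -1, 0, 0, 1], [0, 0, 0, 0, -1, 0, 0, 0, 2, 1, 1, 1, -1, -1, -2, -2, -1, -1], [0, 0, 0, 0, 0, 0, 0, 1, 1, 1, 1, 1, 1, 0, 0, 1], [0, 0, 0, 0, 0, 0, 0, -1, -1, -2, -2, -1, -1, 1, 1, 1, 2, 0, 0, 0, -1], [0, 0, 0, 0, 0, 0, 0, 0, 0, 1, 0, 0, 1, 1, 1, 1, 1, 1], [0, 0, 0, 0, 0, 0, 0, 0, 0, 0, 1, 0, 0, -1, -1, -2, -2, -1, 0, 0, 1, 1, 1], [0, 0, 0, 0, 0, 0, 0, 0, 0, 0, 0, 0, 0, 0, 0, 1, 0, 1, 0, 0, 0, -1, -1, 0, -1], [0, 0, 0, 0, 0, 0, 0, 0, 0, 0, 0, 0, 0, 0, 0, 0, 0, 0, 0, 0, 0, 0, 0, 0, 1]],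
   [[1], [-1, 0, -1, -1, 0, 2, 2, 3, 2, 1], [0, 0, 1, 1, 1, -2, -4, -7, -6, -4, 1, 3, 4, 2, 1], [0, 0, 0, 0, -1, 0, 2, 4, 4, 3, -3, -7, -9, -7, -4, 0, 1, 1], [0, 0, 0, 0, 0, 0, 0, 1, 1, 1, -1, -1, -1, 0, 0, 1], [0, 0, 0, 0, 0, 0, 0, -1, -1, 0, 4, 7, 9, 7, 3, -3, -4, -4, -2, 0, 1], [0, 0, 0, 0, 0, 0, 0, 0, 0, -1, 0, 0, 1, 1, 1, -1, -1, -1], [0, 0, 0, 0, 0, 0, 0, 0, 0, 0, -1, -2, -4, -3, -1, 4, 6, 7, 4, 2, -1, -1, -1], [0, 0, 0, 0, 0, 0, 0, 0, 0, 0, 0, 0, 0, 0, 0, -1, -2, -3, -2, -2, 0, 1, 1, 0, 1], [0, 0, 0, 0, 0, 0, 0, 0, 0, 0, 0, 0, 0, 0, 0, 0, 0, 0, 0, 0, 0, 0, 0, 0, -1]],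
   [[1], [-1, 0, -1, -1, -1, -1, -1, 0, -1], [0, 0, 1, 1, 2, 2, 3, 3, 3, 2, 2, 1, 1], [0, 0, 0, 0, -1, -1, -2, -3, -3, -4, -4, -3, -3, -2, -1, -1], [0, 0, 0, 0, 0, 0, -1, -1, -1, -1, -1, -1, -1], [0, 0, 0, 0, 0, 0, 1, 1, 2, 3, 3, 4, 4, 3, 3, 2, 1, 1], [0, 0, 0, 0, 0, 0, 0, 0, 0, 1, 1, 1, 1, 1, 1, 1], [0, 0, 0, 0, 0, 0, 0, 0, 0, -1, -1, -2, -2, -3, -3, -3, -2, -2, -1, -1], [0, 0, 0, 0, 0, 0, 0, 0, 0, 0, 0, 0, 0, 1, 0, 1, 1, 1, 1, 1, 0, 1], [0, 0, 0, 0, 0, 0, 0, 0, 0, 0, 0, 0, 0, 0, 0, 0, 0, 0, 0, 0, 0, -1]],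
   [[1], [-1, 0, -1, -1, -1, 1, 1, 2, 1], [0, 0, 1, 1, 2, 0, -1, -5, -5, -4, 0, 1, 1], [0, 0, 0, 0, -1, -1, 0, 3, 5, 6, 2, -1, -3, -2, -1, 1], [0, 0, 0, 0, 0, 0, -1, 1, 1, 1, -1, -1, -1], [0, 0, 0, 0, 0, 0, 1, -1, -2, -3, -1, 2, 6, 5, 3, 0, -1, -1], [0, 0, 0, 0, 0, 0, 0, 0, 0, -1, -1, -1, 1, 1, 1, -1], [0, 0, 0, 0, 0, 0, 0, 0, 0, 1, 1, 0, -4, -5, -5, -1, 0, 2, 1, 1], [0, 0, 0, 0, 0, 0, 0, 0, 0, 0, 0, 0, 0, 1, 2, 1, 1, -1, -1, -1, 0, -1], [0, 0, 0, 0, 0, 0, 0, 0, 0, 0, 0, 0, 0, 0, 0, 0, 0, 0, 0, 0, 0, 1]],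
   [[1], [-1, 0, -1, -1, -1, 0, 0, 1], [0, 0, 1, 1, 2, 1, 1, -1, -2, -2], [0, 0, 0, 0, -1, -1, -1, 0, 2, 3, 2, 1, 0, -1], [0, 0, 0, 0, 0, 0, -1, 0, 1, 1], [0, 0, 0, 0, 0, 0, 1, 0, -1, -2, -3, -2, 0, 1, 1, 1], [0, 0, 0, 0, 0, 0, 0, 0, 0, 0, -1, -1, 0, 1], [0, 0, 0, 0, 0, 0, 0, 0, 0, 0, 2, 2, 1, -1, -1, -2, -1, -1], [0, 0, 0, 0, 0, 0, 0, 0, 0, 0, 0, 0, -1, 0, 0, 1, 1, 1, 0, 1], [0, 0, 0, 0, 0, 0, 0, 0, 0, 0, 0, 0, 0, 0, 0, 0, 0, 0, 0, -1]],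
   [[1], [-1, 0, -1, -1, -1, 0, -1], [0, 0, 1, 1, 2, 1, 2, 1, 1], [0, 0, 0, 0, -1, -1, -1, -1, -1, 0, 0, 0, 1], [0, 0, 0, 0, 0, 0, -1], [0, 0, 0, 0, 0, 0, 1, 0, 0, 0, -1, -1, -1, -1, -1], [0, 0, 0, 0, 0, 0, 0, 0, 0, 0, 0, 0, -1], [0, 0, 0, 0, 0, 0, 0, 0, 0, 0, 1, 1, 2, 1, 2, 1, 1], [0, 0, 0, 0, 0, 0, 0, 0, 0, 0, 0, 0, -1, 0, -1, -1, -1, 0, -1], [0, 0, 0, 0, 0, 0, 0, 0, 0, 0, 0, 0, 0, 0, 0, 0, 0, 0, 1]]]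

/-- the eigenvalue of the double coset `c` on the constituent `i` -/
def lam (i c : Fin 10) : List ℤ := (lamL.getD i []).getD c []

theorem lam_ok : full.Lam lam := by
  show ∀ i c, pEq (pMul (lam i c) (full.P.nu i full.P.o)) (pMul (full.Da.kk c) (full.P.nu i c)) = true
  decide +kernel

/-- **The extended theorem.** -/
theorem sepX {K : Type u} [Field K] [Fintype K] {p l : ℕ} (hp : p.Prime) (hl : l.Prime)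
    (hS : Same p l ↥(chevE7.group K)) : SepX pol lam (Fintype.card K) p l (Nat.card ↥(chevE7.group K)) 0 :=
  split_sepX hpE7 K hA full lam_ok (by decide +kernel)
    H241.PQ.hi_E7 TabE7b.data (by decide +kernel) (by decide +kernel) hp hl hS

end Cfsg.Agent.H996.PQ.FullE7c
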