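import Cfsg.Agent.H996.PQ.TabE8c
import Cfsg.Agent.H996.PQ.Kr
import Cfsg.Agent.H996.Eight.TabE8a

/-!
# The link between the node `7` and the node `6` of `E₈` (helper996, for S4612; made by a program)

`f` the spherical function of the constituent of degree `1/2 q^3 P4^2 P7 P8 P9 P12 P14 P20 P24 P30` at node `7` (`TabE8a.c3`).
`W = f + T₇ f` on the 240 states, `k0 c = W (y0 c) + q W (y1 c)` on the 26 classes at node `6`, `k1 = (bb - θ) k0`,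
`k2 = (bb - θ) (k1 ∘ star)`. All `k2 c` are divisible by `q Φ₅ Φ₁₅`, `k2 = q Φ₅ Φ₁₅ k3`, and `K_c k3 c ≡ lam c * k3 o`
modulo `Φ₅`, where `lam c / K_c` is the spherical function of the constituent
`q^6 P3^3 P6^3 P7 P9 P12^2 P14 P15 P18 P24 P30` at node `6`; `k3 o` is a unit modulo `Φ₅`.
-/

set_option autoImplicit false
set_option maxRecDepth 20000

namespace Cfsg.Agent.H996.PQ.LinkE8

open Cfsg.Agent.H967.Sph Cfsg.Agent.H64.Dl.Sph Cfsg.Agent.H996.Eight Cfsg.Agent.H996.Eight.Cert Cfsg.Agent.H996.PQ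
  Cfsg.Agent.H996.PQ.Kr

/-- words of the representatives -/
def wd (c : Fin 26) : List (Fin 8) := ([[], [6], [6, 5, 7, 6], [6, 5, 4, 3, 1, 2, 3, 4, 5, 6], [6, 5, 4, 3, 1, 2, 3, 4, 5, 7, 6], [6, 5, 4, 3, 1, 2, 0, 3, 2, 4, 3, 5, 4, 6, 5, 7, 6], [6, 5, 4, 3, 2, 0, 7, 6, 5, 4, 3, 1, 2, 3, 4, 5, 6], [6, 5, 4, 3, 1, 2, 3, 4, 5, 6, 7, 6, 5, 4, 3, 1, 2, 3, 4, 5, 6], [6, 5, 4, 3, 1, 2, 0, 3, 4, 5, 6, 7, 6, 5, 4, 3, 1, 2, 3, 4, 5, 6], [6, 5, 4, 3, 1, 2, 0, 3, 2, 4, 3, 1, 5, 4, 3, 2, 0, 6, 5, 4, 3, 1, 2, 3, 4, 5, 6], [6, 5, 4, 3, 1, 2, 0, 3, 2, 7, 6, 5, 4, 3, 1, 2, 0, 3, 2, 4, 3, 5, 4, 6, 5, 7, 6], [6, 5, 4, 3, 1, 2, 0, 3, 2, 4, 3, 1, 5, 4, 3, 2, 0, 6, 5, 4, 3, 1, 2, 3, 4, 5, 7, 6], [6, 5, 4, 3, 1, 2, 0, 3, 2, 4, 3, 1, 5, 4, 3, 2, 0, 7, 6, 5, 4, 3, 1, 2, 3, 4, 5, 6], [6, 5, 4, 3, 1, 2,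 0, 3, 2, 4, 3, 1, 5, 4, 3, 2, 0, 6, 7, 6, 5, 4, 3, 1, 2, 3, 4, 5, 6], [6, 5, 4, 3, 1, 2, 0, 3, 2, 4, 3, 1, 5, 4, 3, 2, 7, 6, 5, 4, 3, 1, 2, 0, 3, 2, 4, 3, 5, 4, 6, 5, 7, 6], [6, 5, 4, 3, 1, 2, 0, 3, 2, 4, 3, 1, 5, 4, 3, 2, 0, 6, 5, 4, 3, 1, 2, 3, 4, 5, 6, 7, 6, 5, 4, 3, 1, 2, 3, 4, 5, 6], [6, 5, 4, 3, 1, 2, 3, 4, 5, 6, 7, 6, 5, 4, 3, 1, 2, 0, 3, 2, 4, 3, 1, 5, 4, 3, 2, 0, 6, 5, 4, 3, 1, 2, 3, 4, 5, 6], [6, 5, 4, 3, 1, 2, 0, 3, 2, 4, 3, 1, 5, 4, 3, 2, 0, 6, 5, 4, 3, 2, 7, 6, 5, 4, 3, 1, 2, 0, 3, 2, 4, 3, 5, 4, 6, 5, 7, 6], [6, 5, 4, 3, 1, 2, 0, 3, 4, 5, 6, 7, 6, 5, 4, 3, 1, 2, 0, 3, 2, 4, 3, 1, 5, 4, 3, 2, 0, 6, 5, 4, 3, 1, 2, 3, 4, 5, 7, 6], [6, 5, 4, 3, 1, 2, 0, 3, 2, 4, 3, 1, 5, 4, 3, 2, 0, 7, 6, 5, 4, 3, 1, 2, 0, 3, 2, 4, 3, 1, 5, 4, 3, 2, 0, 6, 5, 4, 3, 1, 2, 3, 4, 5, 7,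 6], [6, 5, 4, 3, 1, 2, 0, 3, 2, 4, 3, 1, 5, 4, 3, 2, 0, 6, 7, 6, 5, 4, 3, 1, 2, 0, 3, 2, 4, 3, 1, 5, 4, 3, 2, 0, 6, 5, 4, 3, 1, 2, 3, 4, 5, 7, 6], [6, 5, 4, 3, 1, 2, 0, 3, 2, 4, 3, 5, 4, 6, 5, 7, 6, 5, 4, 3, 1, 2, 0, 3, 2, 4, 3, 1, 5, 4, 3, 2, 0, 6, 5, 4, 3, 1, 2, 3, 4, 5, 6, 7, 6, 5, 4, 3, 1, 2, 3, 4, 5, 6], [6, 5, 4, 3, 1, 2, 0, 3, 2, 4, 3, 1, 5, 4, 3, 2, 0, 6, 5, 4, 3, 1, 2, 3, 4, 5, 6, 7, 6, 5, 4, 3, 1, 2, 0, 3, 2, 4, 3, 1, 5, 4, 3, 2, 0, 6, 5, 4, 3, 1, 2, 3, 4, 5, 6], [6, 5, 4, 3, 1, 2, 0, 3, 2, 4, 3, 1, 5, 4, 3, 2, 0, 6, 5, 4, 3, 1, 2, 3, 4, 5, 6, 7, 6, 5, 4, 3, 1, 2, 0, 3, 2, 4, 3, 1, 5, 4, 3, 2, 0, 6, 5, 4, 3, 1, 2, 3, 4, 5, 7, 6], [6, 5, 4, 3, 1, 2, 0, 3, 2, 4, 3, 1, 5, 4, 3, 2, 0, 6, 5, 4, 3, 1, 2, 3, 4, 5, 7, 6, 5, 4, 3, 1, 2, 0, 3, 2, 4, 3, 1, 5, 4, 3, 2, 0, 6, 5,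 4, 3, 1, 2, 3, 4, 5, 6, 7, 6, 5, 4, 3, 1, 2, 3, 4, 5, 6], [6, 5, 4, 3, 1, 2, 0, 3, 2, 4, 3, 1, 5, 4, 3, 2, 0, 6, 5, 4, 3, 1, 2, 3, 4, 5, 6, 7, 6, 5, 4, 3, 1, 2, 0, 3, 2, 4, 3, 1, 5, 4, 3, 2, 0, 6, 5, 4, 3, 1, 2, 3, 4, 5, 6, 7, 6, 5, 4, 3, 1, 2, 0, 3, 2, 4, 3, 1, 5, 4, 3, 2, 0, 6, 5, 4, 3, 1, 2, 3, 4, 5, 6]] : List (List (Fin 8))).getD c []

/-- the class of the inverse -/
def star (c : Fin 26) : Fin 26 := ([0, 1, 2, 3, 4, 6, 5, 7, 8, 9, 10, 12, 11, 13, 14, 16, 15, 18, 17, 19, 20, 21, 22, 23, 24, 25] : List (Fin 26)).getD c 0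

/-- the first state -/
def y0 (c : Fin 26) : Fin 240 := ([0, 0, 2, 0, 2, 19, 2, 19, 19, 0, 51, 19, 2, 19, 51, 112, 19, 121, 51, 121, 121, 190, 112, 121, 190, 238] : List (Fin 240)).getD c 0

/-- the second state -/
def y1 (c : Fin 26) : Fin 240 := ([1, 2, 3, 19, 19, 22, 51, 23, 51, 112, 57, 112, 121, 121, 121, 121, 190, 129, 190, 128, 190, 196, 238, 238, 238, 239] : List (Fin 240)).getD c 0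

theorem hwd : ∀ c, (wd c).foldl (fun b i => TabE8c.tab.st i b) TabE8c.tab.o = TabE8c.tab.crep c := by decide +kernel

theorem hstar : ∀ c, TabE8c.tab.cls ((wd c).reverse.foldl (fun b i => TabE8c.tab.st i b) TabE8c.tab.o) = star c := by
  decide +kernel

theorem star_star : ∀ c, star (star c) = c := by decide +kernel

theorem hvec : ∀ c, ¬ TabE8c.tab.vec (TabE8c.tab.crep c) 7 < 0 := by decide +kernel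

theorem hcls : ∀ c, TabE8c.tab.cls (TabE8c.tab.crep c) = c := by decide +kernel

theorem hy0 : ∀ c, (wd c).reverse.foldl (fun b i => TabE8a.tab.st i b) TabE8a.tab.o = y0 c := by decide +kernel

theorem hy1 : ∀ c, (7 :: (wd c).reverse).foldl (fun b i => TabE8a.tab.st i b) TabE8a.tab.o = y1 c := by decide +kernel

/-! ### polynomials -/

/-- the polynomial of `W` -/
def W7 (s : Fin 240) : List ℤ :=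
  pAdd (TabE8a.c3.nu (TabE8a.tab.cls s)) (if TabE8a.tab.vec s 7 < 0 then
    pAdd (TabE8a.c3.nu (TabE8a.tab.cls (TabE8a.tab.st 7 s))) (pMul [-1, 1] (TabE8a.c3.nu (TabE8a.tab.cls s)))
    else 0 :: TabE8a.c3.nu (TabE8a.tab.cls (TabE8a.tab.st 7 s)))

theorem W7_st : ∀ i, i ≠ 6 → ∀ s, pEq (W7 (TabE8a.tab.st i s)) (W7 s) = true := by decide +kernel

def k0L : List (List ℤ) := [[0, 0, 0, 0, 0, 0, 0, 0, 0, 0, 0, 0, 0, 0, 0, 0, 0, 0, 0, 0, 0, 0, 0, 0, 0, 0, 0, 0, 0, 0, 0, 1, 2, 2, 3, 4, 4, 5, 6, 6, 6, 6, 6, 6, 5, 4, 4, 3, 2, 2, 1], [0, 0, 0, 0, 0, 0, 0, 0, 0, 0, 0, 0, 0, 0, 0, 0, 0, 0, 0, 0, 0, 0, 0, 0, 0, 0, 0, 0, 0, 0, -1, 0, 1, 0, 1, 2, 1, 2, 3, 3, 3, 3, 3, 3, 2, 2, 2, 1, 1, 1], [0, 0, 0, 0, 0, 0, 0, 0, 0, 0, 0, 0, 0, 0, 0, 0, 0, 0, 0, 0, 0, 0, 0, 0, 0, 0, 0, 0, 0, -1, -2, -1, -1,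 -2, -1, -1, -2, -1], [0, 0, 0, 0, 0, 0, 0, 0, 0, 0, 0, 0, 0, 0, 0, 0, 0, 0, 0, 0, 0, 0, 0, 0, 0, 1, 0, 0, 1, 0, -1, 1, 1, 0, 2, 2, 1, 3, 3, 3, 3, 3, 3, 3, 2, 2, 2, 1, 1, 1], [0, 0, 0, 0, 0, 0, 0, 0, 0, 0, 0, 0, 0, 0, 0, 0, 0, 0, 0, 0, 0, 0, 0, 0, 0, 1, 0, 0, 1, -1, -2, 0, -1, -2, 0, -1, -2], [0, 0, 0, 0, 0, 0, 0, 0, 0, 0, 0, 0, 0, 0, 0, 0, 0, 0, 0, 0, 0, 0, 0, 0, 1, 1, 0, 1, 1, -1, -1, 0, -1, -1, 0, -1, -1], [0, 0, 0, 0, 0, 0, 0, 0, 0, 0, 0, 0, 0, 0, 0, 0, 0, 0, 0, 0, 0, 0, 0, 0, 1, 1, 0, 1, 1, -1, -1, 0, -1, -1, 0, -1, -1], [0, 0, 0, 0, 0, 0, 0, 0, 0, 0, 0, 0, 0, 0, 0, 0, 0, 0, 0, 0, 0, 0, 0, 0, 1, 1, 0, 1, 1, -1, -1, 0, -1, -1, 0, -1, -1], [0, 0, 0, 0, 0, 0, 0, 0, 0, 0, 0, 0, 0, 0, 0, 0, 0, 0, 0, 0, 0, 0, 0, 0, 2, 1, 0, 2, 1, -1, 0, 0, -1, 0, 0, -1], [0, 0, 0, 0, 0, 0, 0,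 0, 0, 0, 0, 0, 0, 0, 0, 0, -1, 0, 0, -1, 0, 0, -1, 0, 0, 0, 0, 0, 0, 0, -1, 1, 1, 0, 2, 2, 1, 3, 3, 3, 3, 3, 3, 3, 2, 2, 2, 1, 1, 1], [0, 0, 0, 0, 0, 0, 0, 0, 0, 0, 0, 0, 0, 0, 0, 0, 0, 0, 0, 0, 0, 0, 0, 1, 2, 1, 1, 2, 1], [0, 0, 0, 0, 0, 0, 0, 0, 0, 0, 0, 0, 0, 0, 0, 0, -1, 0, 0, -1, 0, 0, -1, 0, 1, 0, 0, 1, 0, -1, -1, 0, -1, -1, 0, -1, -1], [0, 0, 0, 0, 0, 0, 0, 0, 0, 0, 0, 0, 0, 0, 0, 0, -1, 0, 0, -1, 0, 0, -1, 0, 1, 0, 0, 1, 0, -1, -1, 0, -1, -1, 0, -1, -1], [0, 0, 0, 0, 0, 0, 0, 0, 0, 0, 0, 0, 0, 0, 0, 0, -1, 0, 0, -1, 0, 0, -1, 0, 2, 0, 0, 2, 0, -1, 0, 0, -1, 0, 0, -1], [0, 0, 0, 0, 0, 0, 0, 0, 0, 0, 0, 0, 0, 0, 0, 0, -1, 0, 0, -1, 0, 0, -1, 1, 2, 0, 1, 2], [0, 0, 0, 0, 0, 0, 0, 0, 0, 0, 0, 0, 0, 0, 0, -1, -1, 0, -1, -1, 0, -1, -1, 0, 1, 0, 0, 1, 0, -1, 0, 0, -1, 0, 0,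 -1], [0, 0, 0, 0, 0, 0, 0, 0, 0, 0, 0, 0, 0, 0, 0, -1, -1, 0, -1, -1, 0, -1, -1, 0, 1, 0, 0, 1, 0, -1, 0, 0, -1, 0, 0, -1], [0, 0, 0, 0, 0, 0, 0, 0, 0, 0, 0, 0, 0, 0, 0, -1, -1, 0, -1, -1, 0, -1, -1, 1, 1, 0, 1, 1], [0, 0, 0, 0, 0, 0, 0, 0, 0, 0, 0, 0, 0, 0, 0, -1, -1, 0, -1, -1, 0, -1, -1, 1, 1, 0, 1, 1], [0, 0, 0, 0, 0, 0, 0, 0, 0, 0, 0, 0, 0, 0, 0, -1, -1, 0, -1, -1, 0, -1, -1, 1, 1, 0, 1, 1], [0, 0, 0, 0, 0, 0, 0, 0, 0, 0, 0, 0, 0, 0, 0, -2, -1, 0, -2, -1, 0, -2, -1, 1, 0, 0, 1], [0, 0, 0, 0, 0, 0, 0, 0, 0, 0, 0, 0, 0, 0, -1, -2, -1, -1, -2, -1, -1, -2, -1], [0, 0, 1, 1, 1, 2, 2, 2, 3, 3, 3, 3, 3, 3, 3, 1, 2, 2, 0, 1, 1, -1, 0, 0, 0, 0, 0, 0, 0, -1, 0, 0, -1, 0, 0, -1], [0, 0, 1, 1, 1, 2, 2, 2, 3, 3, 3, 3, 3, 3, 3, 1, 2, 2, 0, 1, 1, -1, 0, 1, 0, 0, 1], [0, 0, 1, 1, 1, 2,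 2, 2, 3, 3, 3, 3, 3, 3, 2, 1, 2, 1, 0, 1, 0, -1], [0, 1, 2, 2, 3, 4, 4, 5, 6, 6, 6, 6, 6, 6, 5, 4, 4, 3, 2, 2, 1]]

def k1L : List (List ℤ) := [[0, 0, 0, 0, 0, 0, 0, 0, 0, 0, 0, 0, 0, 0, 0, 0, 0, 0, 0, 0, 0, 0, 0, 0, 0, 0, 0, 0, 0, 0, -1, -3, -5, -7, -10, -14, -18, -22, -27, -31, -33, -35, -37, -37, -35, -33, -31, -27, -22, -18, -14, -10, -7, -5, -3, -1], [0, 0, 0, 0, 0, 0, 0, 0, 0, 0, 0, 0, 0, 0, 0, 0, 0, 0, 0, 0, 0, 0, 0, 0, 0, 0, 0, 0, 0, 1, 1, 0, -1, -1, -2, -4, -6, -7, -11, -14, -15, -16, -18, -18, -17, -16, -15, -12, -10, -8, -6, -4, -3, -2, -1], [0, 0, 0, 0, 0, 0, 0, 0, 0, 0, 0, 0, 0, 0, 0, 0, 0, 0, 0, 0, 0, 0, 0, 0, 0, 0, 0, 0, 1, 3, 4, 4, 5, 7, 8, 8, 9, 9, 6, 4, 4, 3, 1], [0, 0, 0, 0, 0, 0, 0, 0, 0, 0, 0, 0, 0, 0, 0, 0, 0, 0, 0, 0, 0, 0, 0, 0, -1, -1, -1, -1, -2, -1,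 -1, -2, -4, -3, -4, -6, -8, -10, -14, -15, -16, -17, -19, -18, -17, -16, -15, -12, -10, -8, -6, -4, -3, -2, -1], [0, 0, 0, 0, 0, 0, 0, 0, 0, 0, 0, 0, 0, 0, 0, 0, 0, 0, 0, 0, 0, 0, 0, 0, -1, -1, -1, -1, -1, 1, 2, 2, 2, 5, 6, 6, 7, 6, 3, 3, 3, 2], [0, 0, 0, 0, 0, 0, 0, 0, 0, 0, 0, 0, 0, 0, 0, 0, 0, 0, 0, 0, 0, 0, 0, -1, -2, -2, -2, -3, -3, -1, 0, 0, 1, 3, 4, 4, 5, 4, 2, 2, 2, 1], [0, 0, 0, 0, 0, 0, 0, 0, 0, 0, 0, 0, 0, 0, 0, 0, 0, 0, 0, 0, 0, 0, 0, -1, -2, -2, -2, -3, -3, -1, 0, -1, 0, 3, 4, 4, 4, 3, 2, 2, 2, 1], [0, 0, 0, 0, 0, 0, 0, 0, 0, 0, 0, 0, 0, 0, 0, 0, 0, 0, 0, 0, 0, 0, 0, -1, -2, -2, -2, -3, -3, -1, 0, -1, 0, 3, 4, 4, 4, 3, 2, 2, 2, 1], [0, 0, 0, 0, 0, 0, 0, 0, 0, 0, 0, 0, 0, 0, 0, 0, 0, 0, 0, 0, 0, 0, 0, -2, -3, -3, -3, -5, -5, -3, -2, -3, -1, 1, 2, 2, 2, 1, 1, 1, 1],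 [0, 0, 0, 0, 0, 0, 0, 0, 0, 0, 0, 0, 0, 0, 0, 1, 1, 1, 1, 2, 2, 2, 2, 3, 2, 3, 3, 3, 2, 3, 2, 1, -1, -1, -4, -6, -8, -10, -14, -15, -16, -17, -19, -18, -17, -16, -15, -12, -10, -8, -6, -4, -3, -2, -1], [0, 0, 0, 0, 0, 0, 0, 0, 0, 0, 0, 0, 0, 0, 0, 0, 0, 0, 0, 0, 0, 0, -1, -3, -4, -4, -5, -7, -7, -5, -4, -4, -3, -1], [0, 0, 0, 0, 0, 0, 0, 0, 0, 0, 0, 0, 0, 0, 0, 1, 1, 1, 1, 2, 2, 2, 2, 1, -1, 0, 0, -1, -1, 1, 1, 1, 2, 4, 4, 4, 5, 4, 2, 2, 2, 1], [0, 0, 0, 0, 0, 0, 0, 0, 0, 0, 0, 0, 0, 0, 0, 1, 1, 1, 1, 2, 2, 2, 2, 2, 1, 2, 2, 1, 1, 3, 3, 2, 3, 5, 4, 4, 4, 3, 2, 2, 2, 1], [0, 0, 0, 0, 0, 0, 0, 0, 0, 0, 0, 0, 0, 0, 0, 1, 1, 1, 1, 2, 2, 2, 2, 0, -2, -1, -1, -3, -3, -1, -1, -2, 0, 2, 2, 2, 2, 1, 1, 1, 1], [0, 0, 0, 0, 0, 0, 0, 0, 0, 0, 0, 0, 0, 0, 0, 1, 1, 1, 1, 2, 2, 2, 1, -1, -3,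 -2, -3, -5, -5, -3, -3, -3, -2], [0, 0, 0, 0, 0, 0, 0, 0, 0, 0, 0, 0, 0, 0, 1, 2, 2, 2, 4, 5, 4, 4, 4, 2, 1, 1, 1, -1, -1, 0, 0, -1, 1, 2, 2, 2, 2, 1, 1, 1, 1], [0, 0, 0, 0, 0, 0, 0, 0, 0, 0, 0, 0, 0, 0, 1, 2, 2, 2, 3, 4, 4, 4, 5, 3, 2, 3, 3, 1, 1, 2, 2, 1, 2, 2, 2, 2, 2, 1, 1, 1, 1], [0, 0, 0, 0, 0, 0, 0, 0, 0, 0, 0, 0, 0, 0, 1, 2, 2, 2, 4, 5, 4, 4, 3, 1, 0, 0, -1, -3, -3, -2, -2, -2, -1], [0, 0, 0, 0, 0, 0, 0, 0, 0, 0, 0, 0, 0, 0, 1, 2, 2, 2, 3, 4, 4, 4, 3, 0, -1, 0, -1, -3, -3, -2, -2, -2, -1], [0, 0, 0, 0, 0, 0, 0, 0, 0, 0, 0, 0, 0, 0, 1, 2, 2, 2, 3, 4, 4, 4, 3, 0, -1, 0, -1, -3, -3, -2, -2, -2, -1], [0, 0, 0, 0, 0, 0, 0, 0, 0, 0, 0, 0, 0, 0, 2, 3, 3, 3, 6, 7, 6, 6, 5, 2, 2, 2, 1, -1, -1, -1, -1, -1], [0, 0, 0, 0, 0, 0, 0, 0, 0, 0, 0, 0, 0, 1, 3, 4, 4, 6, 9, 9, 8, 8, 7,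 5, 4, 4, 3, 1], [0, -1, -2, -3, -4, -6, -8, -10, -12, -15, -16, -17, -18, -19, -17, -16, -15, -14, -10, -8, -6, -4, -1, -1, 1, 2, 3, 2, 3, 3, 3, 2, 3, 2, 2, 2, 2, 1, 1, 1, 1], [0, -1, -2, -3, -4, -6, -8, -10, -12, -15, -16, -17, -18, -19, -17, -16, -15, -14, -10, -8, -6, -4, -3, -4, -2, -1, -1, -2, -1, -1, -1, -1], [0, -1, -2, -3, -4, -6, -8, -10, -12, -15, -16, -17, -18, -18, -16, -15, -14, -11, -7, -6, -4, -2, -1, -1, 0, 1, 1], [-1, -3, -5, -7, -10, -14, -18, -22, -27, -31, -33, -35, -37, -37, -35, -33, -31, -27, -22, -18, -14, -10, -7, -5, -3, -1]]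

def k3L : List (List ℤ) := [[0, 0, 0, 0, 0, 0, 0, 0, 0, 0, 0, 0, 0, 0, 0, 0, 0, 0, 0, 0, 0, 0, 0, 0, 0, 0, 0, 0, 0, 0, 1, 4, 9, 16, 27, 44, 67, 96, 134, 181, 234, 293, 360, 432, 504, 575, 645, 709, 763, 806, 836, 851, 851, 836, 806, 763, 709, 645, 575, 504, 432, 360, 293, 234, 181, 134, 96, 67, 44, 27, 16, 9, 4, 1], [0, 0, 0, 0, 0, 0, 0, 0, 0, 0, 0, 0, 0, 0, 0, 0, 0, 0, 0, 0, 0, 0, 0, 0, 0, 0, 0, 0, 0, -1, -2, -2, -1, -1, 0, 4, 11, 18, 31, 50, 72, 95, 125, 159, 194, 228, 263, 293, 322, 347, 365, 374, 380, 377, 365, 347, 327, 298, 265, 231, 197, 162, 131, 103, 78, 56, 40, 27, 17, 10, 6, 3, 1], [0, 0, 0, 0, 0, 0, 0, 0, 0, 0, 0, 0, 0, 0, 0, 0, 0, 0, 0, 0, 0, 0, 0, 0, 0, 0, 0, 0, -1, -4, -8, -12, -18, -28, -40, -52, -67, -85, -100, -112, -126, -140, -148, -151, -152, -151, -149,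 -144, -133, -120, -108, -93, -75, -60, -48, -34, -20, -12, -8, -4, -1], [0, 0, 0, 0, 0, 0, 0, 0, 0, 0, 0, 0, 0, 0, 0, 0, 0, 0, 0, 0, 0, 0, 0, 0, 1, 2, 3, 4, 7, 9, 11, 14, 21, 25, 30, 38, 51, 64, 83, 104, 129, 156, 191, 222, 254, 287, 320, 344, 369, 389, 403, 406, 406, 397, 382, 361, 336, 302, 268, 233, 198, 162, 131, 103, 78, 56, 40, 27, 17, 10, 6, 3, 1], [0, 0, 0, 0, 0, 0, 0, 0, 0, 0, 0, 0, 0, 0, 0, 0, 0, 0, 0, 0, 0, 0, 0, 0, 1, 2, 3, 4, 6, 6, 5, 4, 4, -2, -10, -18, -27, -39, -48, -58, -70, -81, -83, -88, -92, -93, -94, -94, -86, -78, -70, -61, -49, -40, -31, -20, -11, -8, -5, -2], [0, 0, 0, 0, 0, 0, 0, 0, 0, 0, 0, 0, 0, 0, 0, 0, 0, 0, 0, 0, 0, 0, 0, 1, 3, 5, 7, 11, 16, 19, 21, 25, 28, 26, 22, 19, 14, 7, 0, -8, -17, -23, -28, -36, -42, -45, -50, -53, -50, -46, -43, -38, -31,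 -25, -19, -12, -7, -5, -3, -1], [0, 0, 0, 0, 0, 0, 0, 0, 0, 0, 0, 0, 0, 0, 0, 0, 0, 0, 0, 0, 0, 0, 0, 1, 3, 5, 7, 11, 16, 19, 21, 25, 28, 26, 22, 19, 14, 7, 0, -8, -17, -23, -28, -36, -42, -45, -50, -53, -50, -46, -43, -38, -31, -25, -19, -12, -7, -5, -3, -1], [0, 0, 0, 0, 0, 0, 0, 0, 0, 0, 0, 0, 0, 0, 0, 0, 0, 0, 0, 0, 0, 0, 0, 1, 3, 5, 7, 11, 16, 19, 21, 26, 30, 28, 24, 23, 21, 15, 9, 2, -6, -11, -17, -25, -30, -34, -41, -46, -44, -40, -38, -35, -29, -23, -17, -11, -7, -5, -3, -1], [0, 0, 0, 0, 0, 0, 0, 0, 0, 0, 0, 0, 0, 0, 0, 0, 0, 0, 0, 0, 0, 0, 0, 2, 5, 8, 11, 18, 26, 32, 37, 46, 52, 54, 54, 56, 54, 51, 47, 42, 36, 34, 25, 15, 8, 3, -6, -12, -14, -14, -16, -15, -13, -10, -7, -4, -3, -2, -1], [0, 0, 0, 0, 0, 0, 0, 0, 0, 0, 0, 0, 0, 0, 0, -1, -2, -3, -4, -7, -10, -13, -16,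 -22, -27, -34, -41, -50, -57, -67, -75, -83, -87, -93, -90, -84, -73, -60, -35, -8, 25, 61, 107, 149, 194, 238, 282, 317, 351, 376, 395, 403, 406, 397, 382, 361, 336, 302, 268, 233, 198, 162, 131, 103, 78, 56, 40, 27, 17, 10, 6, 3, 1], [0, 0, 0, 0, 0, 0, 0, 0, 0, 0, 0, 0, 0, 0, 0, 0, 0, 0, 0, 0, 0, 0, 1, 4, 8, 12, 18, 28, 39, 48, 57, 68, 78, 85, 90, 92, 92, 92, 92, 90, 85, 78, 68, 57, 48, 39, 28, 18, 12, 8, 4, 1], [0, 0, 0, 0, 0, 0, 0, 0, 0, 0, 0, 0, 0, 0, 0, -1, -2, -3, -4, -7, -10, -13, -16, -20, -22, -26, -30, -33, -34, -39, -43, -45, -48, -57, -61, -64, -69, -75, -77, -81, -84, -84, -82, -83, -80, -76, -74, -70, -61, -54, -48, -40, -31, -25, -19, -12, -7, -5, -3, -1], [0, 0, 0, 0, 0, 0, 0, 0, 0, 0, 0, 0, 0, 0, 0, -1, -2, -3, -4, -7, -10, -13, -16, -20, -22, -26, -30, -33,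 -34, -39, -43, -45, -48, -57, -61, -64, -69, -75, -77, -81, -84, -84, -82, -83, -80, -76, -74, -70, -61, -54, -48, -40, -31, -25, -19, -12, -7, -5, -3, -1], [0, 0, 0, 0, 0, 0, 0, 0, 0, 0, 0, 0, 0, 0, 0, -1, -2, -3, -4, -7, -10, -13, -16, -18, -17, -18, -19, -16, -10, -8, -5, 3, 8, 6, 8, 12, 13, 13, 12, 8, 6, 8, 3, -5, -8, -10, -16, -19, -18, -17, -18, -16, -13, -10, -7, -4, -3, -2, -1], [0, 0, 0, 0, 0, 0, 0, 0, 0, 0, 0, 0, 0, 0, 0, -1, -2, -3, -4, -7, -10, -13, -15, -16, -14, -14, -12, -6, 3, 8, 15, 25, 34, 36, 42, 47, 51, 54, 56, 54, 54, 52, 46, 37, 32, 26, 18, 11, 8, 5, 2], [0, 0, 0, 0, 0, 0, 0, 0, 0, 0, 0, 0, 0, 0, -1, -3, -5, -7, -12, -19, -25, -31, -40, -48, -54, -61, -70, -74, -76, -80, -83, -82, -84, -84, -81, -77, -75, -69, -64, -61, -57, -48, -45, -43, -39, -34, -33,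 -30, -26, -22, -20, -16, -13, -10, -7, -4, -3, -2, -1], [0, 0, 0, 0, 0, 0, 0, 0, 0, 0, 0, 0, 0, 0, -1, -3, -5, -7, -12, -19, -25, -31, -40, -48, -54, -61, -70, -74, -76, -80, -83, -82, -84, -84, -81, -77, -75, -69, -64, -61, -57, -48, -45, -43, -39, -34, -33, -30, -26, -22, -20, -16, -13, -10, -7, -4, -3, -2, -1], [0, 0, 0, 0, 0, 0, 0, 0, 0, 0, 0, 0, 0, 0, -1, -3, -5, -7, -12, -19, -25, -31, -38, -43, -46, -50, -53, -50, -45, -42, -36, -28, -23, -17, -8, 0, 7, 14, 19, 22, 26, 28, 25, 21, 19, 16, 11, 7, 5, 3, 1], [0, 0, 0, 0, 0, 0, 0, 0, 0, 0, 0, 0, 0, 0, -1, -3, -5, -7, -12, -19, -25, -31, -38, -43, -46, -50, -53, -50, -45, -42, -36, -28, -23, -17, -8, 0, 7, 14, 19, 22, 26, 28, 25, 21, 19, 16, 11, 7, 5, 3, 1], [0, 0, 0, 0, 0, 0, 0, 0, 0, 0, 0, 0, 0, 0, -1, -3, -5, -7, -11, -17,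 -23, -29, -35, -38, -40, -44, -46, -41, -34, -30, -25, -17, -11, -6, 2, 9, 15, 21, 23, 24, 28, 30, 26, 21, 19, 16, 11, 7, 5, 3, 1], [0, 0, 0, 0, 0, 0, 0, 0, 0, 0, 0, 0, 0, 0, -2, -5, -8, -11, -20, -31, -40, -49, -61, -70, -78, -86, -94, -94, -93, -92, -88, -83, -81, -70, -58, -48, -39, -27, -18, -10, -2, 4, 4, 5, 6, 6, 4, 3, 2, 1], [0, 0, 0, 0, 0, 0, 0, 0, 0, 0, 0, 0, 0, -1, -4, -8, -12, -20, -34, -48, -60, -75, -93, -108, -120, -133, -144, -149, -151, -152, -151, -148, -140, -126, -112, -100, -85, -67, -52, -40, -28, -18, -12, -8, -4, -1], [0, 1, 3, 6, 10, 17, 27, 40, 56, 78, 103, 131, 162, 198, 233, 268, 302, 336, 361, 382, 397, 406, 403, 395, 376, 351, 317, 282, 238, 194, 149, 107, 61, 25, -8, -35, -60, -73, -84, -90, -93, -87, -83, -75, -67, -57, -50, -41, -34, -27, -22,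 -16, -13, -10, -7, -4, -3, -2, -1], [0, 1, 3, 6, 10, 17, 27, 40, 56, 78, 103, 131, 162, 198, 233, 268, 302, 336, 361, 382, 397, 406, 406, 403, 389, 369, 344, 320, 287, 254, 222, 191, 156, 129, 104, 83, 64, 51, 38, 30, 25, 21, 14, 11, 9, 7, 4, 3, 2, 1], [0, 1, 3, 6, 10, 17, 27, 40, 56, 78, 103, 131, 162, 197, 231, 265, 298, 327, 347, 365, 377, 380, 374, 365, 347, 322, 293, 263, 228, 194, 159, 125, 95, 72, 50, 31, 18, 11, 4, 0, -1, -1, -2, -2, -1], [1, 4, 9, 16, 27, 44, 67, 96, 134, 181, 234, 293, 360, 432, 504, 575, 645, 709, 763, 806, 836, 851, 851, 836, 806, 763, 709, 645, 575, 504, 432, 360, 293, 234, 181, 134, 96, 67, 44, 27, 16, 9, 4, 1]]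

def lamL : List (List ℤ) := [[1], [-1, -1, 0, 0, -1, 0, 1, 1, 0, 2, 1, 1, 1, 1], [0, 1, 0, 0, 1, 0, -1, -1, -1, -3, -2, -2, -3, -2, -1, -1, -1], [0, 0, 0, 0, 1, 0, -1, -1, 0, -2, -1, -1, 0, -2, 0, 0, 0, 0, 1], [0, 0, 0, 0, -1, 0, 1, 1, 1, 5, 3, 2, 3, 4, -1, 0, 0, -2, -3, -1, -1, -1], [0, 0, 0, 0, 0, 0, 0, 0, 0, -1, 0, 1, 0, 1, 3, 2, 2, 4, 2, 1, 2, 1, -1, 0, 0, -1], [0, 0, 0, 0, 0, 0, 0, 0, 0, -1, 0, 1, 0, 1, 3, 2, 2, 4, 2, 1, 2, 1, -1, 0, 0, -1], [0, 0, 0, 0, 0, 0, 0, 0, 0, -1, -1, 0, 0, -1, 1, 0, 0, 0, 1], [0, 0, 0, 0, 0, 0, 0, 0, 0, 1, 0, -2, -2, -3, -6, -5, -4, -6, -3, 0, 0, 1, 4, 3, 2, 3, 1], [0, 0, 0, 0, 0, 0, 0, 0, 0, 0, 0, 0, -1, 1, 0, 0, 0, 0, -1], [0, 0, 0, 0, 0, 0, 0, 0, 0, 0, 0, 0, 1, 1, 1, 2, 1, 0, 0, -1, -3, -2, -2, -3, -1, 0, 0, 1, 2, 1, 1, 1], [0, 0, 0, 0, 0,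 0, 0, 0, 0, 0, 0, 0, 1, -1, 0, 0, 0, -1, 1, 0, -1, 0, 1, 0, 0, 1], [0, 0, 0, 0, 0, 0, 0, 0, 0, 0, 0, 0, 1, -1, 0, 0, 0, -1, 1, 0, -1, 0, 1, 0, 0, 1], [0, 0, 0, 0, 0, 0, 0, 0, 0, 0, 0, 0, -1, 1, 0, 0, 0, 1, -4, -2, -1, -4, -4, -1, -2, -4, 1, 0, 0, 0, 1, -1], [0, 0, 0, 0, 0, 0, 0, 0, 0, 0, 0, 0, 0, 0, 0, 0, 0, 1, 3, 2, 3, 4, 1, 0, 0, -3, -6, -4, -5, -6, -3, -2, -2, 0, 1], [0, 0, 0, 0, 0, 0, 0, 0, 0, 0, 0, 0, 0, 0, 0, 0, 0, 0, 1, 0, 0, 1, 0, -1, 0, 1, -1, 0, 0, 0, -1, 1], [0, 0, 0, 0, 0, 0, 0, 0, 0, 0, 0, 0, 0, 0, 0, 0, 0, 0, 1, 0, 0, 1, 0, -1, 0, 1, -1, 0, 0, 0, -1, 1], [0, 0, 0, 0, 0, 0, 0, 0, 0, 0, 0, 0, 0, 0, 0, 0, 0, 0, -1, 0, 0, -1, 1, 2, 1, 2, 4, 2, 2, 3, 1, 0, 1, 0, -1], [0, 0, 0, 0, 0, 0, 0, 0, 0, 0, 0, 0, 0, 0, 0, 0, 0, 0, -1, 0, 0, -1, 1, 2, 1, 2, 4, 2, 2, 3, 1, 0, 1,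 0, -1], [0, 0, 0, 0, 0, 0, 0, 0, 0, 0, 0, 0, 0, 0, 0, 0, 0, 0, 0, 0, 0, 0, 0, 0, 0, 1, 0, 0, 0, 1, -1, 0, 0, -1, -1], [0, 0, 0, 0, 0, 0, 0, 0, 0, 0, 0, 0, 0, 0, 0, 0, 0, 0, 0, 0, 0, 0, -1, -1, -1, -3, -2, 0, 0, -1, 4, 3, 2, 3, 5, 1, 1, 1, 0, -1], [0, 0, 0, 0, 0, 0, 0, 0, 0, 0, 0, 0, 0, 0, 0, 0, 0, 0, 0, 0, 0, 0, 0, 0, 0, 0, 0, -1, -1, -1, -2, -3, -2, -2, -3, -1, -1, -1, 0, 1, 0, 0, 1], [0, 0, 0, 0, 0, 0, 0, 0, 0, 0, 0, 0, 0, 0, 0, 0, 0, 0, 0, 0, 0, 0, 0, 0, 0, -1, 0, 0, 0, 0, 1, -1], [0, 0, 0, 0, 0, 0, 0, 0, 0, 0, 0, 0, 0, 0, 0, 0, 0, 0, 0, 0, 0, 0, 0, 0, 0, 1, 0, 0, 0, 0, -2, 0, -1, -1, -2, 0, -1, -1, 0, 1], [0, 0, 0, 0, 0, 0, 0, 0, 0, 0, 0, 0, 0, 0, 0, 0, 0, 0, 0, 0, 0, 0, 0, 0, 0, 0, 0, 0, 0, 0, 1, 1, 1, 1, 2, 0, 1, 1, 0, -1, 0, 0, -1, -1], [0, 0, 0, 0, 0, 0, 0, 0, 0, 0,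 0, 0, 0, 0, 0, 0, 0, 0, 0, 0, 0, 0, 0, 0, 0, 0, 0, 0, 0, 0, 0, 0, 0, 0, 0, 0, 0, 0, 0, 0, 0, 0, 0, 1]]

def rL : List (List ℤ) := [[], [0, 0, 0, 0, 0, 0, 0, 0, 0, 0, 0, 0, 0, 0, 0, 0, 0, 0, 0, 0, 0, 0, 0, 0, 0, 0, 0, 0, 0, 0, 0, 1, 4, 9, 16, 27, 45, 71, 105, 150, 209, 282, 369, 472, 593, 730, 880, 1041, 1211, 1388, 1568, 1744, 1910, 2063, 2201, 2318, 2408, 2469, 2500, 2500, 2469, 2408, 2318, 2201, 2063, 1910, 1744, 1568, 1388, 1211, 1041, 880, 730, 593, 472, 369, 282, 209, 150, 105, 71, 45, 27, 16, 9, 4, 1], [0, 0, 0, 0, 0, 0, 0, 0, 0, 0, 0, 0, 0, 0, 0, 0, 0, 0, 0, 0, 0, 0, 0, 0, 0, 0, 0, 0, 0, 0, 0, -1, -4, -9, -17, -31, -54, -87, -132, -194, -276, -378, -502, -650, -821, -1012, -1220, -1441, -1668, -1895, -2115, -2318, -2497, -2647, -2762, -2835, -2863, -2848, -2790, -2690,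 -2553, -2385, -2192, -1981, -1761, -1539, -1319, -1108, -913, -737, -581, -446, -333, -241, -169, -115, -74, -44, -25, -14, -7, -2], [0, 0, 0, 0, 0, 0, 0, 0, 0, 0, 0, 0, 0, 0, 0, 0, 0, 0, 0, 0, 0, 0, 0, 0, 0, 0, 0, 0, 0, 0, 0, 0, 0, 0, 0, 0, 1, 4, 9, 16, 27, 46, 75, 114, 165, 232, 319, 430, 565, 722, 902, 1112, 1354, 1616, 1889, 2178, 2484, 2795, 3096, 3382, 3651, 3893, 4100, 4267, 4386, 4452, 4466, 4431, 4346, 4206, 4017, 3792, 3540, 3263, 2962, 2648, 2338, 2038, 1747, 1469, 1215, 990, 790, 615, 469, 350, 253, 177, 121, 80, 49, 28, 16, 9, 4, 1], [0, 0, 0, 0, 0, 0, 0, 0, 0, 0, 0, 0, 0, 0, 0, 0, 0, 0, 0, 0, 0, 0, 0, 0, 0, 0, 0, 0, 0, 0, 0, 0, 0, 0, 1, 4, 8, 12, 18, 26, 31, 29, 21, 1, -46, -128, -246, -413, -645, -945, -1314, -1764, -2297, -2894, -3543, -4245, -4984, -5724, -6438,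 -7112, -7724, -8243, -8648, -8927, -9070, -9069, -8925, -8647, -8248, -7742, -7147, -6488, -5796, -5091, -4385, -3701, -3068, -2496, -1981, -1531, -1158, -854, -606, -415, -279, -181, -107, -58, -32, -18, -8, -2], [0, 0, 0, 0, 0, 0, 0, 0, 0, 0, 0, 0, 0, 0, 0, 0, 0, 0, 0, 0, 0, 0, 0, 0, 0, 0, 0, 0, 0, 0, 0, 0, 0, 0, 0, 0, 0, 0, 0, 1, 4, 8, 13, 22, 37, 56, 77, 103, 134, 164, 190, 209, 214, 199, 160, 89, -24, -181, -380, -625, -918, -1252, -1618, -2008, -2410, -2810, -3197, -3557, -3872, -4130, -4326, -4454, -4505, -4476, -4374, -4205, -3975, -3695, -3376, -3029, -2669, -2311, -1963, -1631, -1326, -1056, -821, -621, -457, -326, -224, -149, -96, -58, -32, -17, -9, -4, -1], [0, 0, 0, 0, 0, 0, 0, 0, 0, 0, 0, 0, 0, 0, 0, 0, 0, 0, 0, 0, 0, 0, 0, 0, 0, 0, 0, 0, 0, 0, 0, 0, 0, 0, 0, 0,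 0, 0, 0, 1, 4, 8, 13, 22, 37, 56, 77, 103, 134, 164, 190, 209, 214, 199, 160, 89, -24, -181, -380, -625, -918, -1252, -1618, -2008, -2410, -2810, -3197, -3557, -3872, -4130, -4326, -4454, -4505, -4476, -4374, -4205, -3975, -3695, -3376, -3029, -2669, -2311, -1963, -1631, -1326, -1056, -821, -621, -457, -326, -224, -149, -96, -58, -32, -17, -9, -4, -1], [0, 0, 0, 0, 0, 0, 0, 0, 0, 0, 0, 0, 0, 0, 0, 0, 0, 0, 0, 0, 0, 0, 0, 0, 0, 0, 0, 0, 0, 0, 0, 0, 0, 0, 0, 0, 0, 0, 0, 1, 4, 8, 12, 19, 32, 49, 67, 90, 121, 154, 186, 223, 265, 302, 329, 353, 377, 391, 388, 372, 348, 317, 276, 223, 162, 97, 33, -27, -84, -138, -187, -225, -246, -257, -266, -269, -257, -232, -207, -186, -162, -134, -106, -81, -61, -46, -34, -22, -12, -7, -5, -3, -1], [0, 0, 0, 0, 0, 0, 0, 0, 0, 0, 0, 0, 0, 0, 0,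 0, 0, 0, 0, 0, 0, 0, 0, 0, 0, 0, 0, 0, 0, 0, 0, 0, 0, 0, 0, 0, 0, 0, 0, -1, -3, -3, 1, 8, 21, 50, 103, 183, 301, 476, 717, 1028, 1423, 1914, 2498, 3168, 3918, 4734, 5593, 6469, 7328, 8130, 8845, 9448, 9902, 10172, 10246, 10124, 9804, 9290, 8601, 7765, 6815, 5791, 4734, 3676, 2649, 1694, 844, 112, -495, -970, -1312, -1526, -1624, -1629, -1566, -1447, -1282, -1096, -913, -739, -576, -432, -313, -219, -148, -96, -58, -32, -17, -9, -4, -1], [0, 0, 0, 0, 0, 0, 0, 0, 0, 0, 0, 0, 0, 0, 0, 0, 0, 0, 0, 0, 0, 0, 0, 0, 0, 0, 0, 0, 0, 0, 0, 0, 0, 0, 0, 0, 0, 0, 0, 0, 0, 0, 0, 0, 0, 0, 0, 0, 1, 3, 5, 5, 5, 10, 18, 23, 26, 33, 46, 59, 70, 84, 101, 119, 138, 157, 175, 191, 207, 225, 239, 246, 249, 252, 255, 252, 241, 228, 216, 203, 185, 164, 145, 127, 108, 90, 74, 59, 45, 34, 26, 18, 11, 7,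 5, 3, 1], [0, 0, 0, 0, 0, 0, 0, 0, 0, 0, 0, 0, 0, 0, 0, 0, 0, 0, 0, 0, 0, 0, 0, 0, 0, 0, 0, 0, 0, 0, 0, 0, 0, 0, 0, 0, 0, 0, 0, 0, 0, 0, -1, -4, -9, -17, -30, -49, -74, -105, -142, -181, -216, -242, -249, -224, -155, -29, 170, 455, 835, 1318, 1908, 2601, 3386, 4250, 5173, 6127, 7082, 8007, 8868, 9632, 10271, 10761, 11083, 11225, 11184, 10965, 10578, 10041, 9379, 8618, 7787, 6918, 6040, 5178, 4356, 3594, 2905, 2297, 1775, 1339, 983, 701, 485, 324, 208, 128, 75, 41, 21, 10, 4, 1], [0, 0, 0, 0, 0, 0, 0, 0, 0, 0, 0, 0, 0, 0, 0, 0, 0, 0, 0, 0, 0, 0, 0, 0, 0, 0, 0, 0, 0, 0, 0, 0, 0, 0, 0, 0, 0, 0, 0, 0, 0, 0, -1, -3, -5, -7, -11, -18, -27, -37, -49, -61, -75, -96, -120, -139, -157, -185, -220, -250, -280, -321, -368, -415, -466, -525, -586, -646, -711, -779, -839, -890, -937, -981,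 -1013, -1026, -1024, -1013, -992, -955, -900, -837, -772, -699, -617, -536, -461, -387, -315, -253, -200, -150, -108, -79, -57, -36, -20, -12, -8, -4, -1], [0, 0, 0, 0, 0, 0, 0, 0, 0, 0, 0, 0, 0, 0, 0, 0, 0, 0, 0, 0, 0, 0, 0, 0, 0, 0, 0, 0, 0, 0, 0, 0, 0, 0, 0, 0, 0, 0, 0, 0, 0, 0, -1, -3, -5, -7, -11, -18, -27, -37, -49, -61, -75, -96, -120, -139, -157, -185, -220, -250, -280, -321, -368, -415, -466, -525, -586, -646, -711, -779, -839, -890, -937, -981, -1013, -1026, -1024, -1013, -992, -955, -900, -837, -772, -699, -617, -536, -461, -387, -315, -253, -200, -150, -108, -79, -57, -36, -20, -12, -8, -4, -1], [0, 0, 0, 0, 0, 0, 0, 0, 0, 0, 0, 0, 0, 0, 0, 0, 0, 0, 0, 0, 0, 0, 0, 0, 0, 0, 0, 0, 0, 0, 0, 0, 0, 0, 0, 0, 0, 0, 0, 0, 0, 0, 1, 2, 1, -2, -5, -10, -20, -35, -54, -81, -112,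 -138, -162, -188, -198, -176, -131, -62, 58, 236, 448, 695, 999, 1349, 1706, 2060, 2417, 2758, 3049, 3275, 3431, 3508, 3494, 3387, 3193, 2921, 2580, 2181, 1746, 1303, 864, 432, 33, -301, -572, -797, -961, -1046, -1070, -1057, -1003, -909, -798, -685, -567, -450, -346, -258, -185, -128, -85, -52, -29, -16, -9, -4, -1], [0, 0, 0, 0, 0, 0, 0, 0, 0, 0, 0, 0, 0, 0, 0, 0, 0, 0, 0, 0, 0, 0, 0, 0, 0, 0, 0, 0, 0, 0, 0, 0, 0, 0, 0, 0, 0, 0, 0, 0, 0, 0, 0, 0, 0, 0, 0, -1, -6, -17, -35, -64, -110, -178, -272, -397, -555, -740, -950, -1186, -1431, -1658, -1850, -1995, -2067, -2031, -1865, -1557, -1097, -482, 286, 1199, 2233, 3348, 4505, 5671, 6803, 7851, 8772, 9532, 10104, 10469, 10621, 10560, 10289, 9831, 9222, 8492, 7669, 6789, 5893, 5014, 4177, 3403, 2706, 2098, 1587, 1168, 830, 568,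 377, 241, 144, 80, 43, 22, 9, 2], [0, 0, 0, 0, 0, 0, 0, 0, 0, 0, 0, 0, 0, 0, 0, 0, 0, 0, 0, 0, 0, 0, 0, 0, 0, 0, 0, 0, 0, 0, 0, 0, 0, 0, 0, 0, 0, 0, 0, 0, 0, 0, 0, 0, 0, 0, 0, 0, -1, -3, -5, -8, -15, -26, -38, -53, -78, -111, -145, -184, -234, -291, -349, -412, -481, -546, -605, -667, -728, -777, -813, -844, -871, -886, -887, -879, -866, -850, -827, -794, -757, -721, -686, -648, -608, -569, -529, -489, -454, -419, -379, -339, -306, -275, -239, -203, -173, -146, -120, -96, -74, -55, -41, -31, -21, -12, -7, -5, -3, -1], [0, 0, 0, 0, 0, 0, 0, 0, 0, 0, 0, 0, 0, 0, 0, 0, 0, 0, 0, 0, 0, 0, 0, 0, 0, 0, 0, 0, 0, 0, 0, 0, 0, 0, 0, 0, 0, 0, 0, 0, 0, 0, 0, 0, 0, 0, 0, 0, -1, -3, -5, -8, -15, -26, -38, -53, -78, -111, -145, -184, -234, -291, -349, -412, -481, -546, -605, -667, -728, -777,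 -813, -844, -871, -886, -887, -879, -866, -850, -827, -794, -757, -721, -686, -648, -608, -569, -529, -489, -454, -419, -379, -339, -306, -275, -239, -203, -173, -146, -120, -96, -74, -55, -41, -31, -21, -12, -7, -5, -3, -1], [0, 0, 0, 0, 0, 0, 0, 0, 0, 0, 0, 0, 0, 0, 0, 0, 0, 0, 0, 0, 0, 0, 0, 0, 0, 0, 0, 0, 0, 0, 0, 0, 0, 0, 0, 0, 0, 0, 0, 0, 0, 0, 0, 0, 0, 0, 0, 0, 1, 3, 5, 8, 13, 18, 20, 19, 14, -4, -43, -104, -195, -329, -511, -743, -1033, -1385, -1790, -2240, -2732, -3251, -3772, -4275, -4743, -5153, -5482, -5713, -5829, -5820, -5688, -5437, -5070, -4598, -4046, -3441, -2802, -2152, -1519, -925, -388, 75, 455, 752, 965, 1093, 1146, 1139, 1083, 990, 874, 745, 612, 488, 379, 282, 199, 136, 91, 57, 32, 17, 9, 4, 1], [0, 0, 0, 0, 0, 0, 0, 0, 0, 0, 0, 0, 0, 0, 0, 0, 0, 0, 0,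 0, 0, 0, 0, 0, 0, 0, 0, 0, 0, 0, 0, 0, 0, 0, 0, 0, 0, 0, 0, 0, 0, 0, 0, 0, 0, 0, 0, 0, 1, 3, 5, 8, 13, 18, 20, 19, 14, -4, -43, -104, -195, -329, -511, -743, -1033, -1385, -1790, -2240, -2732, -3251, -3772, -4275, -4743, -5153, -5482, -5713, -5829, -5820, -5688, -5437, -5070, -4598, -4046, -3441, -2802, -2152, -1519, -925, -388, 75, 455, 752, 965, 1093, 1146, 1139, 1083, 990, 874, 745, 612, 488, 379, 282, 199, 136, 91, 57, 32, 17, 9, 4, 1], [0, 0, 0, 0, 0, 0, 0, 0, 0, 0, 0, 0, 0, 0, 0, 0, 0, 0, 0, 0, 0, 0, 0, 0, 0, 0, 0, 0, 0, 0, 0, 0, 0, 0, 0, 0, 0, 0, 0, 0, 0, 0, 0, 0, 0, 0, 0, 0, 0, 0, 0, 0, 0, 0, 0, -1, -3, -5, -7, -12, -21, -31, -41, -55, -73, -92, -112, -135, -155, -168, -182, -198, -204, -193, -175, -160, -138, -99, -51, -3, 43, 92, 143, 189, 229, 263, 287, 301, 307,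 309, 303, 283, 256, 233, 212, 183, 148, 120, 100, 79, 57, 41, 31, 21, 12, 7, 5, 3, 1], [0, 0, 0, 0, 0, 0, 0, 0, 0, 0, 0, 0, 0, 0, 0, 0, 0, 0, 0, 0, 0, 0, 0, 0, 0, 0, 0, 0, 0, 0, 0, 0, 0, 0, 0, 0, 0, 0, 0, 0, 0, 0, 0, 0, 0, 0, 0, 0, 0, 0, 0, 0, 1, 4, 9, 18, 34, 57, 86, 126, 180, 239, 295, 354, 409, 432, 408, 342, 215, -9, -337, -760, -1295, -1957, -2723, -3564, -4476, -5443, -6416, -7351, -8222, -8999, -9641, -10117, -10411, -10514, -10419, -10130, -9662, -9043, -8301, -7461, -6556, -5635, -4733, -3862, -3044, -2318, -1697, -1169, -736, -408, -170, 1, 107, 155, 171, 171, 152, 120, 90, 67, 46, 28, 16, 9, 4, 1], [0, 0, 0, 0, 0, 0, 0, 0, 0, 0, 0, 0, 0, 0, 0, 0, 0, 0, 0, 0, 0, 0, 0, 0, 0, 0, 0, 0, 0, 0, 0, 0, 0, 0, 0, 0, 0, 0, 0, 0, 0, 0, 0, 0, 0, 0, 0, 0, 0, 0, 0, 0, 0, 0, 0, 0,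 0, 1, 4, 9, 17, 32, 57, 92, 140, 208, 298, 407, 538, 695, 871, 1055, 1245, 1435, 1607, 1745, 1839, 1877, 1844, 1730, 1529, 1236, 855, 396, -133, -719, -1339, -1968, -2586, -3171, -3698, -4148, -4508, -4765, -4910, -4945, -4878, -4714, -4463, -4144, -3775, -3373, -2956, -2539, -2135, -1758, -1419, -1119, -858, -642, -470, -333, -226, -149, -96, -58, -32, -17, -9, -4, -1], [0, 0, 0, 0, 0, 0, 0, 0, 0, 0, 0, 0, 0, 0, 0, 0, 0, 0, 0, 0, 0, 0, 0, 0, 0, 0, 0, 0, 0, 0, 0, 0, 0, 0, 0, 0, 0, 0, 0, 0, 0, 0, 0, 0, 0, 0, 0, 0, 0, 0, 0, 0, 0, 0, 0, 1, 4, 8, 12, 18, 28, 42, 58, 77, 99, 122, 148, 178, 207, 233, 257, 281, 302, 315, 322, 324, 321, 314, 299, 276, 250, 223, 196, 165, 132, 102, 75, 51, 30, 11, -4, -15, -21, -25, -29, -30, -28, -25, -22, -20, -18, -15, -11, -8, -8, -7, -4, -2, -2,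 -2, -1], [0, 0, 0, 0, 0, 0, 0, 0, 0, 0, 0, 0, 0, 0, 0, 0, 0, 0, 0, 0, 0, 0, 0, 0, 0, 0, 0, 0, 0, 0, 0, 0, 0, 0, 0, 0, 0, 0, 0, 0, 0, 0, 0, 0, 0, 0, 0, 0, 0, 0, 0, 0, 0, 0, 0, -1, -3, -4, -3, -2, 0, 8, 26, 53, 95, 161, 252, 369, 523, 719, 952, 1220, 1531, 1880, 2249, 2632, 3026, 3416, 3786, 4124, 4417, 4651, 4820, 4926, 4957, 4905, 4779, 4593, 4353, 4062, 3729, 3373, 3008, 2647, 2295, 1956, 1642, 1363, 1118, 905, 724, 573, 447, 348, 276, 216, 161, 120, 96, 76, 54, 37, 28, 20, 12, 7, 5, 3, 1], [0, 0, 0, 0, 0, 0, 0, 0, 0, 0, 0, 0, 0, 0, 0, 0, 0, 0, 0, 0, 0, 0, 0, 0, 0, 0, 0, 0, 0, 0, 0, 0, 0, 0, 0, 0, 0, 0, 0, 0, 0, 0, 0, 0, 0, 0, 0, 0, 0, 0, 0, 0, 0, 0, 0, 0, 0, 0, 0, 0, -1, -4, -9, -16, -28, -47, -72, -103, -144, -194, -247, -302, -361, -414, -450, -469, -468, -432, -352, -232,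 -69, 147, 409, 703, 1030, 1389, 1760, 2118, 2457, 2774, 3051, 3268, 3419, 3505, 3525, 3474, 3356, 3181, 2960, 2701, 2414, 2117, 1823, 1532, 1252, 1002, 789, 601, 435, 306, 213, 139, 80, 43, 23, 8, -3, -5, -3, -3, -4, -3, -1], [0, 0, 0, 0, 0, 0, 0, 0, 0, 0, 0, 0, 0, 0, 0, 0, 0, 0, 0, 0, 0, 0, 0, 0, 0, 0, 0, 0, 0, 0, 0, 0, 0, 0, 0, 0, 0, 0, 0, 0, 0, 0, 0, 0, 0, 0, 0, 0, 0, 0, 0, 0, 0, 0, 0, 0, 0, 0, 0, 0, 0, 0, 0, 0, 0, 0, 0, 0, 0, 0, 0, 0, 0, -1, -3, -5, -7, -11, -18, -26, -34, -45, -58, -70, -82, -96, -110, -119, -124, -129, -131, -126, -115, -101, -85, -64, -39, -13, 13, 39, 64, 85, 101, 115, 126, 131, 129, 124, 119, 110, 96, 82, 70, 58, 45, 34, 26, 18, 11, 7, 5, 3, 1]]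

def k0 (c : Fin 26) : List ℤ := k0L.getD c []

def k1 (c : Fin 26) : List ℤ := k1L.getD c []

/-- the values of the kernel divided by `q Φ₅ Φ₁₅` -/
def k3 (c : Fin 26) : List ℤ := k3L.getD c []

/-- the eigenvalues of the class sums -/
def lam (c : Fin 26) : List ℤ := lamL.getD c []

def rr (c : Fin 26) : List ℤ := rL.getD c []

/-- `q Φ₅ Φ₁₅` -/
def G : List ℤ := [0, 1, 0, 0, 1, 0, 0, 1, 0, 0, 1, 0, 0, 1]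

/-- the valency -/
def th : List ℤ := [0, 1, 2, 2, 2, 3, 4, 4, 4, 5, 5, 4, 4, 4, 3, 2, 2, 2, 1]

/-- inverse of `k3 o` modulo `Φ₅` -/
def sI : List ℤ := [-1, 1, -1, 0]

def tI : List ℤ := [-1, 1, 0, 0, 0, -1, 1, 0, 0, 0, -1, 1, 0, 0, 0, -1, 1, 0, 0, 0, -1, 1, 0, 0, 0, -1, 1, 0, 0, 0, -2, -1, -3, -5, -9, -15, -18, -26, -37, -47, -59, -71, -87, -101, -114, -130, -142, -152, -161, -167, -171, -170, -167, -161, -152, -143, -129, -114, -101, -87, -72, -58, -47, -37, -26, -19, -14, -9, -5, -3, -2, -1]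

theorem hk0 : ∀ c, pEq (pAdd (W7 (y0 c)) (0 :: W7 (y1 c))) (k0 c) = true := by decide +kernel

theorem hk1 : ∀ r, vz (2 ^ 22) G * vz (2 ^ 22) (k1 r) =
    dotZ (2 ^ 22) (TabE8c.bb r) k0 - vz (2 ^ 22) th * vz (2 ^ 22) (k0 r) ∧
    n1 G * n1 (k1 r) + (dotN (TabE8c.bb r) k0 + n1 th * n1 (k0 r)) < 2 ^ 22 := by decide +kernel

theorem hk3 : ∀ r, vz (2 ^ 22) [1] * vz (2 ^ 22) (k3 r) =
    dotZ (2 ^ 22) (TabE8c.bb r) (fun c => k1 (star c)) - vz (2 ^ 22) th * vz (2 ^ 22) (k1 (star r)) ∧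
    n1 [1] * n1 (k3 r) + (dotN (TabE8c.bb r) (fun c => k1 (star c)) + n1 th * n1 (k1 (star r))) < 2 ^ 22 := by
  decide +kernel

theorem hcong : ∀ c, vz (2 ^ 22) [1, 1, 1, 1, 1] * vz (2 ^ 22) (rr c) =
    vz (2 ^ 22) (TabE8c.kk c) * vz (2 ^ 22) (k3 c) - vz (2 ^ 22) (lam c) * vz (2 ^ 22) (k3 0) ∧
    n1 [1, 1, 1, 1, 1] * n1 (rr c) + (n1 (TabE8c.kk c) * n1 (k3 c) + n1 (lam c) * n1 (k3 0)) < 2 ^ 22 := by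
  decide +kernel

theorem hunit : pEq (pMul sI (k3 0)) (pAdd [1] (pMul [1, 1, 1, 1, 1] tI)) = true := by decide +kernel

theorem hpos : pNV (k3 0) = true := by decide +kernel

theorem hG : pPos G = true := by decide +kernel

/-! ### the values -/

theorem lin_of {m X : ℕ} {B : Fin m → List ℤ} {a b c d : List ℤ} {f : Fin m → List ℤ}
    (h : vz X a * vz X b = dotZ X B f - vz X c * vz X d ∧ n1 a * n1 b + (dotN B f + n1 c * n1 d) < X) (x : ℚ) :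
    (∑ i, ev x (B i) * ev x (f i)) - ev x c * ev x d = ev x a * ev x b := by
  have h1 : pEq (pMul a b) (pAdd (pSum fun i => pMul (B i) (f i)) (pNeg (pMul c d))) = true := by
    have h3 : n1 (pSum fun i => pMul (B i) (f i)) ≤ dotN B f := by
      rw [dotN_eq]
      exact (n1_pSum _).trans (Finset.sum_le_sum fun i _ => n1_pMul _ _)
    have h4 : n1 (pNeg (pMul c d)) ≤ n1 c * n1 d := by
      rw [n1_pNeg]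
      exact n1_pMul c d
    refine pEq_of (X := X) ?_ (n1_pMul a b) ((n1_pAdd _ _).trans (Nat.add_le_add h3 h4)) h.2
    rw [vz_pMul, h.1, vz_pAdd, vz_pNeg, vz_pMul, vz_pSum, dotZ_eq, sub_eq_add_neg]
    congr 1
    exact Finset.sum_congr rfl fun i _ => (vz_pMul X _ _).symm
  have h2 := ev_of_pEq x h1
  rw [ev_pMul, ev_pAdd, ev_pNeg, ev_pMul, ev_pSum] at h2
  rw [h2, sub_eq_add_neg]
  congr 1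
  exact Finset.sum_congr rfl fun i _ => (ev_pMul x _ _).symm

theorem mul_of {X : ℕ} {a b c d e f : List ℤ}
    (h : vz X a * vz X b = vz X c * vz X d - vz X e * vz X f ∧ n1 a * n1 b + (n1 c * n1 d + n1 e * n1 f) < X) (x : ℚ) :
    ev x c * ev x d - ev x e * ev x f = ev x a * ev x b := by
  have h1 : pEq (pMul a b) (pAdd (pMul c d) (pNeg (pMul e f))) = true := by
    have h4 : n1 (pNeg (pMul e f)) ≤ n1 e * n1 f := by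
      rw [n1_pNeg]
      exact n1_pMul e f
    refine pEq_of (X := X) ?_ (n1_pMul a b) ((n1_pAdd _ _).trans (Nat.add_le_add (n1_pMul c d) h4)) h.2
    rw [vz_pMul, h.1, vz_pAdd, vz_pNeg, vz_pMul, vz_pMul, sub_eq_add_neg]
  have h2 := ev_of_pEq x h1
  rw [ev_pMul, ev_pAdd, ev_pNeg, ev_pMul, ev_pMul] at h2
  rw [h2, sub_eq_add_neg]

section Val

variable (x : ℕ) (f : Fin 5 → ℚ)

/-- `f + T₇ f` on the states at node `7` -/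
def Wv (s : Fin 240) : ℚ := f (TabE8a.tab.cls s) + TabE8a.tab.tau (fun _ => x) 7 (fun u => f (TabE8a.tab.cls u)) s

/-- the values of the kernel -/
def k0v (c : Fin 26) : ℚ := Wv x f (y0 c) + x * Wv x f (y1 c)

/-- times `A - θ` -/
noncomputable def opv (g : Fin 26 → ℚ) (c : Fin 26) : ℚ := (∑ d, ev x (TabE8c.data.bb c d) * g d) - ev x th * g c

/-- `K₀ (A - θ)` -/
noncomputable def k1v (c : Fin 26) : ℚ := opv x (k0v x f) c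

/-- `(A - θ) K₀ (A - θ)` -/
noncomputable def k2v (c : Fin 26) : ℚ := opv x (fun d => k1v x f (star d)) c

variable {x f} {r : ℚ}

theorem Wv_eq (hf : ∀ c, f c = r * ev x (TabE8a.c3.nu c)) (s : Fin 240) : Wv x f s = r * ev x (W7 s) := by
  rw [Wv, Tab.tau, W7, ev_pAdd]
  split_ifs with h
  · rw [ev_pAdd, ev_pMul, ev_cons, ev_cons, ev_nil, hf, hf]
    push_cast
    ring
  · rw [ev_cons, hf, hf]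
    push_cast
    ring

/-- `W` does not depend on the line -/
theorem Wv_st (hf : ∀ c, f c = r * ev x (TabE8a.c3.nu c)) {i : Fin 8} (hi : i ≠ 6) (s : Fin 240) :
    Wv x f (TabE8a.tab.st i s) = Wv x f s := by
  rw [Wv_eq hf, Wv_eq hf, ev_of_pEq (x : ℚ) (W7_st i hi s)]

theorem k0v_eq (hf : ∀ c, f c = r * ev x (TabE8a.c3.nu c)) (c : Fin 26) : k0v x f c = r * ev x (k0 c) := by
  rw [k0v, Wv_eq hf, Wv_eq hf, ← ev_of_pEq (x : ℚ) (hk0 c), ev_pAdd, ev_cons]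
  push_cast
  ring

theorem opv_smul (a : ℚ) (g : Fin 26 → ℚ) (c : Fin 26) : opv x (fun d => a * g d) c = a * opv x g c := by
  rw [opv, opv, mul_sub, Finset.mul_sum]
  congr 1
  · exact Finset.sum_congr rfl fun d _ => by ring
  · ring

theorem k1v_eq (hf : ∀ c, f c = r * ev x (TabE8a.c3.nu c)) (c : Fin 26) : k1v x f c = r * ev x G * ev x (k1 c) := by
  have h1 : k0v x f = fun d => r * ev (x : ℚ) (k0 d) := funext (k0v_eq hf)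
  rw [k1v, h1, opv_smul, opv, show TabE8c.data.bb c = TabE8c.bb c from rfl, lin_of (hk1 c) (x : ℚ), mul_assoc]

/-- **the values of `(A - θ) K₀ (A - θ)`** -/
theorem k2v_eq (hf : ∀ c, f c = r * ev x (TabE8a.c3.nu c)) (c : Fin 26) : k2v x f c = r * ev x G * ev x (k3 c) := by
  have h1 : (fun d => k1v x f (star d)) = fun d => (r * ev (x : ℚ) G) * ev (x : ℚ) (k1 (star d)) :=
    funext fun d => k1v_eq hf _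
  rw [k2v, h1, opv_smul, opv, show TabE8c.data.bb c = TabE8c.bb c from rfl, lin_of (hk3 c) (x : ℚ), ev_cons, ev_nil]
  push_cast
  ring

theorem k2v_ne (hf : ∀ c, f c = r * ev x (TabE8a.c3.nu c)) (hr : r ≠ 0) (hx : 2 ≤ x) : k2v x f 0 ≠ 0 := by
  have hx' : (2 : ℚ) ≤ (x : ℚ) := by exact_mod_cast hx
  rw [k2v_eq hf]
  exact mul_ne_zero (mul_ne_zero hr (ev_pos hx' hG).ne') (ev_nv hx' hpos)

/-- **The congruences modulo `Φ₅`.** -/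
theorem cong (hf : ∀ c, f c = r * ev x (TabE8a.c3.nu c)) (hr : r ≠ 0) (hx : 2 ≤ x) {p : ℕ} (hp : p.Prime)
    (hd : (p : ℤ) ∣ evZ x [1, 1, 1, 1, 1]) {a : Fin 26 → ℚ}
    (ha : ∀ c, ev x (TabE8c.data.kk c) * a c = ev x (lam c)) (c : Fin 26) :
    ∃ u v : ℤ, ¬ (p : ℤ) ∣ v ∧ v * (ev x (TabE8c.data.kk c) * (k2v x f c / k2v x f 0 - a c)) = p * u := by
  have hx' : (2 : ℚ) ≤ (x : ℚ) := by exact_mod_cast hx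
  obtain ⟨w, hw⟩ := hd
  have h3 := ev_nv hx' hpos
  refine ⟨w * evZ x (rr c), evZ x (k3 0), ?_, ?_⟩
  · intro h4
    have h1 := ev_of_pEq (x : ℚ) hunit
    rw [ev_pMul, ev_pAdd, ev_pMul, ev_cons, ev_nil] at h1
    have h2 : evZ x sI * evZ x (k3 0) = 1 + evZ x [1, 1, 1, 1, 1] * evZ x tI := by
      have g1 := evZ_cast x sI
      have g2 := evZ_cast x (k3 0)
      have g3 := evZ_cast x [1, 1, 1, 1, 1]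
      have g4 := evZ_cast x tI
      push_cast at g1 g2 g3 g4 h1
      have h5 : ((evZ x sI * evZ x (k3 0) : ℤ) : ℚ) = ((1 + evZ x [1, 1, 1, 1, 1] * evZ x tI : ℤ) : ℚ) := by
        push_cast
        rw [g1, g2, g3, g4, h1]
        ring
      exact_mod_cast h5
    have h5 : (p : ℤ) ∣ 1 := by
      have h6 : (1 : ℤ) = evZ x sI * evZ x (k3 0) - evZ x [1, 1, 1, 1, 1] * evZ x tI := by rw [h2]; ring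
      rw [h6, hw]
      exact dvd_sub (h4.mul_left _) ((dvd_mul_right _ _).mul_right _)
    have h6 := Int.le_of_dvd one_pos h5
    have h7 := hp.two_le
    omega
  · have h1 := mul_of (hcong c) (x : ℚ)
    have e1 := evZ_cast x (k3 0)
    have e2 := evZ_cast x (rr c)
    have e3 := evZ_cast x [1, 1, 1, 1, 1]
    push_cast at e1 e2 e3
    rw [hw] at e3
    push_cast at e3
    have hG' := (ev_pos hx' hG).ne'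
    rw [k2v_eq hf, k2v_eq hf, mul_div_mul_left _ _ (mul_ne_zero hr hG'), mul_sub, ha c,
      show TabE8c.data.kk c = TabE8c.kk c from rfl]
    push_cast
    rw [e1, e2]
    field_simp
    rw [mul_comm (ev (x : ℚ) (k3 0)) (ev (x : ℚ) (lam c)), h1, ← e3]

end Val

end Cfsg.Agent.H996.PQ.LinkE8
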