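import Cfsg.Agent.H996.PQ.Defs

/-!
# One-dimensional eigenspaces from the whole spectrum (helper996, for S4612)

`uq_of_spec`: `m` eigenvectors for different eigenvalues of an `m × m` matrix: all eigenspaces are one-dimensional.
`uq_of_ok`: the same from a certificate with `steps`.
-/

set_option autoImplicit false

namespace Cfsg.Agent.H996.PQ

open Cfsg.Agent.H967.Sph Cfsg.Agent.H64.Dl.Sph Cfsg.Agent.H996.Eight Cfsg.Agent.H996.Eight.Cert
open CoxeterSystem Cfsg.Agent.ChevalleyStructure.CoxeterGeom Cfsg.Agent.Tits.Roots Cfsg.Agent.Tits.Core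
  Cfsg.Agent.Nodes.Reps Cfsg.Agent.Nodes.BNOf Cfsg.Agent.Nodes.Bruhat Cfsg.Agent.Nodes.LeviDec

universe u

variable {m : ℕ}

/-- the eigenspace is one-dimensional -/
def Uq (th : List ℤ) (nu : Fin m → List ℤ) (o : Fin m) (B : Fin m → Fin m → List ℤ) : Prop :=
  ∀ x : ℕ, 2 ≤ x → ∀ b : Fin m → ℚ, (∀ r, ∑ c, ev x (mpOf th B r c) * b c = 0) →
    ∀ c, b c = b o * (ev x (nu c) / ev x (nu o))

/-- the test without one-dimensionality -/
def ok1 (C : Crt m) (o : Fin m) (B : Fin m → Fin m → List ℤ) (K : Fin m → List ℤ) : Prop :=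
  pPos (C.nu o) = true ∧ pPos C.dn = true ∧
  (∀ r, pZero (pSum fun c => pMul (mpOf C.th B r c) (C.nu c)) = true) ∧
  pEq (pMul C.dn (pSum fun c => pMul (K c) (pMul (C.nu c) (C.nu c))))
    (pScale C.den (pMul (pMul (C.nu o) (C.nu o)) (pSum K))) = true ∧
  0 < C.den

instance (C : Crt m) (o : Fin m) (B : Fin m → Fin m → List ℤ) (K : Fin m → List ℤ) : Decidable (ok1 C o B K) := by
  unfold ok1; infer_instance

theorem ok1_of_ok {C : Crt m} {o : Fin m} {B : Fin m → Fin m → List ℤ} {K : Fin m → List ℤ} (h : C.ok o B K) :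
    ok1 C o B K := ⟨h.1, h.2.1, h.2.2.1, h.2.2.2.2.1, h.2.2.2.2.2⟩

theorem ev_mpOf (x : ℚ) (th : List ℤ) (B : Fin m → Fin m → List ℤ) (r c : Fin m) :
    ev x (mpOf th B r c) = ev x (B r c) - if r = c then ev x th else 0 := by
  rw [mpOf]
  split_ifs
  · rw [ev_pAdd, ev_pNeg]; ring
  · ring

theorem sum_mpOf (x : ℚ) (th : List ℤ) (B : Fin m → Fin m → List ℤ) (r : Fin m) (b : Fin m → ℚ) :
    ∑ c, ev x (mpOf th B r c) * b c = ∑ c, ev x (B r c) * b c - ev x th * b r := by
  have h1 : ∀ c, ev x (mpOf th B r c) * b c = ev x (B r c) * b c - if r = c then ev x th * b c else 0 := by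
    intro c
    rw [ev_mpOf]
    split_ifs <;> ring
  rw [Finset.sum_congr rfl fun c _ => h1 c, Finset.sum_sub_distrib, Finset.sum_ite_eq, if_pos (Finset.mem_univ _)]

theorem uq_of_ok {C : Crt m} {o : Fin m} {B : Fin m → Fin m → List ℤ} {K : Fin m → List ℤ} (h : C.ok o B K) :
    Uq C.th C.nu o B := by
  intro x hx b hb c
  have hx' : (2 : ℚ) ≤ (x : ℚ) := by exact_mod_cast hx
  have hnu := ev_pos hx' h.1
  have heig : ∀ c, ∑ c', ev x (mpOf C.th B c c') * (ev x (C.nu c') / ev x (C.nu o)) = 0 := by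
    intro c
    have h9 := ev_of_pZero (x : ℚ) _ (h.2.2.1 c)
    rw [ev_pSum] at h9
    have h10 : ∑ c', ev (x : ℚ) (mpOf C.th B c c') * (ev x (C.nu c') / ev x (C.nu o)) =
        (∑ c', ev x (pMul (mpOf C.th B c c') (C.nu c'))) / ev x (C.nu o) := by
      rw [Finset.sum_div]
      refine Finset.sum_congr rfl fun c' _ => ?_
      rw [ev_pMul]
      ring
    rw [h10, h9, zero_div]
  have h9 := zero_of_chkU hx' (mpOf C.th B) (fun c => b c - b o * (ev x (C.nu c) / ev x (C.nu o)))
    (fun r => by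
      have e1 : ∀ c, ev (x : ℚ) (mpOf C.th B r c) * (b c - b o * (ev x (C.nu c) / ev x (C.nu o))) =
          ev x (mpOf C.th B r c) * b c - b o * (ev x (mpOf C.th B r c) * (ev x (C.nu c) / ev x (C.nu o))) := fun c => by ring
      rw [Finset.sum_congr rfl fun c _ => e1 c, Finset.sum_sub_distrib, ← Finset.mul_sum, hb, heig, mul_zero,
        sub_zero]) C.steps [o] (fun c hc => by
      rw [List.mem_singleton.1 hc, div_self hnu.ne', mul_one, sub_self]) h.2.2.2.1 c
  exact sub_eq_zero.1 h9

/-- **the whole spectrum** -/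
theorem uq_of_spec (C : Fin m → Crt m) (o : Fin m) (B : Fin m → Fin m → List ℤ) (hpos : ∀ i, pPos ((C i).nu o) = true)
    (heig : ∀ i r, pZero (pSum fun c => pMul (mpOf (C i).th B r c) ((C i).nu c)) = true)
    (hne : ∀ i k, i < k → pNV (pAdd (C i).th (pNeg (C k).th)) = true) (i : Fin m) :
    Uq (C i).th (C i).nu o B := by
  intro x hx b hb
  have hx' : (2 : ℚ) ≤ (x : ℚ) := by exact_mod_cast hx
  let v : Fin m → Fin m → ℚ := fun k c => ev x ((C k).nu c)
  let θ : Fin m → ℚ := fun k => ev x (C k).th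
  have hθ : Function.Injective θ := by
    intro i k hik
    by_contra hne'
    have key : ∀ i k : Fin m, i < k → θ i ≠ θ k := by
      intro i k hlt heq
      have h1 := ev_nv hx' (hne i k hlt)
      rw [ev_pAdd, ev_pNeg] at h1
      apply h1
      show θ i + -θ k = 0
      rw [heq, add_neg_cancel]
    rcases lt_or_gt_of_ne hne' with h2 | h2
    · exact key _ _ h2 hik
    · exact key _ _ h2 hik.symm
  let f : Module.End ℚ (Fin m → ℚ) := Matrix.toLin' (Matrix.of fun r c => ev (x : ℚ) (B r c))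
  have hf : ∀ (u : Fin m → ℚ) r, f u r = ∑ c, ev x (B r c) * u c := by
    intro u r
    rw [Matrix.toLin'_apply, Matrix.mulVec, dotProduct]
    rfl
  have hv : ∀ k, f.HasEigenvector (θ k) (v k) := by
    intro k
    rw [Module.End.hasEigenvector_iff, Module.End.mem_eigenspace_iff]
    constructor
    · funext r
      have h9 := ev_of_pZero (x : ℚ) _ (heig k r)
      rw [ev_pSum] at h9
      have h10 : ∑ c, ev (x : ℚ) (mpOf (C k).th B r c) * v k c = 0 := by
        rw [← h9]
        exact Finset.sum_congr rfl fun c _ => by rw [ev_pMul]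
      rw [sum_mpOf, sub_eq_zero] at h10
      rw [hf, h10]
      rfl
    · intro h0
      have h1 := ev_pos hx' (hpos k)
      have h2 : v k o = 0 := by rw [h0]; rfl
      exact h1.ne' h2
  have hli := Module.End.eigenvectors_linearIndependent' f θ hθ v hv
  have hspan : Submodule.span ℚ (Set.range v) = ⊤ := by
    apply hli.span_eq_top_of_card_eq_finrank'
    rw [Module.finrank_fintype_fun_eq_card]
  have hbm : b ∈ Submodule.span ℚ (Set.range v) := by rw [hspan]; trivial
  rw [Submodule.mem_span_range_iff_exists_fun] at hbm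
  obtain ⟨a, ha⟩ := hbm
  have hfb : f b = θ i • b := by
    funext r
    have h1 := hb r
    rw [sum_mpOf, sub_eq_zero] at h1
    rw [hf, h1]
    rfl
  have h1 : ∑ k, (a k * (θ k - θ i)) • v k = 0 := by
    have h2 : f b = ∑ k, (a k * θ k) • v k := by
      rw [← ha, map_sum]
      refine Finset.sum_congr rfl fun k _ => ?_
      rw [map_smul, (hv k).apply_eq_smul, smul_smul]
    have h3 : θ i • b = ∑ k, (a k * θ i) • v k := by
      rw [← ha, Finset.smul_sum]
      refine Finset.sum_congr rfl fun k _ => ?_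
      rw [smul_smul, mul_comm]
    rw [hfb, h3] at h2
    have h4 : ∀ k, (a k * (θ k - θ i)) • v k = (a k * θ k) • v k - (a k * θ i) • v k := by
      intro k
      rw [← sub_smul]
      congr 1
      ring
    rw [Finset.sum_congr rfl fun k _ => h4 k, Finset.sum_sub_distrib, ← h2, sub_self]
  have h2 : ∀ k, k ≠ i → a k = 0 := by
    intro k hk
    have h3 := Fintype.linearIndependent_iff.1 hli _ h1 k
    rcases mul_eq_zero.1 h3 with h4 | h4
    · exact h4
    · exact absurd (hθ (sub_eq_zero.1 h4)) hk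
  have h3 : b = a i • v i := by
    rw [← ha, Finset.sum_eq_single i]
    · intro k _ hk
      rw [h2 k hk, zero_smul]
    · exact fun h => absurd (Finset.mem_univ _) h
  intro c
  have h4 := ev_pos hx' (hpos i)
  have h5 : ∀ c, b c = a i * ev x ((C i).nu c) := fun c => by rw [h3]; rfl
  rw [h5, h5]
  field_simp

end Cfsg.Agent.H996.PQ
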