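import Cfsg.Agent.H996.PQ.Val
import Cfsg.Agent.H996.PQ.Spec

/-!
# A certificate gives a constituent of `1_P^G` with its values (helper996, for S4612)
-/

set_option autoImplicit false

namespace Cfsg.Agent.H996.PQ

open Cfsg.Agent.H967.Sph Cfsg.Agent.H64.Dl.Sph Cfsg.Agent.H996.Eight Cfsg.Agent.H996.Eight.Cert
open CoxeterSystem Cfsg.Agent.ChevalleyStructure.CoxeterGeom Cfsg.Agent.Tits.Roots Cfsg.Agent.Tits.Core
  Cfsg.Agent.Nodes.Reps Cfsg.Agent.Nodes.BNOf Cfsg.Agent.Nodes.Bruhat Cfsg.Agent.Nodes.LeviDec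

universe u

/-- **A certificate gives a constituent with its values.** -/
theorem exists_crt {I W : Type*} {Y : Type u} [Fintype I] [DecidableEq I] [Group W] [Finite W] [Group Y] [Finite Y]
    {M : CoxeterMatrix I} {cs : CoxeterSystem M W} {A : I → I → ℤ} {h : IsCartan M A} {p : ℕ} {T : Subgroup Y}
    {n : I → Y} {X : (I → ℤ) → Subgroup Y} (R : RGD cs h p T n X) (hG : GG cs h T X = ⊤)
    {j : I} {N m : ℕ} (D : Data A j N m) {x : ℕ} (hx : 2 ≤ x) (hq : ∀ i, Nat.card (X (sr i)) = x ^ D.e i)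
    (C : Crt m) (hC : ok1 C (D.t.cls D.t.o) D.bb D.kk)
    (hU : Uq C.th C.nu (D.t.cls D.t.o) D.bb) (hD : pDvd C.den C.dn) :
    ∃ χ : Y → ℂ, HasVal R hG D.t χ (val C.den C.dn x)
      (fun c => ev x (C.nu c) / ev x (C.nu (D.t.cls D.t.o))) := by
  obtain ⟨o, ho⟩ : ∃ o, o = D.t.cls D.t.o := ⟨_, rfl⟩
  rw [← ho] at hC hU ⊢
  obtain ⟨h3, h4, h5, h7, h8⟩ := hC
  have hx' : (2 : ℚ) ≤ (x : ℚ) := by exact_mod_cast hx
  have htd := ev_pos hx' D.chkF
  have hnu := ev_pos hx' h3
  have hval := val_spec h8 hD h4 hx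
  have hden : (0 : ℚ) < C.den := by exact_mod_cast h8
  have hsum : ∀ f : Fin m → ℚ, ∑ s, ((x ^ D.wl s : ℕ) : ℚ) * f (D.t.cls s) = ∑ c, ev x (D.kk c) * f c := by
    intro f
    rw [← Finset.sum_fiberwise (s := Finset.univ) (g := fun s => D.t.cls s)]
    refine Finset.sum_congr rfl fun c _ => ?_
    rw [← ChkK.spec (x : ℚ) D.chkK c, Finset.sum_mul]
    refine Finset.sum_congr rfl fun s hs => ?_
    rw [(Finset.mem_filter.1 hs).2]
    push_cast
    rfl
  have hK : ∀ c, (∑ s, if D.t.cls s = c then ((x ^ D.wl s : ℕ) : ℚ) else 0) = ev x (D.kk c) := by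
    intro c
    rw [← ChkK.spec (x : ℚ) D.chkK c, Finset.sum_filter]
    refine Finset.sum_congr rfl fun s _ => ?_
    push_cast
    rfl
  -- the equations in terms of `mp`
  have hmp : ∀ (b : Fin m → ℚ) (c : Fin m),
      (∑ s, (if D.t.cls s = c then ((x ^ D.wl s : ℕ) : ℚ) * D.t.tau (fun i => x ^ D.e i) j (fun u => b (D.t.cls u)) s
        else 0) = ev x C.th / ev x D.ff * (∑ s, if D.t.cls s = c then ((x ^ D.wl s : ℕ) : ℚ) else 0) * b c) ↔
      ∑ c', ev x (mpOf C.th D.bb c c') * b c' = 0 := by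
    intro b c
    rw [D.chkM.spec x b c, hK]
    have hKc := ev_pos hx' (D.chkP c)
    have e1 : ∑ c', ev x (mpOf C.th D.bb c c') * b c' = ∑ c', ev x (D.bb c c') * b c' - ev x C.th * b c := by
      have e2 : ∀ c', ev (x : ℚ) (mpOf C.th D.bb c c') * b c' = ev x (D.bb c c') * b c' -
          if c = c' then ev x C.th * b c' else 0 := by
        intro c'
        rw [mpOf]
        split_ifs with hcc
        · rw [ev_pAdd, ev_pNeg]
          ring
        · ring
      rw [Finset.sum_congr rfl fun c' _ => e2 c', Finset.sum_sub_distrib, Finset.sum_ite_eq,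
        if_pos (Finset.mem_univ _)]
    have e3 : ev x (D.kk c) * ∑ c', ev x (D.bb c c') * b c' = ev x D.ff * ∑ c', ev x (D.mat c c') * b c' := by
      rw [Finset.mul_sum, Finset.mul_sum]
      refine Finset.sum_congr rfl fun c' _ => ?_
      have h9 := ev_of_pEq (x : ℚ) (D.chkB c c')
      rw [ev_pMul, ev_pMul] at h9
      rw [← mul_assoc, h9, mul_assoc]
    rw [e1, sub_eq_zero]
    constructor
    · intro h
      rw [h] at e3
      refine mul_left_cancel₀ hKc.ne' ?_
      rw [e3]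
      field_simp
    · intro h
      rw [h] at e3
      refine mul_left_cancel₀ htd.ne' ?_
      rw [← e3]
      field_simp
  have heig : ∀ c, ∑ c', ev x (mpOf C.th D.bb c c') * (ev x (C.nu c') / ev x (C.nu o)) = 0 := by
    intro c
    have h9 := ev_of_pZero (x : ℚ) _ (h5 c)
    rw [ev_pSum] at h9
    have h10 : ∑ c', ev (x : ℚ) (mpOf C.th D.bb c c') * (ev x (C.nu c') / ev x (C.nu o)) =
        (∑ c', ev x (pMul (mpOf C.th D.bb c c') (C.nu c'))) / ev x (C.nu o) := by
      rw [Finset.sum_div]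
      refine Finset.sum_congr rfl fun c' _ => ?_
      rw [ev_pMul]
      ring
    rw [h10, h9, zero_div]
  obtain ⟨χ, hχ⟩ := exists_val R hG D.t (fun i => x ^ D.e i) hq (ev x C.th / ev x D.ff)
    (fun c => ev x (C.nu c) / ev x (C.nu o)) (by rw [← ho]; exact div_self hnu.ne') (fun s => x ^ D.wl s)
    (by simp only [D.wo, pow_zero])
    (fun i s h9 => by
      show x ^ D.wl (D.t.st i s) = x ^ D.e i * x ^ D.wl s
      rw [D.ws i s h9, pow_add])
    (fun c => (hmp _ c).2 (heig c))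
    (fun b hb c => by
      rw [← ho]
      exact hU x hx b (fun c => (hmp b c).1 (hb c)) c)
    (val C.den C.dn x) (by
      rw [hsum (fun c => (ev x (C.nu c) / ev x (C.nu o)) ^ 2)]
      have h9 := hsum (fun _ => 1)
      simp only [mul_one] at h9
      rw [h9]
      have h10 := ev_of_pEq (x : ℚ) h7
      rw [ev_pMul, ev_pScale, ev_pMul, ev_pMul, ev_pSum, ev_pSum, ← hval] at h10
      have h11 : ∑ c, ev (x : ℚ) (D.kk c) * (ev x (C.nu c) / ev x (C.nu o)) ^ 2 =
          (∑ c, ev x (pMul (D.kk c) (pMul (C.nu c) (C.nu c)))) / ev x (C.nu o) ^ 2 := by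
        rw [Finset.sum_div]
        refine Finset.sum_congr rfl fun c _ => ?_
        rw [ev_pMul, ev_pMul]
        ring
      rw [h11]
      have h12 : (0 : ℚ) < ev x (C.nu o) ^ 2 := by positivity
      rw [← mul_div_assoc, div_eq_iff h12.ne']
      refine mul_left_cancel₀ hden.ne' ?_
      rw [← mul_assoc, h10]
      push_cast
      ring)
  exact ⟨χ, hχ⟩

end Cfsg.Agent.H996.PQ
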