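import Cfsg.Agent.H996.PQ.Full
import Cfsg.Agent.H996.Eight.TabTwEb

/-!
# Full certificate: `²E₆`, node `3` (helper996, for S4612; made by a program)

`|G : P| = 1*q^0*P2^2*P3*P4*P6^2*P10*P12*P18`, number of the long root subgroups `1*q^0*P2*P3*P4*P6*P8*P12*P18` (`Pn` the cyclotomic
polynomials at `q`). Constituents (degree, `D`):
* `0`: degree `1*q^0 / 1`, `D = 0`
* `1`: degree `1*q^2*P4*P8*P10*P12 / 1`, `D = 1*q^10*P2*P3*P6*P18`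
* `2`: degree `1*q^3*P4^2*P10*P12*P18 / 2`, `D = 1*q^9*P1*P2*P3^2*P6*P8`
* `3`: degree `1*q^3*P3^2*P8*P10*P18 / 2`, `D = 1*q^9*P2*P4*P6*P12*(-1 + 1*q + 1*q^2 + 1*q^3)`
* `4`: degree `1*q^6*P4^2*P8*P12*P18 / 1`, `D = 1*q^9*P2*P3*P6*P10*(-1 + 1*q^2 + 1*q^3)`
-/

set_option autoImplicit false
set_option maxRecDepth 20000

namespace Cfsg.Agent.H996.PQ.FullTwEb

open Cfsg.Agent.H967.Sph Cfsg.Agent.H64.Dl.Sph Cfsg.Agent.H996.Eight Cfsg.Agent.H996.Eight.Cert Cfsg.Agent.H996.Eight.En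

def c0 : Crt 5 := ⟨[], fun _ => [1], [], [1], 1⟩

/-- the certificates -/
def C (i : Fin 5) : Crt 5 := ([c0, TabTwEb.c1, TabTwEb.c2, TabTwEb.c3, TabTwEb.c4] : List (Crt 5)).getD i c0


/-- the polynomials -/
def pol : Pol 5 where
  N := [1, 0, 1, 0, 1, 1, 1, 1, 1, 2, 1, 2, 0, 2, 1, 2, 1, 1, 1, 1, 1, 0, 1, 0, 1]
  dn i := (C i).dn
  den i := (C i).den
  D i := ([[], [0, 0, 0, 0, 0, 0, 0, 0, 0, 0, 1, 1, 1, 0, 0, 0, 0, 0, 0, 1, 1, 1], [0, 0, 0, 0, 0, 0, 0, 0, 0, -1, -1, -1, 0, -1, -1, 0, 1, 1, 0, 1, 1, 1], [0, 0, 0, 0, 0, 0, 0, 0, 0, -1, 1, 1, 0, 1, 1, 0, 1, 1, 0, 1, 1, 1], [0, 0, 0, 0, 0, 0, 0, 0, 0, -1, 0, 0, 1, 0, 0, 1, 1, 1, 0, 1, 1, 1]] : List (List ℤ)).getD i []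
  o := 0
  nu i := (C i).nu

/-- the long roots -/
def rt : RTab 4 12 where
  V := 95804355709607688306258705470107305653006388174070834
  S := 1699689687821084979630105002185708523317618492525406147924862532433349034004965152026569243572471733938715872985089
  P := 280384106402320
  Q := 1099511627776

/-- **The full certificate.** -/
def full : Full TabTwEb.A 3 24 5 ![2, 3, 4, 2] where
  Da := TabTwEb.data
  C := C
  i₀ := 0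
  P := pol
  hP := ⟨rfl, rfl, rfl, by decide +kernel⟩
  hN := by decide +kernel
  triv := ⟨by decide +kernel, rfl, rfl⟩
  ok := fun i => match i with
    | 0 => fun h => absurd rfl h
    | 1 => fun _ => ⟨ok1_of_ok TabTwEb.ok1, TabTwEb.dvd1⟩
    | 2 => fun _ => ⟨ok1_of_ok TabTwEb.ok2, TabTwEb.dvd2⟩
    | 3 => fun _ => ⟨ok1_of_ok TabTwEb.ok3, TabTwEb.dvd3⟩
    | 4 => fun _ => ⟨ok1_of_ok TabTwEb.ok4, TabTwEb.dvd4⟩
  uq := fun i => match i with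
    | 0 => fun h => absurd rfl h
    | 1 => fun _ => uq_of_ok TabTwEb.ok1
    | 2 => fun _ => uq_of_ok TabTwEb.ok2
    | 3 => fun _ => uq_of_ok TabTwEb.ok3
    | 4 => fun _ => uq_of_ok TabTwEb.ok4
  FF := [0, 0, 0, 0, 0, 0, 0, 0, 0, 1]
  LL := 2
  cf i := ([[0, 0, 0, 0, 0, 0, 0, 0, 0, 2], [0, 0, 2, -2, 2, -2, 2, 0, 2, -2, 2, -2, 2], [1, -1, 1, -2, 2, -1, 3, -3, 2, -3, 3, -1, 2, -2, 1, -1, 1], [1, 0, 1, -2, 1, -1, 3, -1, 1, -2, 1, 0, 1], [2, 0, 0, -2, 0, 0, 4, 0, 0, -2, 0, 0, 2]] : List (List ℤ)).getD i []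
  hF := by decide +kernel
  hcf := by decide +kernel
  hsum := by decide +kernel
  hne := by decide +kernel
  NL := [1, 1, 1, 0, 1, 1, 2, 1, 1, 1, 2, 2, 1, 1, 1, 2, 1, 1, 0, 1, 1, 1]
  nr := 12
  nz := ⟨by decide⟩
  Z := rt
  hZ := ⟨by decide +kernel, by decide +kernel, by decide +kernel⟩
  kap n := ([0, 0, 2] : List (Fin 5)).getD n 0
  hkap := by decide +kernel
  VV c := ([[1, 0, 1, 0, 1, 1, 1, 1, 1, 2, 1, 2, 0, 2, 1, 1, 1, 0, 1], [], [0, 0, 0, 0, 0, 0, 0, 0, 0, 0, 0, 0, 0, 0, 0, 1, 0, 1, 0, 1, 1, 0, 1, 0, 1], [], []] : List (List ℤ)).getD c []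
  hVV := by decide +kernel
  hD := by decide +kernel

end Cfsg.Agent.H996.PQ.FullTwEb
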