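import Cfsg.Agent.H996.PQ.RowsX
import Cfsg.Agent.H996.PQ.RowTwE

/-!
# The extended separation theorem: `²E₆(q)` (helper996, for S4612; made by a program)
-/

set_option autoImplicit false
set_option maxRecDepth 20000

namespace Cfsg.Agent.H996.PQ.TwE

open Cfsg Cfsg.Agent.H967.Sph Cfsg.Agent.H317.PQ Cfsg.Agent.H64.Dl.Sph Cfsg.Agent.H996.Eight.Cert
open CoxeterSystem Cfsg.Agent.ChevalleyStructure.CoxeterGeom Cfsg.Agent.Tits.Roots Cfsg.Agent.Tits.Core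
  Cfsg.Agent.Nodes.Reps Cfsg.Agent.Nodes.BNOf Cfsg.Agent.Nodes.Bruhat Cfsg.Agent.Nodes.LeviDec
open Cfsg.Lie Cfsg.Agent.H35.ExcIdx Cfsg.Agent.Nodes

universe u

theorem tw_sepX {A' : Fin 4 → Fin 4 → ℤ} (hA : Nodes.RGDTwE6.A = A') {j : Fin 4} {N m : ℕ}
    (Fu : Full A' j N m ![2, 3, 4, 2]) {lam : Fin m → Fin m → List ℤ} (hlam : Fu.Lam lam)
    (he : ∀ i, Fu.Da.e i = (![1, 1, 2, 2] : Fin 4 → ℕ) i)
    {N' m' : ℕ} (Da' : Data A' 0 N' m') (he' : ∀ i, Da'.e i = (![1, 1, 2, 2] : Fin 4 → ℕ) i)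
    (hNL : pEq (pSum Da'.kk) Fu.NL = true)
    (hw : ∀ r, (∀ k, Fu.Z.vec r k = (![2, 3, 4, 2] : Fin 4 → ℤ) k) →
      ∃ w i, Fu.Z.word 64 r = some (w, i) ∧ Fu.Da.e i = 1)
    {K : Type u} [Field K] [Fintype K] {x : ℕ} (hq : IsPrimePow x) (hK : Fintype.card K = x ^ 2)
    {p l : ℕ} (hp : p.Prime) (hl : l.Prime) (hS : Same p l ↥(twistedE6 K x)) : 
    SepX Fu.P lam x p l (Nat.card ↥(twistedE6 K x)) Fu.i₀ := by
  obtain ⟨r, f, hr, hf, hqf⟩ := (isPrimePow_nat_iff x).1 hq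
  have hch : CharP K r := by
    obtain ⟨r', g, hr', hg, hK', hch⟩ := exists_prime_pow' K
    have h1 : r' = r := by
      have h2 : r' ∣ r ^ (f * 2) := by
        rw [pow_mul, hqf, ← hK, hK']
        exact dvd_pow_self _ hg
      exact (Nat.prime_dvd_prime_iff_eq hr' hr).1 (hr'.dvd_of_dvd_pow h2)
    rwa [h1] at hch
  have : Fact r.Prime := ⟨hr⟩
  obtain ⟨φ, hφ, hqq⟩ := Cfsg.Agent.ChevalleyStructure.TwE6Basic.exists_frob hq hK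
  have : Finite ↥(twistedE6 K x) := by
    have : Finite (GL chevE6.Idx K) := by
      have : Finite (Matrix chevE6.Idx chevE6.Idx K) := inferInstance
      infer_instance
    infer_instance
  have D := data_TwE6_2 hr hf.ne' hqf.symm hφ hqq hK
  have := D.fin
  have h2 : 2 ≤ x := hq.two_le
  have hsz : ∀ i, Nat.card (Nodes.RGDTwE6.X φ x (sr i)) = x ^ (![1, 1, 2, 2] : Fin 4 → ℕ) i := by
    intro i
    rw [D.size i]
    fin_cases i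
    · exact (pow_one x).symm
    · exact (pow_one x).symm
    · rfl
    · rfl
  exact sepX_of D.rgd D.gg hA Fu hlam h2 (fun i => by rw [hsz, he]) (H315.PQ.cen_TwE6 _ φ) H315.PQ.hi_TwE6
    (H315.PQ.isRoot_TwE6 _) (card_top D.rgd hA Fu (fun i => by rw [hsz, he]) hw) Da' (fun i => by rw [hsz, he']) hNL
    hp hl hS

end Cfsg.Agent.H996.PQ.TwE

namespace Cfsg.Agent.H996.PQ.FullTwEa

open Cfsg Cfsg.Agent.H317.PQ Cfsg.Agent.H64.Dl.Sph Cfsg.Agent.H996.Eight Cfsg.Agent.H996.Eight.Cert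

universe u

/-- the eigenvalues of the double cosets: row `i` (constituent), column `c` (double coset) -/
def lamL : List (List (List ℤ)) :=
  [[[1], [0, 1, 1, 0, 1, 1, 1, 1, 0, 1, 1], [0, 0, 0, 0, 0, 0, 1, 0, 1, 0, 1, 1, 0, 1, 0, 1], [0, 0, 0, 0, 0, 0, 0, 0, 0, 0, 0, 1, 1, 0, 1, 1, 1, 1, 0, 1, 1], [0, 0, 0, 0, 0, 0, 0, 0, 0, 0, 0, 0, 0, 0, 0, 0, 0, 0, 0, 0, 0, 1]],
   [[1], [-1, 0, 0, -1, 0, -1, 0, 0, -1], [0, 0, 0, 1, 0, 1, 0, 1, 1, 0, 1, 0, 1], [0, 0, 0, 0, 0, 0, 0, -1, 0, 0, -1, 0, -1, 0, 0, -1], [0, 0, 0, 0, 0, 0, 0, 0, 0, 0, 0, 0, 0, 0, 0, 1]],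
   [[1], [-1, 0, 1, 0, 1, 1, 1, 1], [0, 0, -1, 0, -1, 0, 0, 0, 1, 0, 1], [0, 0, 0, 0, 0, -1, -1, -1, -1, 0, -1, 0, 1], [0, 0, 0, 0, 0, 0, 0, 0, 0, 0, 0, 0, -1]],
   [[1], [-1, 0, 1, -1, 0, -1], [0, 0, -1, 1, -1, 1, -1, 1], [0, 0, 0, 0, 1, 0, 1, -1, 0, 1], [0, 0, 0, 0, 0, 0, 0, 0, 0, -1]],
   [[1], [-1, 0, 1, -1, 0, 1], [0, 0, -1, 1, -1, -1, 1, -1], [0, 0, 0, 0, 1, 0, -1, 1, 0, -1], [0, 0, 0, 0, 0, 0, 0, 0, 0, 1]]]

/-- the eigenvalue of the double coset `c` on the constituent `i` -/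
def lam (i c : Fin 5) : List ℤ := (lamL.getD i []).getD c []

theorem lam_ok : full.Lam lam := by
  show ∀ i c, pEq (pMul (lam i c) (full.P.nu i full.P.o)) (pMul (full.Da.kk c) (full.P.nu i c)) = true
  decide +kernel

/-- **The extended theorem.** -/
theorem sepX {K : Type u} [Field K] [Fintype K] {x : ℕ} (hq : IsPrimePow x) (hK : Fintype.card K = x ^ 2)
    {p l : ℕ} (hp : p.Prime) (hl : l.Prime) (hS : Same p l ↥(Cfsg.Lie.twistedE6 K x)) :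
    SepX pol lam x p l (Nat.card ↥(Cfsg.Lie.twistedE6 K x)) 0 :=
  TwE.tw_sepX hA full lam_ok (by decide +kernel) TabTwEa.data (by decide +kernel) (by decide +kernel) hw hq hK hp hl hS

end Cfsg.Agent.H996.PQ.FullTwEa

namespace Cfsg.Agent.H996.PQ.FullTwEb

open Cfsg Cfsg.Agent.H317.PQ Cfsg.Agent.H64.Dl.Sph Cfsg.Agent.H996.Eight Cfsg.Agent.H996.Eight.Cert

universe u

/-- the eigenvalues of the double cosets: row `i` (constituent), column `c` (double coset) -/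
def lamL : List (List (List ℤ)) :=
  [[[1], [0, 0, 1, 0, 1, 1, 1, 1, 1, 1, 0, 1], [0, 0, 0, 0, 0, 0, 0, 0, 0, 1, 1, 1, 0, 1, 1, 1], [0, 0, 0, 0, 0, 0, 0, 0, 0, 0, 0, 0, 0, 1, 0, 1, 1, 1, 1, 1, 1, 0, 1], [0, 0, 0, 0, 0, 0, 0, 0, 0, 0, 0, 0, 0, 0, 0, 0, 0, 0, 0, 0, 0, 0, 0, 0, 1]],
   [[1], [-1, 0, 0, 0, 1, 1, 1, 1, 1], [0, 0, 0, 0, -1, -1, -1, 0, 0, 1, 1, 1], [0, 0, 0, 0, 0, 0, 0, -1, -1, -1, -1, -1, 0, 0, 0, 1], [0, 0, 0, 0, 0, 0, 0, 0, 0, 0, 0, 0, 0, 0, 0, -1]],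
   [[1], [-1, 0, 0, -1, -1, 0, 0, -1], [0, 0, 0, 1, 1, 1, 0, 1, 1, 1], [0, 0, 0, 0, 0, -1, 0, 0, -1, -1, 0, 0, -1], [0, 0, 0, 0, 0, 0, 0, 0, 0, 0, 0, 0, 1]],
   [[1], [-1, 0, 0, -1, 1, 0, 0, 1], [0, 0, 0, 1, -1, -1, 0, -1, -1, 1], [0, 0, 0, 0, 0, 1, 0, 0, 1, -1, 0, 0, -1], [0, 0, 0, 0, 0, 0, 0, 0, 0, 0, 0, 0, 1]],
   [[1], [-1, 0, 0, -1], [0, 0, 0, 1, 0, 0, -1], [0, 0, 0, 0, 0, 0, 1, 0, 0, 1], [0, 0, 0, 0, 0, 0, 0, 0, 0, -1]]]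

/-- the eigenvalue of the double coset `c` on the constituent `i` -/
def lam (i c : Fin 5) : List ℤ := (lamL.getD i []).getD c []

theorem lam_ok : full.Lam lam := by
  show ∀ i c, pEq (pMul (lam i c) (full.P.nu i full.P.o)) (pMul (full.Da.kk c) (full.P.nu i c)) = true
  decide +kernel

/-- **The extended theorem.** -/
theorem sepX {K : Type u} [Field K] [Fintype K] {x : ℕ} (hq : IsPrimePow x) (hK : Fintype.card K = x ^ 2)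
    {p l : ℕ} (hp : p.Prime) (hl : l.Prime) (hS : Same p l ↥(Cfsg.Lie.twistedE6 K x)) :
    SepX pol lam x p l (Nat.card ↥(Cfsg.Lie.twistedE6 K x)) 0 :=
  TwE.tw_sepX hA full lam_ok (by decide +kernel) TabTwEa.data (by decide +kernel) (by decide +kernel) hw hq hK hp hl hS

end Cfsg.Agent.H996.PQ.FullTwEb

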