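import Cfsg.Agent.H996.PQ.Rows
import Cfsg.Agent.H996.PQ.FullE8a

/-!
# The separation theorem and the polynomials: `E₈(q)`, node `7` (helper996, for S4612; made by a program)
-/

set_option autoImplicit false

namespace Cfsg.Agent.H996.PQ.FullE8a

open Cfsg Cfsg.Agent.H317.PQ Cfsg.Agent.H996.Eight Cfsg.Agent.H996.Eight.Cert Cfsg.Agent.H35.ExcIdx
open Cfsg.Lie Cfsg.Agent.ChevalleyStructure.CoxeterGeomTypes Cfsg.Agent.Nodes.RGDChev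

universe u

theorem evN (x : ℤ) : evZ x pol.N = (x + 1) * (x ^ 2 + x + 1) * (x ^ 2 + 1) ^ 2 * (x ^ 4 + x ^ 3 + x ^ 2 + x + 1) * (x ^ 2 - x + 1) * (x ^ 4 + 1) * (x ^ 4 - x ^ 3 + x ^ 2 - x + 1) * (x ^ 4 - x ^ 2 + 1) * (x ^ 8 - x ^ 7 + x ^ 5 - x ^ 4 + x ^ 3 - x + 1) * (x ^ 8 - x ^ 6 + x ^ 4 - x ^ 2 + 1) * (x ^ 8 - x ^ 4 + 1) * (x ^ 8 + x ^ 7 - x ^ 5 - x ^ 4 - x ^ 3 + x + 1) := by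
  show evZ x [1, 1, 1, 1, 1, 1, 2, 2, 2, 2, 3, 3, 4, 4, 4, 4, 5, 5, 6, 6, 6, 6, 7, 7, 7, 7, 7, 7, 8, 8, 7, 7, 7, 7, 7, 7, 6, 6, 6, 6, 5, 5, 4, 4, 4, 4, 3, 3, 2, 2, 2, 2, 1, 1, 1, 1, 1, 1] = _
  simp only [evZ]
  ring

theorem evD1 (x : ℤ) : evZ x (pol.D 1) = x ^ 28 * (x + 1) * (x ^ 2 + x + 1) * (x ^ 4 + x ^ 3 + x ^ 2 + x + 1) * (x ^ 2 - x + 1) * (x ^ 4 - x ^ 3 + x ^ 2 - x + 1) * (x ^ 8 - x ^ 7 + x ^ 5 - x ^ 4 + x ^ 3 - x + 1) * (x ^ 8 + x ^ 7 - x ^ 5 - x ^ 4 - x ^ 3 + x + 1) := by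
  show evZ x [0, 0, 0, 0, 0, 0, 0, 0, 0, 0, 0, 0, 0, 0, 0, 0, 0, 0, 0, 0, 0, 0, 0, 0, 0, 0, 0, 0, 1, 1, 1, 1, 1, 1, 1, 1, 1, 1, 1, 1, 1, 1, 1, 1, 1, 1, 1, 1, 1, 1, 1, 1, 1, 1, 1, 1, 1, 1] = _
  simp only [evZ]
  ring

theorem evD2 (x : ℤ) : evZ x (pol.D 2) = x ^ 28 * (x + 1) * (x ^ 2 + x + 1) * (x ^ 2 + 1) ^ 2 * (x ^ 2 - x + 1) * (x ^ 4 + 1) * (x ^ 4 - x ^ 2 + 1) ^ 2 * (x ^ 8 - x ^ 4 + 1) := by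
  show evZ x [0, 0, 0, 0, 0, 0, 0, 0, 0, 0, 0, 0, 0, 0, 0, 0, 0, 0, 0, 0, 0, 0, 0, 0, 0, 0, 0, 0, 1, 1, 1, 1, 1, 1, 2, 2, 2, 2, 2, 2, 2, 2, 2, 2, 2, 2, 2, 2, 2, 2, 2, 2, 1, 1, 1, 1, 1, 1] = _
  simp only [evZ]
  ring

theorem evD3 (x : ℤ) : evZ x (pol.D 3) = x ^ 27 * (x + 1) * (x ^ 2 + x + 1) * (x ^ 4 + x ^ 3 + x ^ 2 + x + 1) * (x ^ 2 - x + 1) * (x ^ 4 - x ^ 3 + x ^ 2 - x + 1) * (x ^ 8 - x ^ 7 + x ^ 5 - x ^ 4 + x ^ 3 - x + 1) * (x ^ 9 + x ^ 8 - x ^ 6 - x ^ 5 - x ^ 4 + x ^ 3 + 2 * x ^ 2 + x - 1) := by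
  show evZ x [0, 0, 0, 0, 0, 0, 0, 0, 0, 0, 0, 0, 0, 0, 0, 0, 0, 0, 0, 0, 0, 0, 0, 0, 0, 0, 0, -1, 1, 1, 1, 1, 1, 2, 2, 2, 2, 3, 3, 3, 3, 3, 4, 3, 3, 3, 3, 3, 2, 2, 2, 2, 1, 1, 1, 1, 1, 1] = _
  simp only [evZ]
  ring

theorem evD4 (x : ℤ) : evZ x (pol.D 4) = x ^ 27 * (x ^ 2 + x + 1) * (x ^ 2 + 1) ^ 2 * (x ^ 4 + x ^ 3 + x ^ 2 + x + 1) * (x ^ 4 - x ^ 2 + 1) * (x ^ 8 - x ^ 7 + x ^ 5 - x ^ 4 + x ^ 3 - x + 1) * (x ^ 8 - x ^ 6 + x ^ 4 - x ^ 2 + 1) := by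
  show evZ x [0, 0, 0, 0, 0, 0, 0, 0, 0, 0, 0, 0, 0, 0, 0, 0, 0, 0, 0, 0, 0, 0, 0, 0, 0, 0, 0, 1, 1, 1, 1, 1, 1, 2, 2, 2, 2, 3, 3, 3, 3, 3, 2, 3, 3, 3, 3, 3, 2, 2, 2, 2, 1, 1, 1, 1, 1, 1] = _
  simp only [evZ]
  ring

theorem evdn1 (x : ℤ) : evZ x (pol.dn 1) = x * (x ^ 2 + 1) ^ 2 * (x ^ 4 + 1) * (x ^ 4 - x ^ 2 + 1) * (x ^ 8 - x ^ 6 + x ^ 4 - x ^ 2 + 1) * (x ^ 8 - x ^ 4 + 1) := by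
  show evZ x [0, 1, 0, 0, 0, 0, 0, 1, 0, 0, 0, 1, 0, 1, 0, 0, 0, 1, 0, 1, 0, 0, 0, 1, 0, 0, 0, 0, 0, 1] = _
  simp only [evZ]
  ring

theorem evdn2 (x : ℤ) : evZ x (pol.dn 2) = x ^ 2 * (x ^ 4 + x ^ 3 + x ^ 2 + x + 1) * (x ^ 6 + x ^ 5 + x ^ 4 + x ^ 3 + x ^ 2 + x + 1) * (x ^ 4 - x ^ 3 + x ^ 2 - x + 1) * (x ^ 6 - x ^ 5 + x ^ 4 - x ^ 3 + x ^ 2 - x + 1) * (x ^ 8 - x ^ 7 + x ^ 5 - x ^ 4 + x ^ 3 - x + 1) * (x ^ 8 - x ^ 6 + x ^ 4 - x ^ 2 + 1) * (x ^ 8 + x ^ 7 - x ^ 5 - x ^ 4 - x ^ 3 + x + 1) := by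
  show evZ x [0, 0, 1, 0, 0, 0, 1, 0, 1, 0, 1, 0, 2, 0, 2, 0, 1, 0, 3, 0, 2, 0, 2, 0, 3, 0, 2, 0, 2, 0, 3, 0, 1, 0, 2, 0, 2, 0, 1, 0, 1, 0, 1, 0, 0, 0, 1] = _
  simp only [evZ]
  ring

theorem evdn3 (x : ℤ) : evZ x (pol.dn 3) = x ^ 3 * (x ^ 2 + 1) ^ 2 * (x ^ 6 + x ^ 5 + x ^ 4 + x ^ 3 + x ^ 2 + x + 1) * (x ^ 4 + 1) * (x ^ 6 + x ^ 3 + 1) * (x ^ 4 - x ^ 2 + 1) * (x ^ 6 - x ^ 5 + x ^ 4 - x ^ 3 + x ^ 2 - x + 1) * (x ^ 8 - x ^ 6 + x ^ 4 - x ^ 2 + 1) * (x ^ 8 - x ^ 4 + 1) * (x ^ 8 + x ^ 7 - x ^ 5 - x ^ 4 - x ^ 3 + x + 1) := by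
  show evZ x [0, 0, 0, 1, 1, 1, 1, 1, 0, 2, 2, 2, 1, 3, 1, 4, 4, 4, 1, 5, 2, 6, 5, 6, 1, 7, 4, 7, 5, 7, 0, 7, 5, 7, 4, 7, 1, 6, 5, 6, 2, 5, 1, 4, 4, 4, 1, 3, 1, 2, 2, 2, 0, 1, 1, 1, 1, 1] = _
  simp only [evZ]
  ring

theorem evdn4 (x : ℤ) : evZ x (pol.dn 4) = x ^ 3 * (x + 1) ^ 4 * (x ^ 2 - x + 1) ^ 2 * (x ^ 6 + x ^ 5 + x ^ 4 + x ^ 3 + x ^ 2 + x + 1) * (x ^ 4 + 1) * (x ^ 4 - x ^ 3 + x ^ 2 - x + 1) ^ 2 * (x ^ 6 - x ^ 5 + x ^ 4 - x ^ 3 + x ^ 2 - x + 1) * (x ^ 6 - x ^ 3 + 1) * (x ^ 8 - x ^ 4 + 1) * (x ^ 8 + x ^ 7 - x ^ 5 - x ^ 4 - x ^ 3 + x + 1) := by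
  show evZ x [0, 0, 0, 1, 1, 1, 1, 1, 2, 2, 2, 2, 3, 3, 3, 4, 4, 4, 5, 5, 6, 6, 5, 6, 7, 7, 6, 7, 7, 7, 8, 7, 7, 7, 6, 7, 7, 6, 5, 6, 6, 5, 5, 4, 4, 4, 3, 3, 3, 2, 2, 2, 2, 1, 1, 1, 1, 1] = _
  simp only [evZ]
  ring

/-- the degrees: `evdn` -/
theorem deg {x : ℕ} (hx : 2 ≤ x) (i : Fin 5) : (pol.den i : ℤ) * (pol.deg x i : ℤ) = evZ x (pol.dn i) :=
  full.degZ hx i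

theorem hA : cartanOf chevE8 8 = TabE8a.A := by
  funext i k
  revert i k
  decide +kernel

/-- **The same set `S` of constituents passes the tests for both primes.** -/
theorem sep {K : Type u} [Field K] [Fintype K] {p l : ℕ} (hp : p.Prime) (hl : l.Prime)
    (hS : Same p l ↥(chevE8.group K)) : Sep pol (Fintype.card K) p l 0 :=
  split_sep (hpE8) K hA full (by decide +kernel) H241.PQ.hi_E8 TabE8a.data (by decide +kernel)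
    (by decide +kernel) hp hl hS

end Cfsg.Agent.H996.PQ.FullE8a
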