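import Cfsg.Agent.H996.PQ.Kr
import Cfsg.Agent.H996.PQ.TabE8b

/-!
# Full certificate: `E₈`, node `0` (helper996, for S4612; made by a program)

`|G : P| = 1*q^0*P2^2*P3^2*P4*P5*P6^2*P8*P9*P10*P12*P14*P15*P18*P20*P24*P30`, number of the long root subgroups `1*q^0*P2*P3*P4^2*P5*P6*P8*P10*P12*P15*P20*P24*P30` (`Pn` the cyclotomic
polynomials at `q`). Constituents (degree, `D`):
* `0`: degree `1*q^0 / 1`, `D = 0`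
* `1`: degree `1*q^1*P4^2*P8*P12*P20*P24 / 1`, `D = 1*q^28*P2*P3*P5*P6*P10*P15*P30`
* `2`: degree `1*q^2*P5*P7*P10*P14*P15*P20*P30 / 1`, `D = 1*q^28*P2*P3*P4^2*P6*P8*P12^2*P24`
* `3`: degree `1*q^3*P4^2*P7*P8*P9*P12*P14*P20*P24*P30 / 2`, `D = 1*q^27*P2*P3*P5*P6*P10*P15*(-1 + 1*q + 2*q^2 + 1*q^3 + -1*q^4 + -1*q^5 + -1*q^6 + 1*q^8 + 1*q^9)`
* `4`: degree `1*q^3*P2^4*P6^2*P7*P8*P10^2*P14*P18*P24*P30 / 2`, `D = 1*q^27*P3*P4^2*P5*P12*P15*P20`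
* `5`: degree `1*q^4*P5^2*P8^2*P10*P14*P15*P18*P20*P24*P30 / 2`, `D = 1*q^27*P2*P3*P4^2*P6*P9*P12*(-1 + 1*q + 1*q^2 + -1*q^4 + 1*q^6 + 1*q^7 + -1*q^8 + -1*q^9 + 1*q^11)`
* `6`: degree `1*q^4*P5*P7*P8^2*P9*P10^2*P15*P20*P24*P30 / 2`, `D = 1*q^27*P2*P3*P4^2*P6*P12*P18*(1 + 1*q + -1*q^2 + 1*q^4 + -1*q^6 + 1*q^7 + 1*q^8 + -1*q^9 + 1*q^11)`
* `7`: degree `1*q^5*P4^2*P5*P7*P8^2*P10*P12*P14*P15*P20*P24*P30 / 1`, `D = 1*q^28*P2*P3*P6*(2 + 3*q^6 + 1*q^8 + 3*q^12 + 1*q^14 + 2*q^18 + 1*q^24)`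
* `8`: degree `1*q^6*P2^4*P5^2*P6^2*P8*P10^2*P14*P15*P18*P20*P24*P30 / 2`, `D = 1*q^28*P3*P4^2*P7*P12*(1 + -1*q + -1*q^2 + 3*q^3 + -1*q^4 + -2*q^5 + 2*q^6 + 1*q^7 + -2*q^8 + 2*q^10 + -1*q^11 + -1*q^12 + 1*q^13)`
* `9`: degree `1*q^6*P4^2*P5^2*P7*P8*P10^2*P12*P15*P18*P20*P24*P30 / 2`, `D = 1*q^28*P2*P3*P6*P14*(1 + 1*q + 2*q^2 + 1*q^3 + -1*q^4 + 1*q^5 + 3*q^6 + 1*q^7 + 1*q^8 + -1*q^10 + 1*q^11 + 2*q^12 + 1*q^17 + 1*q^18)`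
-/

set_option autoImplicit false
set_option maxRecDepth 20000

namespace Cfsg.Agent.H996.PQ.FullE8b

open Cfsg.Agent.H996.PQ.Big Cfsg.Agent.H967.Sph Cfsg.Agent.H64.Dl.Sph Cfsg.Agent.H996.Eight Cfsg.Agent.H996.Eight.Cert

theorem hcls : TabE8b.data.t.cls TabE8b.data.t.o = 0 := by decide +kernel

/-- degree `1*q^0 / 1` -/
def c0 : Crt 10 where
  th := [0, 1, 1, 1, 2, 2, 3, 4, 4, 4, 5, 5, 5, 5, 4, 4, 4, 3, 2, 2, 1, 1, 1]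
  nu c := ([[1], [1], [1], [1], [1], [1], [1], [1], [1], [1]] : List (List ℤ)).getD c []
  steps := []
  dn := [1]
  den := 1

/-- degree `1*q^1*P4^2*P8*P12*P20*P24 / 1` -/
def c1 : Crt 10 where
  th := [-1, 0, 0, 0, 1, 1, 2, 3, 4, 4, 5, 5, 5, 5, 4, 3, 3, 2, 1, 1]
  nu c := ([[0, 0, 0, 0, 0, 0, 0, 0, 0, 0, 0, 0, 0, 0, 0, 1, 1, 0, 0, 0, 0, 1, 1], [0, 0, 0, 0, 0, 0, 0, 0, 0, 0, 0, 0, 0, 0, -1, 0, 1, 1, 1, 1], [0, 0, 0, 0, 0, 0, 0, 0, 0, 0, 0, -1, -1, 0, 0, 1, 2, 1], [0, 0, 0, 0, 0, 0, 0, 0, 0, -1, -1, -1, 0, 1, 1, 1, 1], [0, 0, 0, 0, 0, 0, 0, 0, -1, -2, -1, 0, 1, 2, 1], [0, 0, 0, 0, 0, 0, -1, -1, 0, 0, 0, 0, 0, 0, 0, 1, 1], [0, 0, 0, 0, 0, 0, -1, -1, -1, -1, 0, 1, 1, 1], [0, 0, 0, 0, 0, -1, -2, -1, 0, 0, 1, 1], [0, 0, 0, -1, -1, -1, -1, 0, 1], [-1, -1, 0, 0, 0, 0, -1, -1]] : List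 (List ℤ)).getD c []
  steps := []
  dn := [0, 1, 0, 0, 0, 0, 0, 1, 0, 0, 0, 1, 0, 1, 0, 0, 0, 1, 0, 1, 0, 0, 0, 1, 0, 0, 0, 0, 0, 1]
  den := 1

/-- degree `1*q^2*P5*P7*P10*P14*P15*P20*P30 / 1` -/
def c2 : Crt 10 where
  th := [-1, 0, 0, -1, 0, 0, 1, 2, 3, 3, 4, 5, 4, 4, 3, 2, 2, 1]
  nu c := ([[0, 0, 0, 0, 0, 0, 0, 0, 0, 0, 0, 0, 0, 0, 0, 0, 0, 0, 0, 0, 0, 0, 0, 0, 1, 1, 1, 1, 1, 2, 3, 2, 2, 2, 2, 3, 2, 1, 1, 1, 1, 1], [0, 0, 0, 0, 0, 0, 0, 0, 0, 0, 0, 0, 0, 0, 0, 0, 0, 0, 0, 0, 0, 0, 0, -1, 0, 0, 0, 0, 0, 1, 3, 2, 2, 2, 2, 2, 1], [0, 0, 0, 0, 0, 0, 0, 0, 0, 0, 0, 0, 0, 0, 0, 0, 0, 0, 0, 1, 0, -1, -2, -3, -1, 0, 0, 0, 0, 1, 3, 3, 2, 1], [0, 0, 0, 0, 0, 0, 0, 0, 0, 0, 0, 0, 0, 0, 0, 1, 1, 1, -1, -1, -2, -2, -2, -3, -1, 0, 0, 1, 1, 2, 2, 1], [0, 0, 0, 0, 0, 0, 0, 0, 0, 0, 0, 0, 0,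 1, 2, 2, 1, -1, -3, -2, -2, -2, -2, -3, -1, 1, 2, 2, 1], [0, 0, 0, 0, 0, 0, 0, 0, 0, 0, 1, 1, 1, 0, 0, 0, 0, 0, -2, -1, -2, -2, -1, -2, 0, 0, 0, 0, 0, 1, 1, 1], [0, 0, 0, 0, 0, 0, 0, 0, 0, 0, 1, 2, 2, 1, 1, 0, 0, -1, -3, -2, -2, -2, -1, -1, 1, 1, 1], [0, 0, 0, 0, 0, 0, 0, 0, 1, 2, 3, 3, 1, 0, 0, 0, 0, -1, -3, -2, -1, 0, 1], [0, 0, 0, 0, 0, 1, 2, 2, 2, 2, 2, 3, 1, 0, 0, 0, 0, 0, -1], [1, 1, 1, 1, 1, 2, 3, 2, 2, 2, 2, 3, 2, 1, 1, 1, 1, 1]] : List (List ℤ)).getD c []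
  steps := []
  dn := [0, 0, 1, 0, 0, 0, 1, 0, 1, 0, 1, 0, 2, 0, 2, 0, 1, 0, 3, 0, 2, 0, 2, 0, 3, 0, 2, 0, 2, 0, 3, 0, 1, 0, 2, 0, 2, 0, 1, 0, 1, 0, 1, 0, 0, 0, 1]
  den := 1

/-- degree `1*q^3*P4^2*P7*P8*P9*P12*P14*P20*P24*P30 / 2` -/
def c3 : Crt 10 where
  th := [-1, 0, 0, -1, 0, -1, 0, 1, 0, 0, 1, 1, 1, 1, 0, 1, 1]
  nu c := ([[0, 0, 0, 0, 0, 0, 0, 0, 0, 0, 0, 0, 0, 0, 0, 0, 0, 0, 0, 0, 0, 0, 0, 0, 0, 0, 0, 0, 0, 0, 1, 2, 3, 4, 5, 6, 8, 9, 9, 9, 9, 9, 9, 8, 6, 5, 4, 3, 2, 1], [0, 0, 0, 0, 0, 0, 0, 0, 0, 0, 0, 0, 0, 0, 0, 0, 0, 0, 0, 0, 0, 0, 0, 0, 0, 0, 0, 0, 0, -1, -1, -1, -1, -1, -1, -1, 1, 2, 2, 2, 2, 2, 2, 1], [0, 0, 0, 0, 0, 0, 0, 0, 0, 0, 0, 0, 0, 0, 0, 0, 0, 0, 0, 0, 0, 0, 0, 0, 0, 1, 1, 1, 0, -2, -2, -2, -2, -2, -2, -2, 0, 1, 1, 1], [0, 0, 0, 0, 0, 0, 0, 0, 0, 0, 0,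 0, 0, 0, 0, 0, 0, 0, 0, 0, -1, 0, 1, 2, 2, 2, 2, 2, 1, -1, -1, -1, -1, -1, -1, 0, 1, 1], [0, 0, 0, 0, 0, 0, 0, 0, 0, 0, 0, 0, 0, 0, 0, 0, 0, -1, -2, -2, -2, 0, 1, 1, 1, 1, 1, 1, 0, -2, -2, -2, -1], [0, 0, 0, 0, 0, 0, 0, 0, 0, 0, 0, 0, 1, 1, 1, 1, 2, 3, 4, 5, 5, 7, 8, 9, 9, 9, 9, 8, 7, 5, 5, 4, 3, 2, 1, 1, 1, 1], [0, 0, 0, 0, 0, 0, 0, 0, 0, 0, 0, 0, 1, 1, 0, -1, -1, -1, -1, -1, -1, 1, 2, 2, 2, 2, 2, 1, 0, -1], [0, 0, 0, 0, 0, 0, 0, 0, 0, 0, 1, 1, 1, 0, -2, -2, -2, -2, -2, -2, -2, 0, 1, 1, 1], [0, 0, 0, 0, 0, 0, 1, 2, 2, 2, 2, 2, 2, 1, -1, -1, -1, -1, -1, -1, -1], [1, 2, 3, 4, 5, 6, 8, 9, 9, 9, 9, 9, 9, 8, 6, 5, 4, 3, 2, 1]] : List (List ℤ)).getD c []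
  steps := []
  dn := [0, 0, 0, 1, 1, 1, 1, 1, 0, 2, 2, 2, 1, 3, 1, 4, 4, 4, 1, 5, 2, 6, 5, 6, 1, 7, 4, 7, 5, 7, 0, 7, 5, 7, 4, 7, 1, 6, 5, 6, 2, 5, 1, 4, 4, 4, 1, 3, 1, 2, 2, 2, 0, 1, 1, 1, 1, 1]
  den := 2

/-- degree `1*q^3*P2^4*P6^2*P7*P8*P10^2*P14*P18*P24*P30 / 2` -/
def c4 : Crt 10 where
  th := [-1, 0, 0, -1, 0, -1, 0, 1, 2, 2, 3, 3, 3, 3, 2, 1, 1]
  nu c := ([[0, 0, 0, 0, 0, 0, 0, 0, 0, 0, 0, 0, 0, 0, 0, 0, 0, 0, 0, 0, 0, 0, 0, 0, 0, 0, 0, 0, 0, 0, 1, 2, 2, 3, 5, 7, 9, 10, 11, 14, 16, 16, 16, 16, 16, 16, 14, 11, 10, 9, 7, 5, 3, 2, 2, 1], [0, 0, 0, 0, 0, 0, 0, 0, 0, 0, 0, 0, 0, 0, 0, 0, 0, 0, 0, 0, 0, 0, 0, 0, 0, 0, 0, 0, 0, -1, -1, 0, -1, -2, -2, -1, 1, 2, 2, 5, 8, 9, 9, 9, 8, 7, 5, 3, 2, 1], [0, 0, 0, 0, 0, 0, 0, 0, 0, 0, 0, 0, 0, 0, 0, 0, 0, 0, 0, 0, 0, 0, 0, 0, 0, 1,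 1, 0, 0, -1, -2, -4, -7, -7, -6, -6, -4, -1, 1, 4, 6, 5, 4, 4, 3, 1], [0, 0, 0, 0, 0, 0, 0, 0, 0, 0, 0, 0, 0, 0, 0, 0, 0, 0, 0, 0, -1, 0, 2, 3, 2, 3, 4, 2, 0, -3, -6, -7, -8, -8, -7, -4, -1, 0, 1, 3, 3, 1, 1, 1], [0, 0, 0, 0, 0, 0, 0, 0, 0, 0, 0, 0, 0, 0, 0, 0, 0, -1, -2, -1, 1, 3, 5, 6, 6, 7, 6, 2, -2, -6, -7, -6, -6, -5, -3, -1, 1, 2, 1], [0, 0, 0, 0, 0, 0, 0, 0, 0, 0, 0, 0, -1, -1, 0, -1, -1, 0, 1, 2, 3, 4, 4, 5, 5, 4, 2, 0, 0, -2, -4, -5, -5, -4, -4, -3, -2, -1, 0, 1, 1, 0, 1, 1], [0, 0, 0, 0, 0, 0, 0, 0, 0, 0, 0, 0, -1, -1, -1, -3, -3, -1, 0, 1, 4, 7, 8, 8, 7, 6, 3, 0, -2, -4, -3, -2, -3, -2, 0, 1], [0, 0, 0, 0, 0, 0, 0, 0, 0, 0, -1, -3, -4, -4, -5, -6, -4, -1, 1, 4, 6, 6, 7, 7, 4, 2, 1, 0, 0, -1, -1], [0, 0, 0, 0, 0, 0, -1, -2, -3, -5, -7, -8, -9, -9, -9, -8, -5, -2, -2, -1,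 1, 2, 2, 1, 0, 1, 1], [-1, -2, -2, -3, -5, -7, -9, -10, -11, -14, -16, -16, -16, -16, -16, -16, -14, -11, -10, -9, -7, -5, -3, -2, -2, -1]] : List (List ℤ)).getD c []
  steps := []
  dn := [0, 0, 0, 1, 1, 1, 1, 1, 2, 2, 2, 2, 3, 3, 3, 4, 4, 4, 5, 5, 6, 6, 5, 6, 7, 7, 6, 7, 7, 7, 8, 7, 7, 7, 6, 7, 7, 6, 5, 6, 6, 5, 5, 4, 4, 4, 3, 3, 3, 2, 2, 2, 2, 1, 1, 1, 1, 1]
  den := 2

/-- degree `1*q^4*P5^2*P8^2*P10*P14*P15*P18*P20*P24*P30 / 2` -/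
def c5 : Crt 10 where
  th := [-1, 0, 0, -1, 0, -1, -1, 0, -1, -1, 0, -1, 0, 0, -1]
  nu c := ([[0, 0, 0, 0, 0, 0, 0, 0, 0, 0, 0, 0, 0, 0, 0, 0, 0, 0, 0, 0, 0, 0, 0, 0, 0, 0, 0, 0, 0, 0, 0, 0, 0, 0, 0, 0, 1, 2, 3, 4, 5, 5, 5, 5, 4, 3, 2, 1], [0, 0, 0, 0, 0, 0, 0, 0, 0, 0, 0, 0, 0, 0, 0, 0, 0, 0, 0, 0, 0, 0, 0, 0, 0, 0, 0, 0, 0, 0, 0, 0, 0, 0, 0, -1, -1, -1, -1, -1], [0, 0, 0, 0, 0, 0, 0, 0, 0, 0, 0, 0, 0, 0, 0, 0, 0, 0, 0, 0, 0, 0, 0, 0, 0, 0, 0, 0, 0, 0, 0, 1, 1, 1, 1], [0, 0, 0, 0, 0, 0, 0, 0, 0, 0, 0, 0, 0, 0, 0, 0, 0, 0, 0, 0, 0, 0, 0, 0, 0, 0, -1, -1, -1, -1, -1], [0, 0, 0, 0, 0, 0, 0, 0, 0, 0, 0, 0, 0, 0, 0, 0, 0, 0, 0, 0, 0, 0, 1, 1, 1, 1], [0, 0, 0, 0, 0, 0, 0, 0, 0, 0, 0, 0, 0, 0, 0, 0, 0, 0, 1, 2, 3, 4, 5, 5, 5, 5, 4, 3, 2, 1], [0, 0, 0, 0, 0, 0, 0, 0, 0, 0, 0, 0, 0, 0,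 0, 0, 0, -1, -1, -1, -1, -1], [0, 0, 0, 0, 0, 0, 0, 0, 0, 0, 0, 0, 0, 1, 1, 1, 1], [0, 0, 0, 0, 0, 0, 0, 0, -1, -1, -1, -1, -1], [1, 2, 3, 4, 5, 5, 5, 5, 4, 3, 2, 1]] : List (List ℤ)).getD c []
  steps := []
  dn := [0, 0, 0, 0, 1, 0, 0, -1, 2, -1, 2, -1, 3, -3, 4, -2, 6, -3, 5, -6, 9, -4, 9, -6, 11, -9, 12, -6, 14, -9, 13, -11, 16, -7, 15, -11, 16, -11, 15, -7, 16, -11, 13, -9, 14, -6, 12, -9, 11, -6, 9, -4, 9, -6, 5, -3, 6, -2, 4, -3, 3, -1, 2, -1, 2, -1, 0, 0, 1]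
  den := 2

/-- degree `1*q^4*P5*P7*P8^2*P9*P10^2*P15*P20*P24*P30 / 2` -/
def c6 : Crt 10 where
  th := [-1, 0, 0, -1, 0, -1, -1, 0, 1, 1, 2, 3, 2, 2, 1]
  nu c := ([[0, 0, 0, 0, 0, 0, 0, 0, 0, 0, 0, 0, 0, 0, 0, 0, 0, 0, 0, 0, 0, 0, 0, 0, 0, 0, 0, 0, 0, 0, 0, 0, 0, 0, 0, 0, 1, 1, 1, 1, 2, 3, 4, 3, 3, 4, 5, 5, 4, 3, 3, 4, 3, 2, 1, 1, 1, 1], [0, 0, 0, 0, 0, 0, 0, 0, 0, 0, 0, 0, 0, 0, 0, 0, 0, 0, 0, 0, 0, 0, 0, 0, 0, 0, 0, 0, 0, 0, 0, 0, 0, 0, 0, -1, 0, 0, 0, -1, -1, -1, 1, 1, 1, 1, 2, 2, 2, 1], [0, 0, 0, 0, 0, 0, 0, 0, 0, 0, 0, 0, 0, 0, 0, 0, 0, 0, 0, 0, 0, 0, 0, 0, 0, 0, 0, 0, 0, 0, 0, 1, 0, 0, 0, 0, 0, -1, -3, -4, -2, 0, 2, 2, 1], [0, 0, 0, 0, 0, 0, 0, 0, 0, 0, 0, 0, 0, 0, 0, 0, 0, 0, 0, 0, 0, 0, 0, 0, 0, 0, -1, 0, 0, 2, 1, 3, 1, 1, -1, -3, -3, -2, 0, 0, 1], [0, 0, 0, 0, 0, 0, 0,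 0, 0, 0, 0, 0, 0, 0, 0, 0, 0, 0, 0, 0, 0, 0, 1, 0, -2, -4, -2, 2, 7, 7, 2, -2, -4, -2, 0, 1], [0, 0, 0, 0, 0, 0, 0, 0, 0, 0, 0, 0, 0, 0, 0, 0, 0, 0, -1, -1, -1, -1, 0, -1, 0, -1, 1, 0, 1, 1, 0, 1, -1, 0, -1, 0, -1, -1, -1, -1], [0, 0, 0, 0, 0, 0, 0, 0, 0, 0, 0, 0, 0, 0, 0, 0, 0, 1, 0, 0, -2, -3, -3, -1, 1, 1, 3, 1, 2, 0, 0, -1], [0, 0, 0, 0, 0, 0, 0, 0, 0, 0, 0, 0, 0, 1, 2, 2, 0, -2, -4, -3, -1, 0, 0, 0, 0, 0, 1], [0, 0, 0, 0, 0, 0, 0, 0, 1, 2, 2, 2, 1, 1, 1, 1, -1, -1, -1, 0, 0, 0, -1], [1, 1, 1, 1, 2, 3, 4, 3, 3, 4, 5, 5, 4, 3, 3, 4, 3, 2, 1, 1, 1, 1]] : List (List ℤ)).getD c []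
  steps := []
  dn := [0, 0, 0, 0, 1, 0, 0, 1, 2, 1, 2, 1, 3, 3, 4, 2, 6, 3, 5, 6, 9, 4, 9, 6, 11, 9, 12, 6, 14, 9, 13, 11, 16, 7, 15, 11, 16, 11, 15, 7, 16, 11, 13, 9, 14, 6, 12, 9, 11, 6, 9, 4, 9, 6, 5, 3, 6, 2, 4, 3, 3, 1, 2, 1, 2, 1, 0, 0, 1]
  den := 2

/-- degree `1*q^5*P4^2*P5*P7*P8^2*P10*P12*P14*P15*P20*P24*P30 / 1` -/
def c7 : Crt 10 where
  th := [-1, 0, 0, -1, 0, -1, -1, 0, 0, 0, 1, 1, 1, 1]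
  nu c := ([[0, 0, 0, 0, 0, 0, 0, 0, 0, 0, 0, 0, 0, 0, 0, 0, 0, 0, 0, 0, 0, 0, 0, 0, 0, 0, 0, 0, 0, 0, 0, 0, 0, 0, 0, 0, 0, 0, 0, 1, 1, 1, 1, 2, 3, 4, 3, 3, 4, 5, 5, 4, 3, 3, 4, 3, 2, 1, 1, 1, 1], [0, 0, 0, 0, 0, 0, 0, 0, 0, 0, 0, 0, 0, 0, 0, 0, 0, 0, 0, 0, 0, 0, 0, 0, 0, 0, 0, 0, 0, 0, 0, 0, 0, 0, 0, 0, 0, 0, -1, 0, 0, 0, -1, -1, -1, 1, 0, 0, 0, 1, 1, 1], [0, 0, 0, 0, 0, 0, 0, 0, 0, 0, 0, 0, 0, 0, 0, 0, 0, 0, 0, 0, 0, 0, 0, 0, 0, 0, 0, 0, 0, 0, 0, 0, 0, 0, 1, 0, 0, 0, 0, 1, 0, -2, -2, -1, 0, 1], [0, 0, 0, 0, 0, 0, 0, 0, 0, 0, 0, 0, 0, 0, 0, 0, 0, 0, 0, 0, 0, 0, 0, 0, 0, 0, 0, 0, 0, -1, 0, 0, 1, 0, 1, 1, 2, 0, -1, -1], [0, 0, 0, 0, 0, 0, 0, 0, 0, 0, 0, 0, 0, 0, 0, 0, 0, 0, 0, 0, 0, 0, 0, 0, 0, 1, 0, -1, -2, -2, 0, 2, 2, 1, 0, -1], [0, 0, 0, 0, 0, 0, 0, 0, 0, 0, 0, 0, 0, 0, 0, 0,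 0, 0, 0, 0, 0, 0, -1, -1, -1, 0, -1, -1, -1, 0, 0, 0, 1, 1, 1, 0, 1, 1, 1], [0, 0, 0, 0, 0, 0, 0, 0, 0, 0, 0, 0, 0, 0, 0, 0, 0, 0, 0, 0, 0, 1, 1, 0, -2, -1, -1, 0, -1, 0, 0, 1], [0, 0, 0, 0, 0, 0, 0, 0, 0, 0, 0, 0, 0, 0, 0, -1, 0, 1, 2, 2, 0, -1, 0, 0, 0, 0, -1], [0, 0, 0, 0, 0, 0, 0, 0, 0, -1, -1, -1, 0, 0, 0, -1, 1, 1, 1, 0, 0, 0, 1], [-1, -1, -1, -1, -2, -3, -4, -3, -3, -4, -5, -5, -4, -3, -3, -4, -3, -2, -1, -1, -1, -1]] : List (List ℤ)).getD c []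
  steps := []
  dn := [0, 0, 0, 0, 0, 1, 0, 1, 0, 2, 0, 4, 0, 4, 0, 7, 0, 10, 0, 10, 0, 15, 0, 18, 0, 18, 0, 25, 0, 26, 0, 26, 0, 33, 0, 31, 0, 31, 0, 36, 0, 31, 0, 31, 0, 33, 0, 26, 0, 26, 0, 25, 0, 18, 0, 18, 0, 15, 0, 10, 0, 10, 0, 7, 0, 4, 0, 4, 0, 2, 0, 1, 0, 1]
  den := 1

/-- degree `1*q^6*P2^4*P5^2*P6^2*P8*P10^2*P14*P15*P18*P20*P24*P30 / 2` -/
def c8 : Crt 10 where
  th := [-1, 0, 0, -1, 0, -1, -1, 0, 0, -1, 0, -1]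
  nu c := ([[0, 0, 0, 0, 0, 0, 0, 0, 0, 0, 0, 0, 0, 0, 0, 0, 0, 0, 0, 0, 0, 0, 0, 0, 0, 0, 0, 0, 0, 0, 0, 0, 0, 0, 0, 0, 0, 0, 0, 0, 0, 0, 1, 2, 3, 5, 7, 9, 11, 13, 14, 15, 15, 14, 13, 11, 9, 7, 5, 3, 2, 1], [0, 0, 0, 0, 0, 0, 0, 0, 0, 0, 0, 0, 0, 0, 0, 0, 0, 0, 0, 0, 0, 0, 0, 0, 0, 0, 0, 0, 0, 0, 0, 0, 0, 0, 0, 0, 0, 0, 0, 0, 0, -1, -1, -1, -2, -2, -2, -2, -2, -1, -1], [0, 0, 0, 0, 0, 0, 0, 0, 0, 0, 0, 0, 0, 0, 0, 0, 0, 0, 0, 0, 0, 0, 0, 0, 0, 0, 0, 0, 0, 0, 0, 0, 0, 0, 0, 0, 0, 1, 1, 1, 2, 1, 1, 1], [0, 0, 0, 0, 0, 0, 0, 0, 0, 0, 0, 0, 0, 0, 0, 0, 0, 0, 0, 0, 0, 0, 0, 0, 0, 0, 0, 0, 0, 0, 0, 0, -1, -1, -1, -1, -1], [0, 0, 0, 0, 0, 0, 0, 0, 0, 0, 0, 0, 0, 0, 0, 0, 0, 0, 0, 0, 0, 0, 0, 0, 0, 0, 0, 0, 1, 1, 0, 0, -1, -1], [], [0, 0, 0, 0, 0, 0, 0, 0, 0, 0, 0, 0, 0, 0, 0, 0, 0, 0,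 0, 0, 0, 0, 0, 0, 0, 1, 1, 1, 1, 1], [0, 0, 0, 0, 0, 0, 0, 0, 0, 0, 0, 0, 0, 0, 0, 0, 0, 0, -1, -1, -1, -2, -1, -1, -1], [0, 0, 0, 0, 0, 0, 0, 0, 0, 0, 0, 1, 1, 2, 2, 2, 2, 2, 1, 1, 1], [-1, -2, -3, -5, -7, -9, -11, -13, -14, -15, -15, -14, -13, -11, -9, -7, -5, -3, -2, -1]] : List (List ℤ)).getD c []
  steps := []
  dn := [0, 0, 0, 0, 0, 0, 1, 1, 0, 1, 2, 1, 1, 3, 3, 3, 4, 4, 6, 7, 5, 7, 11, 9, 8, 13, 13, 12, 15, 15, 16, 19, 17, 17, 23, 21, 17, 23, 24, 20, 23, 24, 22, 24, 23, 20, 24, 23, 17, 21, 23, 17, 17, 19, 16, 15, 15, 12, 13, 13, 8, 9, 11, 7, 5, 7, 6, 4, 4, 3, 3, 3, 1, 1, 2, 1, 0, 1, 1]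
  den := 2

/-- degree `1*q^6*P4^2*P5^2*P7*P8*P10^2*P12*P15*P18*P20*P24*P30 / 2` -/
def c9 : Crt 10 where
  th := [-1, 0, 0, -1, 0, -1, -1, 0, 0, -1, 0, 1]
  nu c := ([[0, 0, 0, 0, 0, 0, 0, 0, 0, 0, 0, 0, 0, 0, 0, 0, 0, 0, 0, 0, 0, 0, 0, 0, 0, 0, 0, 0, 0, 0, 0, 0, 0, 0, 0, 0, 0, 0, 0, 0, 0, 0, 1, 2, 4, 6, 9, 12, 17, 21, 26, 30, 34, 37, 40, 41, 41, 40, 37, 34, 30, 26, 21, 17, 12, 9, 6, 4, 2, 1], [0, 0, 0, 0, 0, 0, 0, 0, 0, 0, 0, 0, 0, 0, 0, 0, 0, 0, 0, 0, 0, 0, 0, 0, 0, 0, 0, 0, 0, 0, 0, 0, 0, 0, 0, 0, 0, 0, 0, 0, 0, -1, -1, -2, -2, -3, -3, -5, -4, -5, -4, -4, -2, -2, 0, 0, 1, 1, 1], [0, 0, 0, 0, 0, 0, 0, 0, 0, 0, 0, 0, 0, 0, 0, 0, 0, 0, 0, 0, 0, 0, 0, 0, 0, 0, 0, 0, 0, 0, 0, 0, 0, 0, 0, 0, 0, 1, 1, 2, 2, 2, 2, 3, 2, 1, 0, -2, -2, -2, -1, -1], [0, 0, 0, 0, 0, 0, 0, 0, 0, 0, 0, 0,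 0, 0, 0, 0, 0, 0, 0, 0, 0, 0, 0, 0, 0, 0, 0, 0, 0, 0, 0, 0, -1, -1, -2, -1, -2, 0, -1, 2, 2, 3, 2, 3, 1], [0, 0, 0, 0, 0, 0, 0, 0, 0, 0, 0, 0, 0, 0, 0, 0, 0, 0, 0, 0, 0, 0, 0, 0, 0, 0, 0, 0, 1, 1, 1, 0, -1, -3, -3, -3, -3, -1, 0, 1, 1, 1], [0, 0, 0, 0, 0, 0, 0, 0, 0, 0, 0, 0, 0, 0, 0, 0, 0, 0, 0, 0, 0, 0, 0, 0, 0, 0, 0, -2, -2, -4, -4, -6, -6, -8, -8, -8, -8, -6, -6, -4, -4, -2, -2], [0, 0, 0, 0, 0, 0, 0, 0, 0, 0, 0, 0, 0, 0, 0, 0, 0, 0, 0, 0, 0, 0, 0, 0, 0, 1, 3, 2, 3, 2, 2, -1, 0, -2, -1, -2, -1, -1], [0, 0, 0, 0, 0, 0, 0, 0, 0, 0, 0, 0, 0, 0, 0, 0, 0, 0, -1, -1, -2, -2, -2, 0, 1, 2, 3, 2, 2, 2, 2, 1, 1], [0, 0, 0, 0, 0, 0, 0, 0, 0, 0, 0, 1, 1, 1, 0, 0, -2, -2, -4, -4, -5, -4, -5, -3, -3, -2, -2, -1, -1], [1, 2, 4, 6, 9, 12, 17, 21, 26, 30, 34, 37, 40, 41, 41, 40, 37, 34, 30,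 26, 21, 17, 12, 9, 6, 4, 2, 1]] : List (List ℤ)).getD c []
  steps := []
  dn := [0, 0, 0, 0, 0, 0, 1, 1, 2, 1, 2, 1, 5, 3, 7, 3, 8, 4, 14, 7, 17, 7, 19, 9, 28, 13, 31, 12, 33, 15, 44, 19, 45, 17, 47, 21, 57, 23, 54, 20, 55, 24, 62, 24, 55, 20, 54, 23, 57, 21, 47, 17, 45, 19, 44, 15, 33, 12, 31, 13, 28, 9, 19, 7, 17, 7, 14, 4, 8, 3, 7, 3, 5, 1, 2, 1, 2, 1, 1]
  den := 2

/-- the certificates -/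
def C (i : Fin 10) : Crt 10 := ([c0, c1, c2, c3, c4, c5, c6, c7, c8, c9] : List (Crt 10)).getD i c0

theorem okA0 : ok1 c0 (TabE8b.data.t.cls TabE8b.data.t.o) TabE8b.data.bb TabE8b.data.kk := by
  rw [hcls]
  exact Kr.ok1_of_okK (X := 0x1000000000000) (by decide +kernel)

theorem okA1 : ok1 c1 (TabE8b.data.t.cls TabE8b.data.t.o) TabE8b.data.bb TabE8b.data.kk := by
  rw [hcls]
  exact Kr.ok1_of_okK (X := 0x1000000000000) (by decide +kernel)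

theorem okA2 : ok1 c2 (TabE8b.data.t.cls TabE8b.data.t.o) TabE8b.data.bb TabE8b.data.kk := by
  rw [hcls]
  exact Kr.ok1_of_okK (X := 0x1000000000000) (by decide +kernel)

theorem okA3 : ok1 c3 (TabE8b.data.t.cls TabE8b.data.t.o) TabE8b.data.bb TabE8b.data.kk := by
  rw [hcls]
  exact Kr.ok1_of_okK (X := 0x1000000000000) (by decide +kernel)

theorem okA4 : ok1 c4 (TabE8b.data.t.cls TabE8b.data.t.o) TabE8b.data.bb TabE8b.data.kk := by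
  rw [hcls]
  exact Kr.ok1_of_okK (X := 0x1000000000000) (by decide +kernel)

theorem okA5 : ok1 c5 (TabE8b.data.t.cls TabE8b.data.t.o) TabE8b.data.bb TabE8b.data.kk := by
  rw [hcls]
  exact Kr.ok1_of_okK (X := 0x1000000000000) (by decide +kernel)

theorem okA6 : ok1 c6 (TabE8b.data.t.cls TabE8b.data.t.o) TabE8b.data.bb TabE8b.data.kk := by
  rw [hcls]
  exact Kr.ok1_of_okK (X := 0x1000000000000) (by decide +kernel)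

theorem okA7 : ok1 c7 (TabE8b.data.t.cls TabE8b.data.t.o) TabE8b.data.bb TabE8b.data.kk := by
  rw [hcls]
  exact Kr.ok1_of_okK (X := 0x1000000000000) (by decide +kernel)

theorem okA8 : ok1 c8 (TabE8b.data.t.cls TabE8b.data.t.o) TabE8b.data.bb TabE8b.data.kk := by
  rw [hcls]
  exact Kr.ok1_of_okK (X := 0x1000000000000) (by decide +kernel)

theorem okA9 : ok1 c9 (TabE8b.data.t.cls TabE8b.data.t.o) TabE8b.data.bb TabE8b.data.kk := by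
  rw [hcls]
  exact Kr.ok1_of_okK (X := 0x1000000000000) (by decide +kernel)

theorem okA (i : Fin 10) : ok1 (C i) (TabE8b.data.t.cls TabE8b.data.t.o) TabE8b.data.bb TabE8b.data.kk :=
  match i with
  | 0 => okA0
  | 1 => okA1
  | 2 => okA2
  | 3 => okA3
  | 4 => okA4
  | 5 => okA5
  | 6 => okA6
  | 7 => okA7
  | 8 => okA8
  | 9 => okA9

theorem dvdA : ∀ i, pDvd (C i).den (C i).dn := by decide +kernel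

theorem neA : ∀ i k, i < k → pNV (pAdd (C i).th (pNeg (C k).th)) = true := by decide +kernel

/-- the polynomials -/
def pol : Pol 10 where
  N := [1, 1, 1, 1, 2, 2, 3, 4, 5, 5, 7, 8, 10, 11, 13, 14, 17, 19, 21, 23, 26, 28, 31, 34, 36, 38, 41, 44, 46, 49, 50, 52, 54, 57, 57, 59, 59, 60, 60, 62, 60, 60, 59, 59, 57, 57, 54, 52, 50, 49, 46, 44, 41, 38, 36, 34, 31, 28, 26, 23, 21, 19, 17, 14, 13, 11, 10, 8, 7, 5, 5, 4, 3, 2, 2, 1, 1, 1, 1]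
  dn i := (C i).dn
  den i := (C i).den
  D i := ([[], [0, 0, 0, 0, 0, 0, 0, 0, 0, 0, 0, 0, 0, 0, 0, 0, 0, 0, 0, 0, 0, 0, 0, 0, 0, 0, 0, 0, 1, 1, 1, 1, 1, 1, 1, 1, 1, 1, 1, 1, 1, 1, 1, 1, 1, 1, 1, 1, 1, 1, 1, 1, 1, 1, 1, 1, 1, 1], [0, 0, 0, 0, 0, 0, 0, 0, 0, 0, 0, 0, 0, 0, 0, 0, 0, 0, 0, 0, 0, 0, 0, 0, 0, 0, 0, 0, 1, 1, 1, 1, 1, 1, 2, 2, 2, 2, 2, 2, 2, 2, 2, 2, 2, 2, 2, 2, 2, 2, 2, 2, 1, 1, 1, 1, 1, 1], [0, 0, 0, 0, 0, 0, 0, 0, 0, 0, 0, 0, 0, 0, 0, 0, 0, 0, 0, 0, 0, 0, 0, 0, 0, 0, 0, -1, 1, 1, 1, 1, 1, 2, 2, 2, 2, 3, 3, 3, 3, 3, 4, 3, 3, 3, 3, 3, 2, 2, 2, 2, 1, 1, 1, 1, 1, 1], [0, 0, 0, 0, 0, 0, 0, 0, 0, 0, 0, 0, 0, 0, 0, 0, 0, 0, 0, 0, 0, 0, 0, 0, 0, 0, 0, 1, 1, 1, 1, 1, 1, 2, 2, 2, 2, 3, 3, 3, 3, 3, 2, 3, 3, 3, 3, 3, 2, 2, 2, 2, 1, 1, 1, 1, 1, 1], [0, 0, 0, 0, 0, 0, 0, 0, 0, 0,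 0, 0, 0, 0, 0, 0, 0, 0, 0, 0, 0, 0, 0, 0, 0, 0, 0, -1, 0, 0, 0, 1, 1, 1, 3, 3, 4, 4, 4, 5, 5, 5, 5, 4, 4, 4, 3, 3, 2, 2, 2, 2, 1, 1, 1, 1, 1, 1], [0, 0, 0, 0, 0, 0, 0, 0, 0, 0, 0, 0, 0, 0, 0, 0, 0, 0, 0, 0, 0, 0, 0, 0, 0, 0, 0, 1, 2, 2, 2, 1, 1, 1, 3, 3, 4, 4, 4, 3, 3, 3, 3, 4, 4, 4, 3, 3, 2, 2, 2, 2, 1, 1, 1, 1, 1, 1], [0, 0, 0, 0, 0, 0, 0, 0, 0, 0, 0, 0, 0, 0, 0, 0, 0, 0, 0, 0, 0, 0, 0, 0, 0, 0, 0, 0, 2, 2, 2, 2, 2, 2, 3, 3, 4, 4, 4, 4, 4, 4, 4, 4, 4, 4, 3, 3, 2, 2, 2, 2, 1, 1, 1, 1, 1, 1], [0, 0, 0, 0, 0, 0, 0, 0, 0, 0, 0, 0, 0, 0, 0, 0, 0, 0, 0, 0, 0, 0, 0, 0, 0, 0, 0, 0, 1, 1, 1, 2, 2, 3, 4, 4, 4, 5, 5, 6, 5, 5, 4, 4, 4, 4, 3, 3, 2, 2, 2, 2, 1, 1, 1, 1, 1, 1], [0, 0, 0, 0, 0, 0, 0, 0, 0, 0, 0, 0, 0, 0, 0, 0, 0, 0, 0, 0, 0, 0, 0, 0, 0, 0, 0, 0, 1, 1, 3, 2, 2, 3, 4, 4, 4, 5,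 5, 4, 5, 5, 4, 4, 4, 4, 3, 3, 2, 2, 2, 2, 1, 1, 1, 1, 1, 1]] : List (List ℤ)).getD i []
  o := 0
  nu i := (C i).nu

/-- the long roots -/
def rt : RTab 8 120 where
  V := 2100020286289708022728750121353947231689149176131912325417323069374807835891849100212416534538317675140526809684235181136627093156390183586601159224906995976684953872587104286477133692106859835989227407083354270609659533458284018605019031941012835377317560878819079989014503705857133098782434834491039744480946571953879089108643472542769077949406607736255405738470995239103581405806692099376381953985693141059592821474177949835009960827225527723761209748605186542473985172662065636952808873603149327288232329761821657623959632822807653143402132655831391129433987407290990579474021911603171787917649960784558302928180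037753895779246618086883096189853616253652864584241164493512303419004158779014873642243254498171001062346406103240086406459520261836198760589318237630660607998698669433018161389460301660248809362897346120954833972953025103501505969479269799359877178924907819785695329615596822525807244550432347535851609482138115802707504598757478167818025249219205395213804627611311169833732175970007928304449087461746399482570597277503037777165807227478115674304167790169080502056825462612882845951152388383556341601143829362856222719976197678130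
  S := 3796413248772891325317536294830539247597338506260635688930155857481435395409134606260164488484493924550159889170538314870398134726760207773176185972285470712040470559532403188045013979052770008091275117320087096655464866281373596008700992426271113995493118779354687730627636253928114175745864486312659132694180722736930513568700534377579743242493568293092548082384680674589169172410351927101101293079981316677023073535953728816676001793519040648703779313080367713238783000004653517865993587698051165772361049104533677002481842530210016373309370571291177758061852161343058545077252361079236270252870550612201379536411368440188727865711301076559024107495574884852215575459879011091898290047742879401150742355748816902514820642682401308370179496557275485645398680480496474866049987284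612262888473919773655930780017241127732743995309448484237337086754978577463100755544601162140300819407251081487212711583499504029160377675262235639080375621463973486644279491620178776410164463484192077778462382505650790105224586221140448191206245444185705346048564924995766516985087210209961796226225907874624688691189772271688563492367954034033764913622475068874244613845863034475242423876566602913582617062461102973425948845211191775749462616782354851356836949315136757339801572795894678330554091228483400639189716211453724509432040876256082193145194249879200438718232221956137847831074653472283278072931763206963163289670665458779317712254891620452828877560545781792058331858790724744977763227020617471226409920632984145072005660441203053727781829031171428563825748445435945778749234974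1240893493099450832805834057354528303103699219245284802748997963372541380474543996577477459297022974654748853517404185174313443294452498134724178859696958810458557047278580754513114713129462866000487085367316697915884752765001477457896981703876872532363579271126882088938781910550161137719550952602048717317641132121721705323170325083560520739322861792047887464197118276286402434105223954094095428346582152005043375095793794894731264691667198103078956383480262451067729861313944682399277178187383245537826734191548547704281695918876679895641493826707236656393219554167524455867580563545380663329866731180367081429897166105803270439538666786787144180493493933796065651233245941144571489219885261475449335650542796179662459423036761761959116800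
  P := 3121748549592383900151901456947904276636282735688336713846040764147481848205762391658192120977814351001631776467453447822990223950601748483360103
  Q := 13874437610526695962725170992555491339111331048330517811971874069178033946499607815107366135974999265753046658973962260165513092096006614417408

/-- the sums for the long roots -/
def Z2 : ℕ := 0x100100100100200200300300400400500500600600600600700700600600600600500500400400300300200200100100100100000000000000000000000000000000000000000000000000000000000000000000000000000000000000000000000000000000000000000000000000000000000000000000000000000000000000100100100200300400500700800a00c00e01001201401601801901a01b01c01c01c01b01a01901801601401201000e00c00a00800700500400300200100100100000000000000000000000000000000000000000000000000000000000000000000000000000000000000000000000000000000000000000000000000000000000000000000000100100200200400500700800b00d01001301601901c02002302702902c02e03203203403403603503603403303103002e02c02902602402201f01c01a01701501301100e00d00b00a008007005005004003002002001001001001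

/-- the classes of the long root elements -/
def kap (n : ℕ) : Fin 10 := ([0, 1, 5] : List (Fin 10)).getD n 0

def al (k : Fin 8) : ℕ := ([2, 3, 4, 6, 5, 4, 3, 2] : List ℕ).getD k 0

def VV (c : Fin 10) : List ℤ := ([[1, 1, 1, 1, 2, 2, 3, 4, 5, 5, 7, 8, 10, 11, 13, 14, 17, 19, 21, 23, 26, 28, 31, 34, 36, 38, 41, 44, 46, 48, 49, 51, 52, 54, 53, 54, 52, 52, 50, 50, 46, 44, 41, 39, 35, 32, 28, 25, 22, 19, 16, 13, 11, 8, 7, 5, 4, 2, 2, 1, 1], [0, 0, 0, 0, 0, 0, 0, 0, 0, 0, 0, 0, 0, 0, 0, 0, 0, 0, 0, 0, 0, 0, 0, 0, 0, 0, 0, 0, 0, 1, 1, 1, 2, 3, 4, 5, 7, 8, 10, 12, 14, 16, 18, 20, 22, 24, 25, 26, 27, 28, 28, 28, 27, 26, 25, 24, 22, 20, 18, 16, 14, 12, 10, 8, 7, 5, 4, 3, 2, 1, 1, 1], [], [], [], [0, 0, 0, 0, 0, 0, 0, 0, 0, 0, 0, 0, 0, 0, 0, 0, 0, 0, 0, 0, 0, 0, 0, 0, 0, 0, 0, 0, 0, 0,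 0, 0, 0, 0, 0, 0, 0, 0, 0, 0, 0, 0, 0, 0, 0, 1, 1, 1, 1, 2, 2, 3, 3, 4, 4, 5, 5, 6, 6, 6, 6, 7, 7, 6, 6, 6, 6, 5, 5, 4, 4, 3, 3, 2, 2, 1, 1, 1, 1], [], [], [], []] : List (List ℤ)).getD c []

theorem hV : TabE8b.B.cV 12 12 79 al 232 3 Z2 = true := by decide +kernel

theorem hVV : ChkC (rclL TabE8b.data.t ![2, 3, 4, 6, 5, 4, 3, 2] kap) TabE8b.data.wl VV :=
  TabE8b.okB.chkC (by decide) (by decide) TabE8b.hZ TabE8b.hA2 (al := al) (by decide +kernel) (T0 := 232) (D := 3)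
    (by decide +kernel) hV (o := 0) (by decide +kernel) (by decide +kernel)

theorem hkap : rt.clsOk TabE8b.data.t kap := by decide +kernel

theorem hrt : rt.Ok TabE8b.A ![2, 3, 4, 6, 5, 4, 3, 2] := ⟨by decide +kernel, by decide +kernel, by decide +kernel⟩

def FF : List ℤ := [0, 0, 0, 0, 0, 0, 0, 0, 0, 0, 0, 0, 0, 0, 0, 0, 0, 0, 0, 0, 0, 0, 0, 0, 0, 0, 0, 0, 0, 0, 0, 0, 0, 0, 0, 0, 1, 1, 0, 0, 0, 0, 1, 1]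

def cf (i : Fin 10) : List ℤ := ([[0, 0, 0, 0, 0, 0, 0, 0, 0, 0, 0, 0, 0, 0, 0, 0, 0, 0, 0, 0, 0, 0, 0, 0, 0, 0, 0, 0, 0, 0, 0, 0, 0, 0, 0, 0, 2, 2, 0, 0, 0, 0, 2, 2], [0, 0, 0, 0, 0, 0, 0, 0, 0, 0, 0, 0, 0, 0, 0, 0, 0, 0, 0, 0, 0, 0, 2, 0, 0, 0, 0, 0, 2, 0, 0, 0, 2, 0, 2, 0, 0, 0, 2, 0, 2, 0, 0, 0, 2, 0, 0, 0, 0, 0, 2], [0, 0, 0, 0, 0, 0, 0, 0, 0, 0, 0, 0, 0, 0, 2, 0, -2, 0, 2, -2, 0, 4, 0, -4, 4, 2, -4, 0, 4, -4, 0, 6, 0, -4, 4, 0, -4, 2, 4, -4, 0, 4, 0, -2, 2, 0, -2, 0, 2], [0, 0, 0, 0, 0, 0, 0, 0, 0, 1, 0, -1, 0, 0, -1, 2, 2, -1, -2, 1, -1, 0, 3, 1, -3, 1, 0, 0, 1, 1, -2, 1, 1, 0, 0, 1, -3, 1, 3, 0, -1, 1, -2, -1, 2, 2, -1, 0, 0, -1, 0, 1], [0, 0, 0, 0, 0, 0, 0, 0, 0, 1, 0, 0, -1, -1, 0, 1, 2, 1, 0, -2, -2, 0, 1, 2, 2, 0, -1, -2, -1, 0, 2, 2, 1, 0, -2, -2, 0, 1, 2, 1, 0, -1,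 -1, 0, 0, 1], [0, 0, 0, 0, 1, -1, -1, 0, 3, -1, 0, -2, 1, -1, 4, -2, 2, -4, 1, -2, 9, -4, 0, -6, 6, -3, 9, -6, 2, -7, 7, -4, 11, -7, 0, -7, 11, -4, 7, -7, 2, -6, 9, -3, 6, -6, 0, -4, 9, -2, 1, -4, 2, -2, 4, -1, 1, -2, 0, -1, 3, 0, -1, -1, 1], [0, 0, 0, 0, 1, 0, -1, 1, 1, -1, 1, 1, -1, 0, 2, 0, 1, 1, -1, 1, 3, -1, 1, 2, -1, 0, 4, 0, 0, 2, 0, 0, 4, 0, -1, 2, 1, -1, 3, 1, -1, 1, 1, 0, 2, 0, -1, 1, 1, -1, 1, 1, -1, 0, 1], [0, 0, 2, 0, 0, 0, 0, -2, 4, 2, 0, 0, 4, -4, 4, 4, 0, -4, 8, -2, 4, 6, 4, -8, 8, 0, 2, 4, 8, -8, 8, 4, 2, 0, 8, -8, 4, 6, 4, -2, 8, -4, 0, 4, 4, -4, 4, 0, 0, 2, 4, -2, 0, 0, 0, 0, 2], [1, 0, -2, 0, 2, 0, 0, 1, -1, -1, 1, 0, 1, 2, -2, -1, 4, 0, -3, 2, 1, -1, 3, 1, -2, 2, 0, -2, 4, 2, -4, 2, 4, -2, 0, 2, -2, 1, 3, -1, 1, 2, -3, 0, 4, -1, -2, 2, 1, 0, 1, -1, -1, 1, 0,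 0, 2, 0, -2, 0, 1], [1, 0, -1, -1, 0, 1, 3, 0, -2, -2, 0, 1, 4, 0, -2, -2, 1, 1, 4, -1, -3, -2, 3, 2, 4, -2, -4, -2, 4, 2, 3, -2, -3, -1, 4, 1, 1, -2, -2, 0, 4, 1, 0, -2, -2, 0, 3, 1, 0, -1, -1, 0, 1]] : List (List ℤ)).getD i []

def NL : List ℤ := [1, 1, 1, 1, 1, 1, 2, 2, 2, 2, 3, 3, 4, 4, 4, 4, 5, 5, 6, 6, 6, 6, 7, 7, 7, 7, 7, 7, 8, 8, 7, 7, 7, 7, 7, 7, 6, 6, 6, 6, 5, 5, 4, 4, 4, 4, 3, 3, 2, 2, 2, 2, 1, 1, 1, 1, 1, 1]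

theorem hcf1 : ∀ i, ((C i).den : ℤ) * (Kr.vz 0x1000000000000 (cf i) * Kr.vz 0x1000000000000 ((C i).nu 0)) =
    (2 : ℕ) * (Kr.vz 0x1000000000000 FF * Kr.vz 0x1000000000000 (C i).dn) := by decide +kernel

theorem hcf2 : ∀ i, (C i).den * (Kr.n1 (cf i) * Kr.n1 ((C i).nu 0)) +
    2 * (Kr.n1 FF * Kr.n1 (C i).dn) < 0x1000000000000 := by decide +kernel

theorem hsum1 : ∀ c, Kr.dotZ 0x1000000000000 cf (fun i => (C i).nu c) =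
    if c = 0 then (2 : ℕ) * (Kr.vz 0x1000000000000 FF * Kr.vz 0x1000000000000 pol.N) else 0 := by decide +kernel

theorem hsum2 : ∀ c, Kr.dotN cf (fun i => (C i).nu c) + 2 * (Kr.n1 FF * Kr.n1 pol.N) < 0x1000000000000 := by decide +kernel

theorem hD1 : ∀ i, Kr.vz 0x1000000000000 pol.N * Kr.vz 0x1000000000000 (pol.D i) * Kr.vz 0x1000000000000 ((C i).nu 0) =
    Kr.vz 0x1000000000000 NL * (Kr.vz 0x1000000000000 pol.N * Kr.vz 0x1000000000000 ((C i).nu 0) - Kr.dotZ 0x1000000000000 VV (C i).nu) := by decide +kernel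

theorem hD2 : ∀ i, Kr.n1 pol.N * Kr.n1 (pol.D i) * Kr.n1 ((C i).nu 0) +
    Kr.n1 NL * (Kr.n1 pol.N * Kr.n1 ((C i).nu 0) + Kr.dotN VV (C i).nu) < 0x1000000000000 := by decide +kernel

theorem hneA : ∀ i i', i < i' → pNV (pAdd (pScale (C i).den (C i').dn) (pNeg (pScale (C i').den (C i).dn))) = true ∨
    ∃ c, pNV (pAdd (pMul ((C i).nu c) ((C i').nu 0))
      (pNeg (pMul ((C i').nu c) ((C i).nu 0)))) = true := by decide +kernel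

theorem hN : pEq (pSum TabE8b.kk) pol.N = true := by decide +kernel

/-- **The full certificate.** -/
noncomputable def full : Full TabE8b.A 0 2160 10 ![2, 3, 4, 6, 5, 4, 3, 2] where
  Da := TabE8b.data
  C := C
  i₀ := 0
  P := pol
  hP := ⟨rfl, rfl, rfl, hcls.symm⟩
  hN := hN
  triv := ⟨by decide +kernel, rfl, rfl⟩
  ok i _ := ⟨okA i, dvdA i⟩
  uq i _ := uq_of_spec C _ _ (fun i => (okA i).1) (fun i => (okA i).2.2.1) neA i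
  FF := FF
  LL := 2
  cf := cf
  hF := by decide +kernel
  hcf i := by
    rw [hcls]
    exact Kr.hcf_of (hcf1 i) (hcf2 i)
  hsum c := by
    rw [hcls]
    exact Kr.hsum_of (hsum1 c) (hsum2 c)
  hne := by
    rw [hcls]
    exact hneA
  NL := NL
  nr := 120
  nz := ⟨by decide⟩
  Z := rt
  hZ := hrt
  kap := kap
  hkap := hkap
  VV := VV
  hVV := hVV
  hD i := by
    rw [hcls]
    exact Kr.hD_of (hD1 i) (hD2 i)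

end Cfsg.Agent.H996.PQ.FullE8b
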