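import Cfsg.Agent.H996.PQ.RowsX
import Cfsg.Agent.H996.Eight.TabE8a
import Cfsg.Agent.H996.PQ.FullE8b

/-!
# The separation theorem and the polynomials: `E₈(q)`, node `0` (helper996, for S4612; made by a program)
-/

set_option autoImplicit false
set_option maxRecDepth 20000

namespace Cfsg.Agent.H996.PQ.FullE8b

open Cfsg Cfsg.Agent.H317.PQ Cfsg.Agent.H64.Dl.Sph Cfsg.Agent.H996.Eight Cfsg.Agent.H996.Eight.Cert Cfsg.Agent.H35.ExcIdx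
open Cfsg.Lie Cfsg.Agent.ChevalleyStructure.CoxeterGeomTypes Cfsg.Agent.Nodes.RGDChev

universe u

theorem evN (x : ℤ) : evZ x pol.N = (x + 1) ^ 2 * (x ^ 2 + x + 1) ^ 2 * (x ^ 2 + 1) * (x ^ 4 + x ^ 3 + x ^ 2 + x + 1) * (x ^ 2 - x + 1) ^ 2 * (x ^ 4 + 1) * (x ^ 6 + x ^ 3 + 1) * (x ^ 4 - x ^ 3 + x ^ 2 - x + 1) * (x ^ 4 - x ^ 2 + 1) * (x ^ 6 - x ^ 5 + x ^ 4 - x ^ 3 + x ^ 2 - x + 1) * (x ^ 8 - x ^ 7 + x ^ 5 - x ^ 4 + x ^ 3 - x + 1) * (x ^ 6 - x ^ 3 + 1) * (x ^ 8 - x ^ 6 + x ^ 4 - x ^ 2 + 1) * (x ^ 8 - x ^ 4 + 1) * (x ^ 8 + x ^ 7 - x ^ 5 - x ^ 4 - x ^ 3 + x + 1) := by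
  show evZ x [1, 1, 1, 1, 2, 2, 3, 4, 5, 5, 7, 8, 10, 11, 13, 14, 17, 19, 21, 23, 26, 28, 31, 34, 36, 38, 41, 44, 46, 49, 50, 52, 54, 57, 57, 59, 59, 60, 60, 62, 60, 60, 59, 59, 57, 57, 54, 52, 50, 49, 46, 44, 41, 38, 36, 34, 31, 28, 26, 23, 21, 19, 17, 14, 13, 11, 10, 8, 7, 5, 5, 4, 3, 2, 2, 1, 1, 1, 1] = _
  simp only [evZ]
  ring

theorem evD1 (x : ℤ) : evZ x (pol.D 1) = x ^ 28 * (x + 1) * (x ^ 2 + x + 1) * (x ^ 4 + x ^ 3 + x ^ 2 + x + 1) * (x ^ 2 - x + 1) * (x ^ 4 - x ^ 3 + x ^ 2 - x + 1) * (x ^ 8 - x ^ 7 + x ^ 5 - x ^ 4 + x ^ 3 - x + 1) * (x ^ 8 + x ^ 7 - x ^ 5 - x ^ 4 - x ^ 3 + x + 1) := by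
  show evZ x [0, 0, 0, 0, 0, 0, 0, 0, 0, 0, 0, 0, 0, 0, 0, 0, 0, 0, 0, 0, 0, 0, 0, 0, 0, 0, 0, 0, 1, 1, 1, 1, 1, 1, 1, 1, 1, 1, 1, 1, 1, 1, 1, 1, 1, 1, 1, 1, 1, 1, 1, 1, 1, 1, 1, 1, 1, 1] = _
  simp only [evZ]
  ring

theorem evD2 (x : ℤ) : evZ x (pol.D 2) = x ^ 28 * (x + 1) * (x ^ 2 + x + 1) * (x ^ 2 + 1) ^ 2 * (x ^ 2 - x + 1) * (x ^ 4 + 1) * (x ^ 4 - x ^ 2 + 1) ^ 2 * (x ^ 8 - x ^ 4 + 1) := by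
  show evZ x [0, 0, 0, 0, 0, 0, 0, 0, 0, 0, 0, 0, 0, 0, 0, 0, 0, 0, 0, 0, 0, 0, 0, 0, 0, 0, 0, 0, 1, 1, 1, 1, 1, 1, 2, 2, 2, 2, 2, 2, 2, 2, 2, 2, 2, 2, 2, 2, 2, 2, 2, 2, 1, 1, 1, 1, 1, 1] = _
  simp only [evZ]
  ring

theorem evD3 (x : ℤ) : evZ x (pol.D 3) = x ^ 27 * (x + 1) * (x ^ 2 + x + 1) * (x ^ 4 + x ^ 3 + x ^ 2 + x + 1) * (x ^ 2 - x + 1) * (x ^ 4 - x ^ 3 + x ^ 2 - x + 1) * (x ^ 8 - x ^ 7 + x ^ 5 - x ^ 4 + x ^ 3 - x + 1) * (x ^ 9 + x ^ 8 - x ^ 6 - x ^ 5 - x ^ 4 + x ^ 3 + 2 * x ^ 2 + x - 1) := by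
  show evZ x [0, 0, 0, 0, 0, 0, 0, 0, 0, 0, 0, 0, 0, 0, 0, 0, 0, 0, 0, 0, 0, 0, 0, 0, 0, 0, 0, -1, 1, 1, 1, 1, 1, 2, 2, 2, 2, 3, 3, 3, 3, 3, 4, 3, 3, 3, 3, 3, 2, 2, 2, 2, 1, 1, 1, 1, 1, 1] = _
  simp only [evZ]
  ring

theorem evD4 (x : ℤ) : evZ x (pol.D 4) = x ^ 27 * (x ^ 2 + x + 1) * (x ^ 2 + 1) ^ 2 * (x ^ 4 + x ^ 3 + x ^ 2 + x + 1) * (x ^ 4 - x ^ 2 + 1) * (x ^ 8 - x ^ 7 + x ^ 5 - x ^ 4 + x ^ 3 - x + 1) * (x ^ 8 - x ^ 6 + x ^ 4 - x ^ 2 + 1) := by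
  show evZ x [0, 0, 0, 0, 0, 0, 0, 0, 0, 0, 0, 0, 0, 0, 0, 0, 0, 0, 0, 0, 0, 0, 0, 0, 0, 0, 0, 1, 1, 1, 1, 1, 1, 2, 2, 2, 2, 3, 3, 3, 3, 3, 2, 3, 3, 3, 3, 3, 2, 2, 2, 2, 1, 1, 1, 1, 1, 1] = _
  simp only [evZ]
  ring

theorem evD5 (x : ℤ) : evZ x (pol.D 5) = x ^ 27 * (x + 1) * (x ^ 2 + x + 1) * (x ^ 2 + 1) ^ 2 * (x ^ 2 - x + 1) * (x ^ 6 + x ^ 3 + 1) * (x ^ 4 - x ^ 2 + 1) * (x ^ 11 - x ^ 9 - x ^ 8 + x ^ 7 + x ^ 6 - x ^ 4 + x ^ 2 + x - 1) := by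
  show evZ x [0, 0, 0, 0, 0, 0, 0, 0, 0, 0, 0, 0, 0, 0, 0, 0, 0, 0, 0, 0, 0, 0, 0, 0, 0, 0, 0, -1, 0, 0, 0, 1, 1, 1, 3, 3, 4, 4, 4, 5, 5, 5, 5, 4, 4, 4, 3, 3, 2, 2, 2, 2, 1, 1, 1, 1, 1, 1] = _
  simp only [evZ]
  ring

theorem evD6 (x : ℤ) : evZ x (pol.D 6) = x ^ 27 * (x + 1) * (x ^ 2 + x + 1) * (x ^ 2 + 1) ^ 2 * (x ^ 2 - x + 1) * (x ^ 4 - x ^ 2 + 1) * (x ^ 6 - x ^ 3 + 1) * (x ^ 11 - x ^ 9 + x ^ 8 + x ^ 7 - x ^ 6 + x ^ 4 - x ^ 2 + x + 1) := by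
  show evZ x [0, 0, 0, 0, 0, 0, 0, 0, 0, 0, 0, 0, 0, 0, 0, 0, 0, 0, 0, 0, 0, 0, 0, 0, 0, 0, 0, 1, 2, 2, 2, 1, 1, 1, 3, 3, 4, 4, 4, 3, 3, 3, 3, 4, 4, 4, 3, 3, 2, 2, 2, 2, 1, 1, 1, 1, 1, 1] = _
  simp only [evZ]
  ring

theorem evD7 (x : ℤ) : evZ x (pol.D 7) = x ^ 28 * (x + 1) * (x ^ 2 + x + 1) * (x ^ 2 - x + 1) * (x ^ 24 + 2 * x ^ 18 + x ^ 14 + 3 * x ^ 12 + x ^ 8 + 3 * x ^ 6 + 2) := by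
  show evZ x [0, 0, 0, 0, 0, 0, 0, 0, 0, 0, 0, 0, 0, 0, 0, 0, 0, 0, 0, 0, 0, 0, 0, 0, 0, 0, 0, 0, 2, 2, 2, 2, 2, 2, 3, 3, 4, 4, 4, 4, 4, 4, 4, 4, 4, 4, 3, 3, 2, 2, 2, 2, 1, 1, 1, 1, 1, 1] = _
  simp only [evZ]
  ring

theorem evD8 (x : ℤ) : evZ x (pol.D 8) = x ^ 28 * (x ^ 2 + x + 1) * (x ^ 2 + 1) ^ 2 * (x ^ 6 + x ^ 5 + x ^ 4 + x ^ 3 + x ^ 2 + x + 1) * (x ^ 4 - x ^ 2 + 1) * (x ^ 13 - x ^ 12 - x ^ 11 + 2 * x ^ 10 - 2 * x ^ 8 + x ^ 7 + 2 * x ^ 6 - 2 * x ^ 5 - x ^ 4 + 3 * x ^ 3 - x ^ 2 - x + 1) := by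
  show evZ x [0, 0, 0, 0, 0, 0, 0, 0, 0, 0, 0, 0, 0, 0, 0, 0, 0, 0, 0, 0, 0, 0, 0, 0, 0, 0, 0, 0, 1, 1, 1, 2, 2, 3, 4, 4, 4, 5, 5, 6, 5, 5, 4, 4, 4, 4, 3, 3, 2, 2, 2, 2, 1, 1, 1, 1, 1, 1] = _
  simp only [evZ]
  ring

theorem evD9 (x : ℤ) : evZ x (pol.D 9) = x ^ 28 * (x + 1) * (x ^ 2 + x + 1) * (x ^ 2 - x + 1) * (x ^ 6 - x ^ 5 + x ^ 4 - x ^ 3 + x ^ 2 - x + 1) * (x ^ 18 + x ^ 17 + 2 * x ^ 12 + x ^ 11 - x ^ 10 + x ^ 8 + x ^ 7 + 3 * x ^ 6 + x ^ 5 - x ^ 4 + x ^ 3 + 2 * x ^ 2 + x + 1) := by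
  show evZ x [0, 0, 0, 0, 0, 0, 0, 0, 0, 0, 0, 0, 0, 0, 0, 0, 0, 0, 0, 0, 0, 0, 0, 0, 0, 0, 0, 0, 1, 1, 3, 2, 2, 3, 4, 4, 4, 5, 5, 4, 5, 5, 4, 4, 4, 4, 3, 3, 2, 2, 2, 2, 1, 1, 1, 1, 1, 1] = _
  simp only [evZ]
  ring

theorem evdn1 (x : ℤ) : evZ x (pol.dn 1) = x * (x ^ 2 + 1) ^ 2 * (x ^ 4 + 1) * (x ^ 4 - x ^ 2 + 1) * (x ^ 8 - x ^ 6 + x ^ 4 - x ^ 2 + 1) * (x ^ 8 - x ^ 4 + 1) := by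
  show evZ x [0, 1, 0, 0, 0, 0, 0, 1, 0, 0, 0, 1, 0, 1, 0, 0, 0, 1, 0, 1, 0, 0, 0, 1, 0, 0, 0, 0, 0, 1] = _
  simp only [evZ]
  ring

theorem evdn2 (x : ℤ) : evZ x (pol.dn 2) = x ^ 2 * (x ^ 4 + x ^ 3 + x ^ 2 + x + 1) * (x ^ 6 + x ^ 5 + x ^ 4 + x ^ 3 + x ^ 2 + x + 1) * (x ^ 4 - x ^ 3 + x ^ 2 - x + 1) * (x ^ 6 - x ^ 5 + x ^ 4 - x ^ 3 + x ^ 2 - x + 1) * (x ^ 8 - x ^ 7 + x ^ 5 - x ^ 4 + x ^ 3 - x + 1) * (x ^ 8 - x ^ 6 + x ^ 4 - x ^ 2 + 1) * (x ^ 8 + x ^ 7 - x ^ 5 - x ^ 4 - x ^ 3 + x + 1) := by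
  show evZ x [0, 0, 1, 0, 0, 0, 1, 0, 1, 0, 1, 0, 2, 0, 2, 0, 1, 0, 3, 0, 2, 0, 2, 0, 3, 0, 2, 0, 2, 0, 3, 0, 1, 0, 2, 0, 2, 0, 1, 0, 1, 0, 1, 0, 0, 0, 1] = _
  simp only [evZ]
  ring

theorem evdn3 (x : ℤ) : evZ x (pol.dn 3) = x ^ 3 * (x ^ 2 + 1) ^ 2 * (x ^ 6 + x ^ 5 + x ^ 4 + x ^ 3 + x ^ 2 + x + 1) * (x ^ 4 + 1) * (x ^ 6 + x ^ 3 + 1) * (x ^ 4 - x ^ 2 + 1) * (x ^ 6 - x ^ 5 + x ^ 4 - x ^ 3 + x ^ 2 - x + 1) * (x ^ 8 - x ^ 6 + x ^ 4 - x ^ 2 + 1) * (x ^ 8 - x ^ 4 + 1) * (x ^ 8 + x ^ 7 - x ^ 5 - x ^ 4 - x ^ 3 + x + 1) := by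
  show evZ x [0, 0, 0, 1, 1, 1, 1, 1, 0, 2, 2, 2, 1, 3, 1, 4, 4, 4, 1, 5, 2, 6, 5, 6, 1, 7, 4, 7, 5, 7, 0, 7, 5, 7, 4, 7, 1, 6, 5, 6, 2, 5, 1, 4, 4, 4, 1, 3, 1, 2, 2, 2, 0, 1, 1, 1, 1, 1] = _
  simp only [evZ]
  ring

theorem evdn4 (x : ℤ) : evZ x (pol.dn 4) = x ^ 3 * (x + 1) ^ 4 * (x ^ 2 - x + 1) ^ 2 * (x ^ 6 + x ^ 5 + x ^ 4 + x ^ 3 + x ^ 2 + x + 1) * (x ^ 4 + 1) * (x ^ 4 - x ^ 3 + x ^ 2 - x + 1) ^ 2 * (x ^ 6 - x ^ 5 + x ^ 4 - x ^ 3 + x ^ 2 - x + 1) * (x ^ 6 - x ^ 3 + 1) * (x ^ 8 - x ^ 4 + 1) * (x ^ 8 + x ^ 7 - x ^ 5 - x ^ 4 - x ^ 3 + x + 1) := by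
  show evZ x [0, 0, 0, 1, 1, 1, 1, 1, 2, 2, 2, 2, 3, 3, 3, 4, 4, 4, 5, 5, 6, 6, 5, 6, 7, 7, 6, 7, 7, 7, 8, 7, 7, 7, 6, 7, 7, 6, 5, 6, 6, 5, 5, 4, 4, 4, 3, 3, 3, 2, 2, 2, 2, 1, 1, 1, 1, 1] = _
  simp only [evZ]
  ring

theorem evdn5 (x : ℤ) : evZ x (pol.dn 5) = x ^ 4 * (x ^ 4 + x ^ 3 + x ^ 2 + x + 1) ^ 2 * (x ^ 4 + 1) ^ 2 * (x ^ 4 - x ^ 3 + x ^ 2 - x + 1) * (x ^ 6 - x ^ 5 + x ^ 4 - x ^ 3 + x ^ 2 - x + 1) * (x ^ 8 - x ^ 7 + x ^ 5 - x ^ 4 + x ^ 3 - x + 1) * (x ^ 6 - x ^ 3 + 1) * (x ^ 8 - x ^ 6 + x ^ 4 - x ^ 2 + 1) * (x ^ 8 - x ^ 4 + 1) * (x ^ 8 + x ^ 7 - x ^ 5 - x ^ 4 - x ^ 3 + x + 1) := by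
  show evZ x [0, 0, 0, 0, 1, 0, 0, -1, 2, -1, 2, -1, 3, -3, 4, -2, 6, -3, 5, -6, 9, -4, 9, -6, 11, -9, 12, -6, 14, -9, 13, -11, 16, -7, 15, -11, 16, -11, 15, -7, 16, -11, 13, -9, 14, -6, 12, -9, 11, -6, 9, -4, 9, -6, 5, -3, 6, -2, 4, -3, 3, -1, 2, -1, 2, -1, 0, 0, 1] = _
  simp only [evZ]
  ring

theorem evdn6 (x : ℤ) : evZ x (pol.dn 6) = x ^ 4 * (x ^ 4 + x ^ 3 + x ^ 2 + x + 1) * (x ^ 6 + x ^ 5 + x ^ 4 + x ^ 3 + x ^ 2 + x + 1) * (x ^ 4 + 1) ^ 2 * (x ^ 6 + x ^ 3 + 1) * (x ^ 4 - x ^ 3 + x ^ 2 - x + 1) ^ 2 * (x ^ 8 - x ^ 7 + x ^ 5 - x ^ 4 + x ^ 3 - x + 1) * (x ^ 8 - x ^ 6 + x ^ 4 - x ^ 2 + 1) * (x ^ 8 - x ^ 4 + 1) * (x ^ 8 + x ^ 7 - x ^ 5 - x ^ 4 - x ^ 3 + x + 1) := by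
  show evZ x [0, 0, 0, 0, 1, 0, 0, 1, 2, 1, 2, 1, 3, 3, 4, 2, 6, 3, 5, 6, 9, 4, 9, 6, 11, 9, 12, 6, 14, 9, 13, 11, 16, 7, 15, 11, 16, 11, 15, 7, 16, 11, 13, 9, 14, 6, 12, 9, 11, 6, 9, 4, 9, 6, 5, 3, 6, 2, 4, 3, 3, 1, 2, 1, 2, 1, 0, 0, 1] = _
  simp only [evZ]
  ring

theorem evdn7 (x : ℤ) : evZ x (pol.dn 7) = x ^ 5 * (x ^ 2 + 1) ^ 2 * (x ^ 4 + x ^ 3 + x ^ 2 + x + 1) * (x ^ 6 + x ^ 5 + x ^ 4 + x ^ 3 + x ^ 2 + x + 1) * (x ^ 4 + 1) ^ 2 * (x ^ 4 - x ^ 3 + x ^ 2 - x + 1) * (x ^ 4 - x ^ 2 + 1) * (x ^ 6 - x ^ 5 + x ^ 4 - x ^ 3 + x ^ 2 - x + 1) * (x ^ 8 - x ^ 7 + x ^ 5 - x ^ 4 + x ^ 3 - x + 1) * (x ^ 8 - x ^ 6 + x ^ 4 - x ^ 2 + 1) * (x ^ 8 - x ^ 4 + 1) * (x ^ 8 + x ^ 7 - x ^ 5 - x ^ 4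 - x ^ 3 + x + 1) := by
  show evZ x [0, 0, 0, 0, 0, 1, 0, 1, 0, 2, 0, 4, 0, 4, 0, 7, 0, 10, 0, 10, 0, 15, 0, 18, 0, 18, 0, 25, 0, 26, 0, 26, 0, 33, 0, 31, 0, 31, 0, 36, 0, 31, 0, 31, 0, 33, 0, 26, 0, 26, 0, 25, 0, 18, 0, 18, 0, 15, 0, 10, 0, 10, 0, 7, 0, 4, 0, 4, 0, 2, 0, 1, 0, 1] = _
  simp only [evZ]
  ring

theorem evdn8 (x : ℤ) : evZ x (pol.dn 8) = x ^ 6 * (x + 1) ^ 4 * (x ^ 4 + x ^ 3 + x ^ 2 + x + 1) ^ 2 * (x ^ 2 - x + 1) ^ 2 * (x ^ 4 + 1) * (x ^ 4 - x ^ 3 + x ^ 2 - x + 1) ^ 2 * (x ^ 6 - x ^ 5 + x ^ 4 - x ^ 3 + x ^ 2 - x + 1) * (x ^ 8 - x ^ 7 + x ^ 5 - x ^ 4 + x ^ 3 - x + 1) * (x ^ 6 - x ^ 3 + 1) * (x ^ 8 - x ^ 6 + x ^ 4 - x ^ 2 + 1) * (x ^ 8 - x ^ 4 + 1) * (x ^ 8 + x ^ 7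 - x ^ 5 - x ^ 4 - x ^ 3 + x + 1) := by
  show evZ x [0, 0, 0, 0, 0, 0, 1, 1, 0, 1, 2, 1, 1, 3, 3, 3, 4, 4, 6, 7, 5, 7, 11, 9, 8, 13, 13, 12, 15, 15, 16, 19, 17, 17, 23, 21, 17, 23, 24, 20, 23, 24, 22, 24, 23, 20, 24, 23, 17, 21, 23, 17, 17, 19, 16, 15, 15, 12, 13, 13, 8, 9, 11, 7, 5, 7, 6, 4, 4, 3, 3, 3, 1, 1, 2, 1, 0, 1, 1] = _
  simp only [evZ]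
  ring

theorem evdn9 (x : ℤ) : evZ x (pol.dn 9) = x ^ 6 * (x ^ 2 + 1) ^ 2 * (x ^ 4 + x ^ 3 + x ^ 2 + x + 1) ^ 2 * (x ^ 6 + x ^ 5 + x ^ 4 + x ^ 3 + x ^ 2 + x + 1) * (x ^ 4 + 1) * (x ^ 4 - x ^ 3 + x ^ 2 - x + 1) ^ 2 * (x ^ 4 - x ^ 2 + 1) * (x ^ 8 - x ^ 7 + x ^ 5 - x ^ 4 + x ^ 3 - x + 1) * (x ^ 6 - x ^ 3 + 1) * (x ^ 8 - x ^ 6 + x ^ 4 - x ^ 2 + 1) * (x ^ 8 - x ^ 4 + 1) * (x ^ 8 + x ^ 7 - x ^ 5 - x ^ 4 - x ^ 3 + x + 1) := by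
  show evZ x [0, 0, 0, 0, 0, 0, 1, 1, 2, 1, 2, 1, 5, 3, 7, 3, 8, 4, 14, 7, 17, 7, 19, 9, 28, 13, 31, 12, 33, 15, 44, 19, 45, 17, 47, 21, 57, 23, 54, 20, 55, 24, 62, 24, 55, 20, 54, 23, 57, 21, 47, 17, 45, 19, 44, 15, 33, 12, 31, 13, 28, 9, 19, 7, 17, 7, 14, 4, 8, 3, 7, 3, 5, 1, 2, 1, 2, 1, 1] = _
  simp only [evZ]
  ring

/-- the degrees: `evdn` -/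
theorem deg {x : ℕ} (hx : 2 ≤ x) (i : Fin 10) : (pol.den i : ℤ) * (pol.deg x i : ℤ) = evZ x (pol.dn i) :=
  full.degZ hx i

theorem hA : cartanOf chevE8 8 = TabE8b.A := by
  funext i k
  revert i k
  decide +kernel

/-- the eigenvalues of the double cosets: row `i` (constituent), column `c` (double coset) -/
def lamL : List (List (List ℤ)) :=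
  [[[1], [0, 1, 1, 1, 2, 2, 3, 4, 4, 4, 5, 5, 5, 5, 4, 4, 4, 3, 2, 2, 1, 1, 1], [0, 0, 0, 0, 0, 0, 0, 0, 1, 1, 2, 3, 5, 6, 9, 10, 13, 15, 17, 18, 20, 20, 20, 20, 18, 17, 15, 13, 10, 9, 6, 5, 3, 2, 1, 1], [0, 0, 0, 0, 0, 0, 0, 0, 0, 0, 0, 0, 0, 0, 0, 0, 0, 1, 2, 3, 5, 7, 10, 14, 17, 20, 24, 27, 30, 32, 32, 32, 32, 30, 27, 24, 20, 17, 14, 10, 7, 5, 3, 2, 1], [0, 0, 0, 0, 0, 0, 0, 0, 0, 0, 0, 0, 0, 0, 0, 0, 0, 0, 0, 0, 0, 0, 0, 0, 1, 1, 2, 4, 6, 8, 12, 15, 19, 24, 27, 31, 35, 37, 38, 40, 38, 37, 35, 31, 27, 24, 19, 15, 12, 8, 6, 4, 2, 1, 1], [0, 0, 0, 0, 0, 0, 0, 0, 0, 0, 0, 0, 0, 0, 0, 0, 0, 0, 0, 0, 0, 0, 0, 0, 0, 0, 0, 0, 0, 0, 0, 0, 0, 1, 1, 1, 1, 1, 1, 2, 1, 1, 1, 1, 1, 1],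 [0, 0, 0, 0, 0, 0, 0, 0, 0, 0, 0, 0, 0, 0, 0, 0, 0, 0, 0, 0, 0, 0, 0, 0, 0, 0, 0, 0, 0, 0, 0, 0, 0, 0, 1, 2, 3, 5, 7, 10, 14, 17, 20, 24, 27, 30, 32, 32, 32, 32, 30, 27, 24, 20, 17, 14, 10, 7, 5, 3, 2, 1], [0, 0, 0, 0, 0, 0, 0, 0, 0, 0, 0, 0, 0, 0, 0, 0, 0, 0, 0, 0, 0, 0, 0, 0, 0, 0, 0, 0, 0, 0, 0, 0, 0, 0, 0, 0, 0, 0, 0, 0, 0, 0, 0, 1, 1, 2, 3, 5, 6, 9, 10, 13, 15, 17, 18, 20, 20, 20, 20, 18, 17, 15, 13, 10, 9, 6, 5, 3, 2, 1, 1], [0, 0, 0, 0, 0, 0, 0, 0, 0, 0, 0, 0, 0, 0, 0, 0, 0, 0, 0, 0, 0, 0, 0, 0, 0, 0, 0, 0, 0, 0, 0, 0, 0, 0, 0, 0, 0, 0, 0, 0, 0, 0, 0, 0, 0, 0, 0, 0, 0, 0, 0, 0, 0, 0, 0, 0, 1, 1, 1, 2, 2, 3, 4, 4, 4, 5, 5, 5, 5, 4, 4, 4, 3, 2, 2, 1, 1, 1], [0, 0, 0, 0, 0,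 0, 0, 0, 0, 0, 0, 0, 0, 0, 0, 0, 0, 0, 0, 0, 0, 0, 0, 0, 0, 0, 0, 0, 0, 0, 0, 0, 0, 0, 0, 0, 0, 0, 0, 0, 0, 0, 0, 0, 0, 0, 0, 0, 0, 0, 0, 0, 0, 0, 0, 0, 0, 0, 0, 0, 0, 0, 0, 0, 0, 0, 0, 0, 0, 0, 0, 0, 0, 0, 0, 0, 0, 0, 1]],
   [[1], [-1, 0, 0, 0, 1, 1, 2, 3, 4, 4, 5, 5, 5, 5, 4, 3, 3, 2, 1, 1], [0, 0, 0, 0, -1, -1, -2, -3, -4, -4, -5, -4, -3, -1, 2, 5, 8, 12, 15, 16, 18, 18, 17, 15, 13, 10, 8, 5, 3, 2, 1], [0, 0, 0, 0, 0, 0, 0, 0, 0, 0, 0, -1, -2, -4, -6, -8, -11, -13, -14, -14, -12, -9, -5, 1, 7, 13, 18, 22, 24, 25, 24, 21, 18, 14, 10, 7, 4, 2, 1], [0, 0, 0, 0, 0, 0, 0, 0, 0, 0, 0, 0, 0, 0, 0, 0, 0, -1, -2, -3, -6, -9, -12, -16, -19, -21, -23, -22, -19, -16, -10, -3, 3, 10, 16,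 19, 22, 23, 21, 19, 16, 12, 9, 6, 3, 2, 1], [0, 0, 0, 0, 0, 0, 0, 0, 0, 0, 0, 0, 0, 0, 0, 0, 0, 0, 0, 0, 0, 0, 0, 0, -1, -1, -1, -1, -1, -1, -1, 0, 0, 1, 1, 1, 1, 1, 1, 1], [0, 0, 0, 0, 0, 0, 0, 0, 0, 0, 0, 0, 0, 0, 0, 0, 0, 0, 0, 0, 0, 0, 0, 0, 0, -1, -2, -4, -7, -10, -14, -18, -21, -24, -25, -24, -22, -18, -13, -7, -1, 5, 9, 12, 14, 14, 13, 11, 8, 6, 4, 2, 1], [0, 0, 0, 0, 0, 0, 0, 0, 0, 0, 0, 0, 0, 0, 0, 0, 0, 0, 0, 0, 0, 0, 0, 0, 0, 0, 0, 0, 0, 0, 0, 0, 0, -1, -2, -3, -5, -8, -10, -13, -15, -17, -18, -18, -16, -15, -12, -8, -5, -2, 1, 3, 4, 5, 4, 4, 3, 2, 1, 1], [0, 0, 0, 0, 0, 0, 0, 0, 0, 0, 0, 0, 0, 0, 0, 0, 0, 0, 0, 0, 0, 0, 0, 0, 0, 0, 0, 0, 0, 0, 0, 0, 0, 0, 0, 0, 0,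 0, 0, 0, 0, 0, 0, 0, -1, -1, -2, -3, -3, -4, -5, -5, -5, -5, -4, -4, -3, -2, -1, -1, 0, 0, 0, 1], [0, 0, 0, 0, 0, 0, 0, 0, 0, 0, 0, 0, 0, 0, 0, 0, 0, 0, 0, 0, 0, 0, 0, 0, 0, 0, 0, 0, 0, 0, 0, 0, 0, 0, 0, 0, 0, 0, 0, 0, 0, 0, 0, 0, 0, 0, 0, 0, 0, 0, 0, 0, 0, 0, 0, 0, 0, 0, 0, 0, 0, 0, 0, -1]],
   [[1], [-1, 0, 0, -1, 0, 0, 1, 2, 3, 3, 4, 5, 4, 4, 3, 2, 2, 1], [0, 0, 0, 1, 0, 0, -1, -2, -4, -5, -7, -8, -7, -7, -4, -1, 3, 6, 10, 11, 12, 12, 10, 8, 6, 4, 2, 1], [0, 0, 0, 0, 0, 0, 0, 0, 1, 2, 3, 3, 3, 2, -1, -4, -10, -14, -17, -20, -20, -18, -13, -7, 0, 5, 9, 13, 13, 12, 10, 7, 5, 3, 1], [0, 0, 0, 0, 0, 0, 0, 0, 0, 0, 0, 0, 0, 1, 2, 3, 5, 7, 7, 8, 6, 2, -2, -8, -15, -20, -23, -26,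 -23, -20, -15, -8, -2, 2, 6, 8, 7, 7, 5, 3, 2, 1], [0, 0, 0, 0, 0, 0, 0, 0, 0, 0, 0, 0, 0, 0, 0, 0, 0, 0, 0, 1, 1, 1, 0, 0, -1, -1, -1, -2, -1, -1, -1, 0, 0, 1, 1, 1], [0, 0, 0, 0, 0, 0, 0, 0, 0, 0, 0, 0, 0, 0, 0, 0, 0, 0, 0, 0, 1, 3, 5, 7, 10, 12, 13, 13, 9, 5, 0, -7, -13, -18, -20, -20, -17, -14, -10, -4, -1, 2, 3, 3, 3, 2, 1], [0, 0, 0, 0, 0, 0, 0, 0, 0, 0, 0, 0, 0, 0, 0, 0, 0, 0, 0, 0, 0, 0, 0, 0, 0, 0, 0, 1, 2, 4, 6, 8, 10, 12, 12, 11, 10, 6, 3, -1, -4, -7, -7, -8, -7, -5, -4, -2, -1, 0, 0, 1], [0, 0, 0, 0, 0, 0, 0, 0, 0, 0, 0, 0, 0, 0, 0, 0, 0, 0, 0, 0, 0, 0, 0, 0, 0, 0, 0, 0, 0, 0, 0, 0, 0, 0, 0, 0, 0, 1, 2, 2, 3, 4, 4, 5, 4, 3, 3, 2, 1, 0, 0, -1, 0, 0, -1], [0, 0, 0, 0,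 0, 0, 0, 0, 0, 0, 0, 0, 0, 0, 0, 0, 0, 0, 0, 0, 0, 0, 0, 0, 0, 0, 0, 0, 0, 0, 0, 0, 0, 0, 0, 0, 0, 0, 0, 0, 0, 0, 0, 0, 0, 0, 0, 0, 0, 0, 0, 0, 0, 0, 1]],
   [[1], [-1, 0, 0, -1, 0, -1, 0, 1, 0, 0, 1, 1, 1, 1, 0, 1, 1], [0, 0, 0, 1, 0, 1, 0, 0, 0, -1, -2, -2, -2, -4, -2, -4, -2, -2, -2, -1, 0, 0, 0, 1, 0, 1], [0, 0, 0, 0, 0, 0, 0, -1, 0, 1, 1, 2, 2, 4, 5, 4, 3, 4, 4, 2, 1, -1, 0, 0, -2, -2, -1, 0, 0, 0, 0, 1, 1], [0, 0, 0, 0, 0, 0, 0, 0, 0, 0, 0, -1, -1, -1, -3, -2, -3, -3, -2, -2, -2, 0, 0, -1, 2, -1, 0, 0, -2, -2, -2, -3, -3, -2, -3, -1, -1, -1], [0, 0, 0, 0, 0, 0, 0, 0, 0, 0, 0, 0, 0, 0, 0, 1, 0, 0, 0, 1, 1, 1, 1, 1, 2, 1, 1, 1, 1, 1, 0, 0, 0, 1], [0, 0, 0, 0, 0, 0, 0, 0, 0,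 0, 0, 0, 0, 0, 0, 0, 1, 1, 0, 0, 0, 0, -1, -2, -2, 0, 0, -1, 1, 2, 4, 4, 3, 4, 5, 4, 2, 2, 1, 1, 0, -1], [0, 0, 0, 0, 0, 0, 0, 0, 0, 0, 0, 0, 0, 0, 0, 0, 0, 0, 0, 0, 0, 0, 0, 1, 0, 1, 0, 0, 0, -1, -2, -2, -2, -4, -2, -4, -2, -2, -2, -1, 0, 0, 0, 1, 0, 1], [0, 0, 0, 0, 0, 0, 0, 0, 0, 0, 0, 0, 0, 0, 0, 0, 0, 0, 0, 0, 0, 0, 0, 0, 0, 0, 0, 0, 0, 0, 0, 0, 1, 1, 0, 1, 1, 1, 1, 0, 0, 1, 0, -1, 0, -1, 0, 0, -1], [0, 0, 0, 0, 0, 0, 0, 0, 0, 0, 0, 0, 0, 0, 0, 0, 0, 0, 0, 0, 0, 0, 0, 0, 0, 0, 0, 0, 0, 0, 0, 0, 0, 0, 0, 0, 0, 0, 0, 0, 0, 0, 0, 0, 0, 0, 0, 0, 1]],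
   [[1], [-1, 0, 0, -1, 0, -1, 0, 1, 2, 2, 3, 3, 3, 3, 2, 1, 1], [0, 0, 0, 1, 0, 1, 0, 0, -2, -3, -6, -6, -8, -8, -6, -4, -2, 2, 4, 5, 6, 6, 4, 3, 2, 1], [0, 0, 0, 0, 0, 0, 0, -1, 0, 1, 3, 4, 6, 6, 5, 4, -1, -6, -10, -14, -15, -15, -12, -8, -4, 0, 3, 4, 4, 4, 2, 1, 1], [0, 0, 0, 0, 0, 0, 0, 0, 0, 0, 0, -1, -1, -1, -1, 0, 3, 5, 8, 12, 12, 12, 10, 5, 0, -5, -10, -12, -12, -12, -8, -5, -3, 0, 1, 1, 1, 1], [0, 0, 0, 0, 0, 0, 0, 0, 0, 0, 0, 0, 0, 0, 0, -1, 0, 0, 0, 1, 1, 1, 1, 1, 0, -1, -1, -1, -1, -1, 0, 0, 0, 1], [0, 0, 0, 0, 0, 0, 0, 0, 0, 0, 0, 0, 0, 0, 0, 0, -1, -1, -2, -4, -4, -4, -3, 0, 4, 8, 12, 15, 15, 14, 10, 6, 1, -4, -5, -6, -6, -4, -3, -1, 0, 1], [0, 0, 0, 0, 0, 0, 0,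 0, 0, 0, 0, 0, 0, 0, 0, 0, 0, 0, 0, 0, 0, 0, 0, -1, -2, -3, -4, -6, -6, -5, -4, -2, 2, 4, 6, 8, 8, 6, 6, 3, 2, 0, 0, -1, 0, -1], [0, 0, 0, 0, 0, 0, 0, 0, 0, 0, 0, 0, 0, 0, 0, 0, 0, 0, 0, 0, 0, 0, 0, 0, 0, 0, 0, 0, 0, 0, 0, 0, -1, -1, -2, -3, -3, -3, -3, -2, -2, -1, 0, 1, 0, 1, 0, 0, 1], [0, 0, 0, 0, 0, 0, 0, 0, 0, 0, 0, 0, 0, 0, 0, 0, 0, 0, 0, 0, 0, 0, 0, 0, 0, 0, 0, 0, 0, 0, 0, 0, 0, 0, 0, 0, 0, 0, 0, 0, 0, 0, 0, 0, 0, 0, 0, 0, -1]],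
   [[1], [-1, 0, 0, -1, 0, -1, -1, 0, -1, -1, 0, -1, 0, 0, -1], [0, 0, 0, 1, 0, 1, 1, 1, 2, 2, 1, 3, 2, 2, 3, 1, 2, 2, 1, 1, 1, 0, 1], [0, 0, 0, 0, 0, 0, 0, -1, -1, -1, -2, -2, -3, -4, -3, -4, -5, -4, -5, -4, -3, -4, -3, -2, -2, -1, -1, -1], [0, 0, 0, 0, 0, 0, 0, 0, 0, 0, 1, 0, 1, 2, 1, 3, 3, 2, 5, 4, 3, 6, 3, 4, 5, 2, 3, 3, 1, 2, 1, 0, 1], [0, 0, 0, 0, 0, 0, 0, 0, 0, 0, 0, 0, 0, 0, 0, 1, 1, 1, 1, 1, 1, 2, 1, 1, 1, 1, 1, 1], [0, 0, 0, 0, 0, 0, 0, 0, 0, 0, 0, 0, 0, 0, 0, -1, -1, -1, -2, -2, -3, -4, -3, -4, -5, -4, -5, -4, -3, -4, -3, -2, -2, -1, -1, -1], [0, 0, 0, 0, 0, 0, 0, 0, 0, 0, 0, 0, 0, 0, 0, 0, 0, 0, 0, 0, 1, 0, 1, 1, 1, 2, 2, 1, 3, 2, 2, 3, 1, 2, 2, 1, 1, 1, 0, 1], [0,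 0, 0, 0, 0, 0, 0, 0, 0, 0, 0, 0, 0, 0, 0, 0, 0, 0, 0, 0, 0, 0, 0, 0, 0, 0, 0, 0, -1, 0, 0, -1, 0, -1, -1, 0, -1, -1, 0, -1, 0, 0, -1], [0, 0, 0, 0, 0, 0, 0, 0, 0, 0, 0, 0, 0, 0, 0, 0, 0, 0, 0, 0, 0, 0, 0, 0, 0, 0, 0, 0, 0, 0, 0, 0, 0, 0, 0, 0, 0, 0, 0, 0, 0, 0, 1]],
   [[1], [-1, 0, 0, -1, 0, -1, -1, 0, 1, 1, 2, 3, 2, 2, 1], [0, 0, 0, 1, 0, 1, 1, 1, 0, 0, -3, -5, -6, -8, -7, -5, -2, 0, 3, 3, 3, 2, 1], [0, 0, 0, 0, 0, 0, 0, -1, -1, -1, 0, 2, 5, 8, 9, 10, 5, 0, -5, -10, -11, -10, -7, -4, 0, 1, 1, 1], [0, 0, 0, 0, 0, 0, 0, 0, 0, 0, 1, 0, -1, -2, -3, -5, -3, 0, 3, 10, 13, 14, 13, 10, 3, 0, -3, -5, -3, -2, -1, 0, 1], [0, 0, 0, 0, 0, 0, 0, 0, 0, 0, 0, 0, 0, 0, 0, -1, -1, -1, -1, 1,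 1, 2, 1, 1, -1, -1, -1, -1], [0, 0, 0, 0, 0, 0, 0, 0, 0, 0, 0, 0, 0, 0, 0, 1, 1, 1, 0, -4, -7, -10, -11, -10, -5, 0, 5, 10, 9, 8, 5, 2, 0, -1, -1, -1], [0, 0, 0, 0, 0, 0, 0, 0, 0, 0, 0, 0, 0, 0, 0, 0, 0, 0, 0, 0, 1, 2, 3, 3, 3, 0, -2, -5, -7, -8, -6, -5, -3, 0, 0, 1, 1, 1, 0, 1], [0, 0, 0, 0, 0, 0, 0, 0, 0, 0, 0, 0, 0, 0, 0, 0, 0, 0, 0, 0, 0, 0, 0, 0, 0, 0, 0, 0, 1, 2, 2, 3, 2, 1, 1, 0, -1, -1, 0, -1, 0, 0, -1], [0, 0, 0, 0, 0, 0, 0, 0, 0, 0, 0, 0, 0, 0, 0, 0, 0, 0, 0, 0, 0, 0, 0, 0, 0, 0, 0, 0, 0, 0, 0, 0, 0, 0, 0, 0, 0, 0, 0, 0, 0, 0, 1]],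
   [[1], [-1, 0, 0, -1, 0, -1, -1, 0, 0, 0, 1, 1, 1, 1], [0, 0, 0, 1, 0, 1, 1, 1, 1, 1, -1, -1, -2, -4, -3, -3, -2, -1, 0, 0, 1], [0, 0, 0, 0, 0, 0, 0, -1, -1, -1, -1, 0, 1, 3, 5, 6, 5, 4, 2, 0, -1, -2, -2, -1], [0, 0, 0, 0, 0, 0, 0, 0, 0, 0, 1, 0, 0, 0, -2, -3, -3, -4, -3, 0, 0, 3, 4, 3, 3, 2, 0, 0, 0, -1], [0, 0, 0, 0, 0, 0, 0, 0, 0, 0, 0, 0, 0, 0, 0, 0, -1, -1, -1, 0, 0, 1, 1, 1], [0, 0, 0, 0, 0, 0, 0, 0, 0, 0, 0, 0, 0, 0, 0, 0, 1, 2, 2, 1, 0, -2, -4, -5, -6, -5, -3, -1, 0, 1, 1, 1, 1], [0, 0, 0, 0, 0, 0, 0, 0, 0, 0, 0, 0, 0, 0, 0, 0, 0, 0, 0, -1, 0, 0, 1, 2, 3, 3, 4, 2, 1, 1, -1, -1, -1, -1, -1, 0, -1], [0, 0, 0, 0, 0, 0, 0, 0, 0, 0, 0, 0, 0, 0, 0, 0, 0, 0, 0, 0, 0, 0, 0,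 0, 0, 0, -1, -1, -1, -1, 0, 0, 0, 1, 1, 0, 1, 0, 0, 1], [0, 0, 0, 0, 0, 0, 0, 0, 0, 0, 0, 0, 0, 0, 0, 0, 0, 0, 0, 0, 0, 0, 0, 0, 0, 0, 0, 0, 0, 0, 0, 0, 0, 0, 0, 0, 0, 0, 0, -1]],
   [[1], [-1, 0, 0, -1, 0, -1, -1, 0, 0, -1, 0, -1], [0, 0, 0, 1, 0, 1, 1, 1, 1, 2, 0, 2, 1, 1, 1, 1, 0, 1], [0, 0, 0, 0, 0, 0, 0, -1, -1, -1, -1, -1, -1, -2, -1, -1, -1, -1, -1, -1], [0, 0, 0, 0, 0, 0, 0, 0, 0, 0, 1, 0, 0, 1, 0, 0, 1, -1, 0, 1, -1, 0, 0, -1, 0, 0, -1], [], [0, 0, 0, 0, 0, 0, 0, 0, 0, 0, 0, 0, 0, 0, 0, 0, 0, 1, 1, 1, 1, 1, 1, 2, 1, 1, 1, 1, 1, 1], [0, 0, 0, 0, 0, 0, 0, 0, 0, 0, 0, 0, 0, 0, 0, 0, 0, 0, 0, -1, 0, -1, -1, -1, -1, -2, 0, -2, -1, -1, -1, -1, 0, -1], [0, 0, 0, 0, 0, 0, 0,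 0, 0, 0, 0, 0, 0, 0, 0, 0, 0, 0, 0, 0, 0, 0, 0, 0, 0, 1, 0, 1, 0, 0, 1, 1, 0, 1, 0, 0, 1], [0, 0, 0, 0, 0, 0, 0, 0, 0, 0, 0, 0, 0, 0, 0, 0, 0, 0, 0, 0, 0, 0, 0, 0, 0, 0, 0, 0, 0, 0, 0, 0, 0, 0, 0, 0, -1]],
   [[1], [-1, 0, 0, -1, 0, -1, -1, 0, 0, -1, 0, 1], [0, 0, 0, 1, 0, 1, 1, 1, 1, 2, 0, 0, 1, -1, -1, -1, 0, -1], [0, 0, 0, 0, 0, 0, 0, -1, -1, -1, -1, -1, -1, 0, 1, 3, 1, 1, 3, 1], [0, 0, 0, 0, 0, 0, 0, 0, 0, 0, 1, 0, 0, 1, 0, -2, -1, -1, -4, -1, -1, -2, 0, 1, 0, 0, 1], [0, 0, 0, 0, 0, 0, 0, 0, 0, 0, 0, 0, 0, 0, 0, 0, 0, 0, -2], [0, 0, 0, 0, 0, 0, 0, 0, 0, 0, 0, 0, 0, 0, 0, 0, 0, 1, 3, 1, 1, 3, 1, 0, -1, -1, -1, -1, -1, -1], [0, 0, 0, 0, 0, 0, 0, 0, 0, 0, 0, 0, 0, 0, 0, 0, 0,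 0, 0, -1, 0, -1, -1, -1, 1, 0, 0, 2, 1, 1, 1, 1, 0, 1], [0, 0, 0, 0, 0, 0, 0, 0, 0, 0, 0, 0, 0, 0, 0, 0, 0, 0, 0, 0, 0, 0, 0, 0, 0, 1, 0, -1, 0, 0, -1, -1, 0, -1, 0, 0, -1], [0, 0, 0, 0, 0, 0, 0, 0, 0, 0, 0, 0, 0, 0, 0, 0, 0, 0, 0, 0, 0, 0, 0, 0, 0, 0, 0, 0, 0, 0, 0, 0, 0, 0, 0, 0, 1]]]

/-- the eigenvalue of the double coset `c` on the constituent `i` -/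
def lam (i c : Fin 10) : List ℤ := (lamL.getD i []).getD c []

theorem lam_ok : full.Lam lam := by
  show ∀ i c, pEq (pMul (lam i c) (full.P.nu i full.P.o)) (pMul (full.Da.kk c) (full.P.nu i c)) = true
  decide +kernel

/-- **The extended theorem.** -/
theorem sepX {K : Type u} [Field K] [Fintype K] {p l : ℕ} (hp : p.Prime) (hl : l.Prime)
    (hS : Same p l ↥(chevE8.group K)) : SepX pol lam (Fintype.card K) p l (Nat.card ↥(chevE8.group K)) 0 :=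
  split_sepX hpE8 K hA full lam_ok (by decide +kernel)
    H241.PQ.hi_E8 TabE8a.data (by decide +kernel) (by decide +kernel) hp hl hS

end Cfsg.Agent.H996.PQ.FullE8b
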