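import Cfsg.Agent.H996.PQ.Full
import Cfsg.Agent.H996.Eight.TabE7b

/-!
# Full certificate: `E₇`, node `0` (helper996, for S4612; made by a program)

`|G : P| = 1*q^0*P2*P3*P6*P7*P9*P12*P14*P18`, number of the long root subgroups `1*q^0*P2*P3*P6*P7*P9*P12*P14*P18` (`Pn` the cyclotomic
polynomials at `q`). Constituents (degree, `D`):
* `0`: degree `1*q^0 / 1`, `D = 0`
* `1`: degree `1*q^1*P7*P12*P14 / 1`, `D = 1*q^16*P2*P3*P6*P9*P18`
* `2`: degree `1*q^2*P3^2*P6^2*P9*P12*P18 / 1`, `D = 1*q^16*P2*P7*P8*P14`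
* `3`: degree `1*q^3*P5*P7*P8*P12*P14*P18 / 2`, `D = 1*q^15*P2*P3*P6*P9*(-1 + 2*q + 1*q^3 + -1*q^4 + 1*q^7)`
* `4`: degree `1*q^3*P2^4*P6^2*P7*P10*P14*P18 / 2`, `D = 1*q^15*P3*P4*P8*P9*P12`
-/

set_option autoImplicit false
set_option maxRecDepth 20000

namespace Cfsg.Agent.H996.PQ.FullE7b

open Cfsg.Agent.H967.Sph Cfsg.Agent.H64.Dl.Sph Cfsg.Agent.H996.Eight Cfsg.Agent.H996.Eight.Cert Cfsg.Agent.H996.Eight.En

def c0 : Crt 5 := ⟨[], fun _ => [1], [], [1], 1⟩

/-- the certificates -/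
def C (i : Fin 5) : Crt 5 := ([c0, TabE7b.c1, TabE7b.c2, TabE7b.c3, TabE7b.c4] : List (Crt 5)).getD i c0


/-- the polynomials -/
def pol : Pol 5 where
  N := [1, 1, 1, 1, 2, 2, 3, 3, 4, 4, 5, 5, 6, 6, 6, 6, 7, 7, 6, 6, 6, 6, 5, 5, 4, 4, 3, 3, 2, 2, 1, 1, 1, 1]
  dn i := (C i).dn
  den i := (C i).den
  D i := ([[], [0, 0, 0, 0, 0, 0, 0, 0, 0, 0, 0, 0, 0, 0, 0, 0, 1, 1, 1, 1, 1, 1, 1, 1, 1, 1, 1, 1, 1, 1, 1, 1, 1, 1], [0, 0, 0, 0, 0, 0, 0, 0, 0, 0, 0, 0, 0, 0, 0, 0, 1, 1, 1, 1, 2, 2, 2, 2, 2, 2, 2, 2, 2, 2, 1, 1, 1, 1], [0, 0, 0, 0, 0, 0, 0, 0, 0, 0, 0, 0, 0, 0, 0, -1, 1, 1, 1, 2, 2, 3, 3, 3, 4, 3, 3, 3, 2, 2, 1, 1, 1, 1], [0, 0, 0, 0, 0, 0, 0, 0, 0, 0, 0, 0, 0, 0, 0, 1, 1, 1, 1, 2, 2, 3, 3, 3, 2, 3, 3, 3, 2, 2, 1, 1, 1, 1]] : List (List ℤ)).getD i []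
  o := 0
  nu i := (C i).nu

/-- the long roots -/
def rt : RTab 7 63 where
  V := 3873222968231703687278468810929741583741972455588405215650574477141682445634109645232793080414578078382140457859352902091769555428435338825587286911464856346009055822631901228400418115201692206499984534956441838125702133155515309457348364193267527849698834153963741964674951477010240601422731008495874235556679444799854235633039872214343780233544844633264963031644469422154680185925807065313062813427547062475836564726560506556879601674692505769316110845403252345113773268190252749750267524645637589842698024276020512899874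
  S := 262830772539133951542118485302570572268192502568423075016101281014802815484560926336030777964425719769816343674964634083764231163191436476679459619640584184383710587909692491222942435524164012072366289069702157292987401403765973845563714239623199269306911802699327953186992198403127691107964027654120999454666792819241422505086613043557037480421995280423800938761378540139727681900060777149752595936330820070610382473905677507593588709600248759903168928397688204939514523119586838938702628177241332087914949891881464003846947368472051598679963765497055049419711663403505467744507466602180424809232507897439207779600283933018190741817978874445648436339707568385738300378025285300150814798711513083427562875943157695382050105390591644564739951573029878653358263416465273984085874504479826298475271883573339639841429287115950093113963785332110937917811656333457322112732891365845224071508801616433915813043885355882462825073474510733128379770766731913693668760174371680374179801900075734708541816401724641845315274850468421487235880446818127251513580576020763770881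
  P := 7237005550492136888816159464980983237289113347922155751814053495367898764064
  Q := 32164456531457402204468303681508422296660100604734339836290737793386151936

/-- **The full certificate.** -/
def full : Full TabE7b.A 0 126 5 ![2, 2, 3, 4, 3, 2, 1] where
  Da := TabE7b.data
  C := C
  i₀ := 0
  P := pol
  hP := ⟨rfl, rfl, rfl, by decide +kernel⟩
  hN := by decide +kernel
  triv := ⟨by decide +kernel, rfl, rfl⟩
  ok := fun i => match i with
    | 0 => fun h => absurd rfl h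
    | 1 => fun _ => ⟨ok1_of_ok TabE7b.ok1, TabE7b.dvd1⟩
    | 2 => fun _ => ⟨ok1_of_ok TabE7b.ok2, TabE7b.dvd2⟩
    | 3 => fun _ => ⟨ok1_of_ok TabE7b.ok3, TabE7b.dvd3⟩
    | 4 => fun _ => ⟨ok1_of_ok TabE7b.ok4, TabE7b.dvd4⟩
  uq := fun i => match i with
    | 0 => fun h => absurd rfl h
    | 1 => fun _ => uq_of_ok TabE7b.ok1
    | 2 => fun _ => uq_of_ok TabE7b.ok2
    | 3 => fun _ => uq_of_ok TabE7b.ok3
    | 4 => fun _ => uq_of_ok TabE7b.ok4
  FF := [0, 0, 0, 0, 0, 0, 0, 0, 0, 0, 0, 0, 0, 0, 0, 1, 0, 1, 0, 1, 1, 1, 1, 0, 1, 0, 1]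
  LL := 2
  cf i := ([[0, 0, 0, 0, 0, 0, 0, 0, 0, 0, 0, 0, 0, 0, 0, 2, 0, 2, 0, 2, 2, 2, 2, 0, 2, 0, 2], [0, 0, 0, 0, 0, 0, 0, 2, 0, 2, 0, 4, 0, 6, 0, 6, 0, 8, 0, 8, 0, 6, 0, 6, 0, 4, 0, 2, 0, 2], [0, 0, 0, 2, 0, 0, 0, 2, 0, 2, 0, 2, 0, 2, 0, 2, 0, 2, 0, 2, 0, 0, 0, 2], [1, -1, 1, -2, 4, -3, 5, -7, 8, -7, 11, -11, 12, -12, 14, -12, 14, -12, 12, -11, 11, -7, 8, -7, 5, -3, 4, -2, 1, -1, 1], [1, 0, 2, 0, 2, 1, 2, 2, 2, 3, 2, 4, 2, 4, 2, 4, 2, 4, 2, 3, 2, 2, 2, 1, 2, 0, 2, 0, 1]] : List (List ℤ)).getD i []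
  hF := by decide +kernel
  hcf := by decide +kernel
  hsum := by decide +kernel
  hne := by decide +kernel
  NL := [1, 1, 1, 1, 2, 2, 3, 3, 4, 4, 5, 5, 6, 6, 6, 6, 7, 7, 6, 6, 6, 6, 5, 5, 4, 4, 3, 3, 2, 2, 1, 1, 1, 1]
  nr := 63
  nz := ⟨by decide⟩
  Z := rt
  hZ := ⟨by decide +kernel, by decide +kernel, by decide +kernel⟩
  kap n := ([0, 1, 4] : List (Fin 5)).getD n 0
  hkap := by decide +kernel
  VV c := ([[1, 1, 1, 1, 2, 2, 3, 3, 4, 4, 5, 5, 6, 6, 6, 6, 7, 6, 5, 5, 4, 4, 2, 2, 1, 1], [0, 0, 0, 0, 0, 0, 0, 0, 0, 0, 0, 0, 0, 0, 0, 0, 0, 1, 1, 1, 2, 2, 3, 3, 3, 3, 3, 3, 2, 2, 1, 1, 1], [], [], [0, 0, 0, 0, 0, 0, 0, 0, 0, 0, 0, 0, 0, 0, 0, 0, 0, 0, 0, 0, 0, 0, 0, 0, 0, 0, 0, 0, 0, 0, 0, 0, 0, 1]] : List (List ℤ)).getD c []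
  hVV := by decide +kernel
  hD := by decide +kernel

end Cfsg.Agent.H996.PQ.FullE7b
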