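import Cfsg.Agent.H996.PQ.RowsX
import Cfsg.Agent.H996.PQ.RowE7

/-!
# The extended separation theorem: `E₇(q)`, nodes `6`, `0` (helper996, for S4612; made by a program)
-/

set_option autoImplicit false
set_option maxRecDepth 20000

namespace Cfsg.Agent.H996.PQ.FullE7a

open Cfsg Cfsg.Agent.H317.PQ Cfsg.Agent.H64.Dl.Sph Cfsg.Agent.H996.Eight Cfsg.Agent.H996.Eight.Cert Cfsg.Agent.H35.ExcIdx
open Cfsg.Lie Cfsg.Agent.ChevalleyStructure.CoxeterGeomTypes Cfsg.Agent.Nodes.RGDChev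

universe u

/-- the eigenvalues of the double cosets: row `i` (constituent), column `c` (double coset) -/
def lamL : List (List (List ℤ)) :=
  [[[1], [0, 1, 1, 1, 1, 2, 2, 2, 2, 3, 2, 2, 2, 2, 1, 1, 1, 1], [0, 0, 0, 0, 0, 0, 0, 0, 0, 0, 1, 1, 1, 1, 2, 2, 2, 2, 3, 2, 2, 2, 2, 1, 1, 1, 1], [0, 0, 0, 0, 0, 0, 0, 0, 0, 0, 0, 0, 0, 0, 0, 0, 0, 0, 0, 0, 0, 0, 0, 0, 0, 0, 0, 1]],
   [[1], [-1, 0, 0, 0, 0, 1, 1, 1, 1, 2, 1, 1, 1, 1], [0, 0, 0, 0, 0, -1, -1, -1, -1, -2, -1, -1, -1, -1, 0, 0, 0, 0, 1], [0, 0, 0, 0, 0, 0, 0, 0, 0, 0, 0, 0, 0, 0, 0, 0, 0, 0, -1]],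
   [[1], [-1, 0, 0, 0, -1, 0, 0, 0, 0, 1], [0, 0, 0, 0, 1, 0, 0, 0, 0, -1, 0, 0, 0, -1], [0, 0, 0, 0, 0, 0, 0, 0, 0, 0, 0, 0, 0, 1]],
   [[1], [-1, 0, 0, 0, -1, 0, 0, 0, -1], [0, 0, 0, 0, 1, 0, 0, 0, 1, 0, 0, 0, 1], [0, 0, 0, 0, 0, 0, 0, 0, 0, 0, 0, 0, -1]]]

/-- the eigenvalue of the double coset `c` on the constituent `i` -/
def lam (i c : Fin 4) : List ℤ := (lamL.getD i []).getD c []

theorem lam_ok : full.Lam lam := by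
  show ∀ i c, pEq (pMul (lam i c) (full.P.nu i full.P.o)) (pMul (full.Da.kk c) (full.P.nu i c)) = true
  decide +kernel

/-- **The extended theorem.** -/
theorem sepX {K : Type u} [Field K] [Fintype K] {p l : ℕ} (hp : p.Prime) (hl : l.Prime)
    (hS : Same p l ↥(chevE7.group K)) : SepX pol lam (Fintype.card K) p l (Nat.card ↥(chevE7.group K)) 0 :=
  split_sepX (hpE7) K hA full lam_ok (by decide +kernel)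
    H241.PQ.hi_E7 TabE7b.data (by decide +kernel) (by decide +kernel) hp hl hS

end Cfsg.Agent.H996.PQ.FullE7a

namespace Cfsg.Agent.H996.PQ.FullE7b

open Cfsg Cfsg.Agent.H317.PQ Cfsg.Agent.H64.Dl.Sph Cfsg.Agent.H996.Eight Cfsg.Agent.H996.Eight.Cert Cfsg.Agent.H35.ExcIdx
open Cfsg.Lie Cfsg.Agent.ChevalleyStructure.CoxeterGeomTypes Cfsg.Agent.Nodes.RGDChev

universe u

/-- the eigenvalues of the double cosets: row `i` (constituent), column `c` (double coset) -/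
def lamL : List (List (List ℤ)) :=
  [[[1], [0, 1, 1, 1, 2, 2, 3, 3, 3, 3, 3, 3, 2, 2, 1, 1, 1], [0, 0, 0, 0, 0, 0, 0, 0, 1, 1, 2, 2, 4, 4, 5, 5, 6, 6, 5, 5, 4, 4, 2, 2, 1, 1], [0, 0, 0, 0, 0, 0, 0, 0, 0, 0, 0, 0, 0, 0, 0, 0, 0, 1, 1, 1, 2, 2, 3, 3, 3, 3, 3, 3, 2, 2, 1, 1, 1], [0, 0, 0, 0, 0, 0, 0, 0, 0, 0, 0, 0, 0, 0, 0, 0, 0, 0, 0, 0, 0, 0, 0, 0, 0, 0, 0, 0, 0, 0, 0, 0, 0, 1]],
   [[1], [-1, 0, 0, 0, 1, 1, 2, 2, 3, 2, 2, 2, 1, 1], [0, 0, 0, 0, -1, -1, -2, -2, -3, -2, -2, -1, 0, 1, 2, 2, 3, 2, 2, 1, 1], [0, 0, 0, 0, 0, 0, 0, 0, 0, 0, 0, -1, -1, -2, -2, -2, -3, -2, -2, -1, -1, 0, 0, 0, 1], [0, 0, 0, 0, 0, 0, 0, 0, 0, 0, 0, 0, 0, 0, 0, 0, 0, 0, 0, 0, 0, 0, 0, 0, -1]],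
   [[1], [-1, 0, 0, -1, 0, 0, 1, 1, 1, 1, 1, 1], [0, 0, 0, 1, 0, 0, -1, -1, -2, -2, -2, -2, -1, -1, 0, 0, 1], [0, 0, 0, 0, 0, 0, 0, 0, 1, 1, 1, 1, 1, 1, 0, 0, -1, 0, 0, -1], [0, 0, 0, 0, 0, 0, 0, 0, 0, 0, 0, 0, 0, 0, 0, 0, 0, 0, 0, 1]],
   [[1], [-1, 0, 0, -1, 0, -1, 0, 0, -1], [0, 0, 0, 1, 0, 1, 0, 1, 1, 0, 1, 0, 1], [0, 0, 0, 0, 0, 0, 0, -1, 0, 0, -1, 0, -1, 0, 0, -1], [0, 0, 0, 0, 0, 0, 0, 0, 0, 0, 0, 0, 0, 0, 0, 1]],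
   [[1], [-1, 0, 0, -1, 0, -1, 0, 0, 1], [0, 0, 0, 1, 0, 1, 0, 1, -1, 0, -1, 0, -1], [0, 0, 0, 0, 0, 0, 0, -1, 0, 0, 1, 0, 1, 0, 0, 1], [0, 0, 0, 0, 0, 0, 0, 0, 0, 0, 0, 0, 0, 0, 0, -1]]]

/-- the eigenvalue of the double coset `c` on the constituent `i` -/
def lam (i c : Fin 5) : List ℤ := (lamL.getD i []).getD c []

theorem lam_ok : full.Lam lam := by
  show ∀ i c, pEq (pMul (lam i c) (full.P.nu i full.P.o)) (pMul (full.Da.kk c) (full.P.nu i c)) = true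
  decide +kernel

/-- **The extended theorem.** -/
theorem sepX {K : Type u} [Field K] [Fintype K] {p l : ℕ} (hp : p.Prime) (hl : l.Prime)
    (hS : Same p l ↥(chevE7.group K)) : SepX pol lam (Fintype.card K) p l (Nat.card ↥(chevE7.group K)) 0 :=
  split_sepX (hpE7) K hA full lam_ok (by decide +kernel)
    H241.PQ.hi_E7 TabE7b.data (by decide +kernel) (by decide +kernel) hp hl hS

end Cfsg.Agent.H996.PQ.FullE7b
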