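import Cfsg.Agent.H996.PQ.Full
import Cfsg.Agent.H996.PQ.TabTwDa

/-!
# Full certificate: `³D₄`, node `0` (helper996, for S4612; made by a program)

`|G : P| = 1*q^0*P2*P3*P6*P12`, number of the long root subgroups `1*q^0*P2*P3*P6*P12` (`Pn` the cyclotomic
polynomials at `q`). Constituents (degree, `D`):
* `0`: degree `1*q^0 / 1`, `D = 0`
* `1`: degree `1*q^1*P12 / 1`, `D = 1*q^4*P2*P3*P6`
* `2`: degree `1*q^3*P2^2*P12 / 2`, `D = 1*q^3*P3*P6*(-1 + 1*q + 1*q^2)`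
* `3`: degree `1*q^3*P2^2*P6^2 / 2`, `D = 1*q^3*P3*P12`
-/

set_option autoImplicit false
set_option maxRecDepth 20000

namespace Cfsg.Agent.H996.PQ.FullTwDa

open Cfsg.Agent.H967.Sph Cfsg.Agent.H64.Dl.Sph Cfsg.Agent.H996.Eight Cfsg.Agent.H996.Eight.Cert Cfsg.Agent.H996.Eight.En

/-- degree `1*q^0 / 1` -/
def c0 : Crt 4 where
  th := [0, 1, 0, 0, 1]
  nu c := ([[1], [1], [1], [1]] : List (List ℤ)).getD c []
  steps := []
  dn := [1]
  den := 1

/-- degree `1*q^1*P12 / 1` -/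
def c1 : Crt 4 where
  th := [-1, 0, 0, -1]
  nu c := ([[0, 0, 0, 1], [0, 0, -1], [0, 1], [-1]] : List (List ℤ)).getD c []
  steps := []
  dn := [0, 1, 0, -1, 0, 1]
  den := 1

/-- degree `1*q^3*P2^2*P12 / 2` -/
def c2 : Crt 4 where
  th := [-1, 1, -1]
  nu c := ([[0, 0, 0, 0, 0, 0, 1, 1], [0, 0, 0, 0, 0, -1], [0, 0, -1], [1, 1]] : List (List ℤ)).getD c []
  steps := []
  dn := [0, 0, 0, 1, 2, 0, -2, 0, 2, 1]
  den := 2

/-- degree `1*q^3*P2^2*P6^2 / 2` -/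
def c3 : Crt 4 where
  th := [-1, 1, 1]
  nu c := ([[0, 0, 0, 0, 0, 0, 1, 0, 0, 1], [0, 0, 0, 0, 0, -1, 1, 1], [0, 0, -1, -1, 1], [-1, 0, 0, -1]] : List (List ℤ)).getD c []
  steps := []
  dn := [0, 0, 0, 1, 0, 0, 2, 0, 0, 1]
  den := 2

/-- the certificates -/
def C (i : Fin 4) : Crt 4 := ([c0, c1, c2, c3] : List (Crt 4)).getD i c0

theorem okA : ∀ i, ok1 (C i) (TabTwDa.data.t.cls TabTwDa.data.t.o) TabTwDa.data.bb TabTwDa.data.kk := by decide +kernel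

theorem dvdA : ∀ i, pDvd (C i).den (C i).dn := by decide +kernel

theorem neA : ∀ i k, i < k → pNV (pAdd (C i).th (pNeg (C k).th)) = true := by decide +kernel


/-- the polynomials -/
def pol : Pol 4 where
  N := [1, 1, 0, 0, 1, 1, 0, 0, 1, 1]
  dn i := (C i).dn
  den i := (C i).den
  D i := ([[], [0, 0, 0, 0, 1, 1, 1, 1, 1, 1], [0, 0, 0, -1, 1, 0, 1, 0, 1, 1], [0, 0, 0, 1, 1, 0, -1, 0, 1, 1]] : List (List ℤ)).getD i []
  o := 0
  nu i := (C i).nu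

/-- the long roots -/
def rt : RTab 2 3 where
  V := 78130
  S := 1108135116801
  P := 3856
  Q := 0

/-- **The full certificate.** -/
def full : Full TabTwDa.A 0 6 4 ![2, 3] where
  Da := TabTwDa.data
  C := C
  i₀ := 0
  P := pol
  hP := ⟨rfl, rfl, rfl, by decide +kernel⟩
  hN := by decide +kernel
  triv := ⟨by decide +kernel, rfl, rfl⟩
  ok i _ := ⟨okA i, dvdA i⟩
  uq i _ := uq_of_spec C _ _ (fun i => (okA i).1) (fun i => (okA i).2.2.1) neA i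
  FF := [0, 0, 0, 1]
  LL := 2
  cf i := ([[0, 0, 0, 2], [0, 2, 0, -2, 0, 2], [1, 1, -1, -1, 1, 1], [1, 0, 0, 1]] : List (List ℤ)).getD i []
  hF := by decide +kernel
  hcf := by decide +kernel
  hsum := by decide +kernel
  hne := by decide +kernel
  NL := [1, 1, 0, 0, 1, 1, 0, 0, 1, 1]
  nr := 3
  nz := ⟨by decide⟩
  Z := rt
  hZ := ⟨by decide +kernel, by decide +kernel, by decide +kernel⟩
  kap n := ([0, 1, 3] : List (Fin 4)).getD n 0
  hkap := by decide +kernel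
  VV c := ([[1, 1, 0, 0, 1], [0, 0, 0, 0, 0, 1, 0, 0, 1], [], [0, 0, 0, 0, 0, 0, 0, 0, 0, 1]] : List (List ℤ)).getD c []
  hVV := by decide +kernel
  hD := by decide +kernel

end Cfsg.Agent.H996.PQ.FullTwDa
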