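import Cfsg.Agent.H996.Eight.Cert

/-!
# Exceptional groups, S4612: the tests for the principal blocks, the interface (helper996)

`Pol m`: a parabolic subgroup `P = P_j` with `m` double cosets, all constituents `χ i` of `1_P^G` (`i = 0` the trivial
one): `N = |G : P|`, `χ i (1) = dn i / den i`, `D i = N_long (1 - χ i (u) / χ i (1))`, `u` a long root element, `N_long`
the number of long root subgroups, spherical functions `nu i c / nu i o`; polynomials in `x` (lists of coefficients).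
`Tst P x p S`: the tests for `S = {i | χ i ∈ B0 p G}`.
-/

set_option autoImplicit false

namespace Cfsg.Agent.H996.PQ

open Cfsg.Agent.H64.Dl.Sph Cfsg.Agent.H996.Eight.Cert

/-- the polynomials of a parabolic subgroup -/
structure Pol (m : ℕ) where
  N : List ℤ
  dn : Fin m → List ℤ
  den : Fin m → ℕ
  D : Fin m → List ℤ
  o : Fin m
  nu : Fin m → Fin m → List ℤ

/-- the degree of `χ i` -/
def Pol.deg {m : ℕ} (P : Pol m) (x : ℕ) (i : Fin m) : ℕ := val (P.den i) (P.dn i) x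

/-- the value of the spherical function `i` at the class `c` -/
def Pol.sph {m : ℕ} (P : Pol m) (x : ℕ) (i c : Fin m) : ℚ := ev x (P.nu i c) / ev x (P.nu i P.o)

/-- **The tests** for `S = {i | χ i ∈ B0 p G}`; `cls`: class test (long root elements); `tr`, `tr'`: trace test;
`co`: coset test. -/
structure Tst {m : ℕ} (P : Pol m) (x p : ℕ) (S : Finset (Fin m)) : Prop where
  cls : ∀ i ∈ S, (p : ℤ) ∣ ((x : ℤ) - 1) * evZ x (P.D i)
  tr : ∀ k : ℕ, (p : ℤ) ^ k ∣ evZ x P.N → (p : ℤ) ^ k ∣ ∑ i ∈ S, (P.deg x i : ℤ)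
  tr' : ¬ (p : ℤ) ∣ evZ x P.N → ¬ (p : ℤ) ∣ ∑ i ∈ S, (P.deg x i : ℤ)
  co : ∀ c, ∃ u v : ℤ, ¬ (p : ℤ) ∣ v ∧ (v : ℚ) * ∑ i ∈ S, (P.deg x i : ℚ) * P.sph x i c = u * ev x P.N

/-- the same set for both primes -/
def Sep {m : ℕ} (P : Pol m) (x p l : ℕ) (i₀ : Fin m) : Prop :=
  ∃ S : Finset (Fin m), i₀ ∈ S ∧ Tst P x p S ∧ Tst P x l S

end Cfsg.Agent.H996.PQ
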