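import Cfsg.Agent.H996.PQ.Defs
import Cfsg.Agent.H967.Sph.Count

/-!
# Highest roots (helper996, for S4612): definitions
-/

set_option autoImplicit false

namespace Cfsg.Agent.H996.PQ

open CoxeterSystem Cfsg.Agent.ChevalleyStructure.CoxeterGeom Cfsg.Agent.Tits.Roots

/-- `α₀` is the highest (long) root, `j₀` the only node not orthogonal to it; `D` the lengths of the simple roots. -/
structure Hi {I : Type*} [Fintype I] [DecidableEq I] (A : I → I → ℤ) (j₀ : I) (α₀ D : I → ℤ) : Prop where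
  sym : ∀ i k, D i * A i k = D k * A k i
  pos : ∀ i, 0 < D i
  nonneg : ∀ i, 0 ≤ α₀ i
  orth : ∀ i, i ≠ j₀ → ∑ k, A i k * α₀ k = 0
  top : 0 < ∑ k, A j₀ k * α₀ k

/-- `X α₀` is centralised by the positive root groups -/
def Cen {I W Y : Type*} [Fintype I] [DecidableEq I] [Group W] [Group Y] {M : CoxeterMatrix I} (cs : CoxeterSystem M W)
    {A : I → I → ℤ} (h : IsCartan M A) (X : (I → ℤ) → Subgroup Y) (α₀ : I → ℤ) : Prop :=
  ∀ x, IsRoot cs h x → 0 ≤ x → ∀ a ∈ X x, ∀ b ∈ X α₀, a * b = b * a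

end Cfsg.Agent.H996.PQ
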