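import Cfsg.Agent.H996.PQ.Val
import Cfsg.Agent.H996.PQ.Hi
import Cfsg.Agent.H329.PQ.Trace

/-!
# All constituents of `1_P^G` (helper996, for S4612)

`Fam`: a family of constituents with `∑ d_i a_i(c) = |G : P| [c = o]`. `Fam.mf`: the permutation character is their sum;
`Fam.co`: the coset test.
-/

set_option autoImplicit false
set_option linter.unusedSectionVars false

namespace Cfsg.Agent.H996.PQ

open Cfsg Cfsg.Agent.H967.Sph Cfsg.Agent.H996.Eight Cfsg.Agent.H317.PQ Cfsg.Agent.Blocks.Basic Cfsg.Agent.Blocks.Local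
open CoxeterSystem Cfsg.Agent.ChevalleyStructure.CoxeterGeom Cfsg.Agent.Tits.Roots Cfsg.Agent.Tits.Core
  Cfsg.Agent.Nodes.Reps Cfsg.Agent.Nodes.BNOf Cfsg.Agent.Nodes.Bruhat Cfsg.Agent.Nodes.LeviDec

universe u

/-- rational local integers -/
theorem rat_local {p : ℕ} (hp : p.Prime) {M : Ideal AlgInt} (hM : IsPModular p M) {r : ℚ}
    (h : MemLocalRing M ((r : ℚ) : ℂ)) : ∃ u v : ℤ, ¬ (p : ℤ) ∣ v ∧ (v : ℚ) * r = u := by
  have : M.IsPrime := isPrime_of_isPModular hM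
  refine ⟨r.num, r.den, ?_, ?_⟩
  · intro h1
    have h2 : p ∣ r.den := Int.natCast_dvd_natCast.1 h1
    obtain ⟨d, hd⟩ := h2
    have h3 : ((r.num.natAbs : ℕ) : ℂ) = (p : ℂ) * ((d : ℂ) * ((|r| : ℚ) : ℂ)) := by
      have h4 : |r| * r.den = r.num.natAbs := by
        have h5 : r * r.den = r.num := Rat.mul_den_eq_num r
        have h6 : |r * r.den| = |(r.num : ℚ)| := by rw [h5]
        rw [abs_mul, Nat.abs_cast] at h6
        rw [h6, Nat.cast_natAbs, Int.cast_abs]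
      have h5 : ((|r| * r.den : ℚ) : ℂ) = ((r.num.natAbs : ℚ) : ℂ) := by rw [h4]
      rw [hd] at h5
      push_cast at h5
      rw [← h5]
      ring
    have h4 : MemLocalRing M ((|r| : ℚ) : ℂ) := by
      rcases abs_choice r with h5 | h5
      · rw [h5]; exact h
      · rw [h5, Rat.cast_neg]
        have h6 : -(r : ℂ) = ((-1 : ℤ) : ℂ) * (r : ℂ) := by push_cast; ring
        rw [h6]
        exact memLocalRing_mul (memLocalRing_intCast _) h
    have h5 : MemLocalIdeal M ((r.num.natAbs : ℕ) : ℂ) := by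
      rw [h3]
      exact memLocalIdeal_mul_right (memLocalIdeal_p hM) (memLocalRing_mul (memLocalRing_natCast _) h4)
    have h6 : p ∣ r.num.natAbs := (memLocalIdeal_natCast_iff hM _).1 h5
    have h7 : p ∣ Nat.gcd r.num.natAbs r.den := Nat.dvd_gcd h6 ⟨d, hd⟩
    rw [r.reduced] at h7
    exact hp.one_lt.ne' (Nat.dvd_one.1 h7)
  · rw [mul_comm]
    exact_mod_cast Rat.mul_den_eq_num r

/-- sums over the group of functions of the coset -/
theorem sum_coe {G : Type*} [Group G] [Fintype G] (P : Subgroup G) [Fintype (G ⧸ P)] (f : G ⧸ P → ℚ) :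
    ∑ y : G, f (y : G ⧸ P) = Nat.card P * ∑ x, f x := by
  classical
  have := Fintype.ofFinite P
  rw [← Finset.sum_fiberwise Finset.univ (fun y : G => (y : G ⧸ P)), Finset.mul_sum]
  refine Finset.sum_congr rfl fun x _ => ?_
  have h2 : ∀ y ∈ Finset.univ.filter (fun y : G => (y : G ⧸ P) = x), f (y : G ⧸ P) = f x := by
    intro y hy
    rw [(Finset.mem_filter.1 hy).2]
  rw [Finset.sum_congr rfl h2, Finset.sum_const, nsmul_eq_mul]
  congr 1
  rw [Nat.cast_inj]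
  induction x using Quotient.inductionOn' with
  | h z =>
    have h3 : Finset.univ.filter (fun g : G => (g : G ⧸ P) = Quotient.mk'' z) =
        Finset.univ.image (fun x : P => z * x) := by
      ext g
      rw [Finset.mem_filter, Finset.mem_image]
      constructor
      · rintro ⟨-, h4⟩
        have h5 : z⁻¹ * g ∈ P := QuotientGroup.eq.1 h4.symm
        exact ⟨⟨_, h5⟩, Finset.mem_univ _, by simp⟩
      · rintro ⟨x, -, rfl⟩
        exact ⟨Finset.mem_univ _, (QuotientGroup.eq.2 (by simp)).symm⟩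
    rw [h3, Finset.card_image_of_injective _ (fun a b hab => Subtype.ext (mul_left_cancel hab)), Finset.card_univ,
      Nat.card_eq_fintype_card]

variable {I W : Type*} {Y : Type u} [Fintype I] [DecidableEq I] [Group W] [Finite W] [Group Y] [Finite Y]
    {M : CoxeterMatrix I} {cs : CoxeterSystem M W} {A : I → I → ℤ} {h : IsCartan M A} {p : ℕ} {T : Subgroup Y}
    {n : I → Y} {X : (I → ℤ) → Subgroup Y} (R : RGD cs h p T n X) (hG : GG cs h T X = ⊤)
    {j : I} {N m : ℕ} (t : Tab A j N m)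

/-- only the elements of `P` have the class of the base point -/
theorem cls_eq_o_iff {g : Y} : t.cls (stY R hG t g) = t.cls t.o ↔ g ∈ PJ cs h T X {i | i ≠ j} := by
  constructor
  · intro hg
    classical
    obtain ⟨b, hb⟩ := exists_fun R hG t (fun g => if g ∈ PJ cs h T X {i | i ≠ j} then (1 : ℚ) else 0)
      (fun y hy g => by
        have h1 : y * g ∈ PJ cs h T X {i | i ≠ j} ↔ g ∈ PJ cs h T X {i | i ≠ j} :=
          Subgroup.mul_mem_cancel_left _ hy
        simp only [h1])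
      (fun y hy g => by
        have h1 : g * y ∈ PJ cs h T X {i | i ≠ j} ↔ g ∈ PJ cs h T X {i | i ≠ j} :=
          Subgroup.mul_mem_cancel_right _ hy
        simp only [h1])
    have h1 := hb 1
    have h2 := hb g
    beta_reduce at h1 h2
    rw [if_pos (one_mem _), (stY_eq_o_iff R hG t).2 (one_mem _)] at h1
    rw [hg, ← h1] at h2
    by_contra h3
    rw [if_neg h3] at h2
    exact zero_ne_one h2
  · intro hg
    rw [(stY_eq_o_iff R hG t).2 hg]

/-- the constituents of `1_P^Y` -/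
structure Fam {r : ℕ} (χ : Fin r → Y → ℂ) (d : Fin r → ℕ) (a : Fin r → Fin m → ℚ) : Prop where
  val : ∀ i, HasVal R hG t (χ i) (d i) (a i)
  inj : Function.Injective χ
  sum : ∀ c, ∑ i, (d i : ℚ) * a i c = if c = t.cls t.o then (Nat.card (Y ⧸ PJ cs h T X {i | i ≠ j}) : ℚ) else 0

namespace Fam

variable {R hG t} {r : ℕ} {χ : Fin r → Y → ℂ} {d : Fin r → ℕ} {a : Fin r → Fin m → ℚ} (F : Fam R hG t χ d a)

include F

/-- the characters as elements of `IrrCharacter` -/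
def irr (i : Fin r) : IrrCharacter Y := ⟨χ i, (F.val i).irr⟩

theorem irr_coe (i : Fin r) : (F.irr i : Y → ℂ) = χ i := rfl

theorem charDegree_irr (i : Fin r) : charDegree (F.irr i : Y → ℂ) = d i := by
  have h1 := Blocks.Basic.irr_one_eq_charDegree (F.irr i).2
  rw [F.irr_coe, (F.val i).one] at h1
  exact_mod_cast h1.symm

/-- **the permutation character** -/
theorem mf : H329.PQ.MF Y (Y ⧸ PJ cs h T X {i | i ≠ j}) F.irr where
  inj i i' hi := by
    exact F.inj (congrArg Subtype.val hi)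
  sum g := by
    classical
    have := Fintype.ofFinite Y
    have := Fintype.ofFinite (Y ⧸ PJ cs h T X {i | i ≠ j})
    obtain ⟨P, hP⟩ : ∃ P, P = PJ cs h T X {i | i ≠ j} := ⟨_, rfl⟩
    have hN : (Nat.card Y : ℂ) = Nat.card (Y ⧸ PJ cs h T X {i | i ≠ j}) * Nat.card (PJ cs h T X {i | i ≠ j}) := by
      rw [Subgroup.card_eq_card_quotient_mul_card_subgroup (PJ cs h T X {i | i ≠ j})]
      push_cast
      rfl
    have hY0 : (Nat.card Y : ℂ) ≠ 0 := Nat.cast_ne_zero.2 Nat.card_pos.ne'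
    have hP0 : (Nat.card (PJ cs h T X {i | i ≠ j}) : ℂ) ≠ 0 := Nat.cast_ne_zero.2 Nat.card_pos.ne'
    -- the sum over the group
    have h1 : (Nat.card Y : ℂ) * ∑ i, (F.irr i : Y → ℂ) g =
        ((∑ y : Y, ∑ i, (d i : ℚ) * a i (t.cls (stY R hG t (y⁻¹ * g * y))) : ℚ) : ℂ) := by
      rw [Finset.mul_sum, Finset.sum_comm]
      push_cast
      refine Finset.sum_congr rfl fun i _ => ?_
      rw [F.irr_coe, (F.val i).val g, finsum_eq_sum_of_fintype, ← Finset.mul_sum]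
      push_cast
      rfl
    have h2 : ∀ y : Y, ∑ i, (d i : ℚ) * a i (t.cls (stY R hG t (y⁻¹ * g * y))) =
        if g • (y : Y ⧸ PJ cs h T X {i | i ≠ j}) = (y : Y ⧸ PJ cs h T X {i | i ≠ j})
        then (Nat.card (Y ⧸ PJ cs h T X {i | i ≠ j}) : ℚ) else 0 := by
      intro y
      rw [F.sum]
      have h3 : t.cls (stY R hG t (y⁻¹ * g * y)) = t.cls t.o ↔
          g • (y : Y ⧸ PJ cs h T X {i | i ≠ j}) = (y : Y ⧸ PJ cs h T X {i | i ≠ j}) := by
        rw [cls_eq_o_iff, MulAction.Quotient.smul_coe, smul_eq_mul, eq_comm, QuotientGroup.eq, mul_assoc]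
      simp only [h3]
    rw [Finset.sum_congr rfl fun y _ => h2 y] at h1
    have h3 : ∑ y : Y, (if g • (y : Y ⧸ PJ cs h T X {i | i ≠ j}) = (y : Y ⧸ PJ cs h T X {i | i ≠ j})
        then (Nat.card (Y ⧸ PJ cs h T X {i | i ≠ j}) : ℚ) else 0) =
        Nat.card (PJ cs h T X {i | i ≠ j}) * ∑ x : Y ⧸ PJ cs h T X {i | i ≠ j},
          (if g • x = x then (Nat.card (Y ⧸ PJ cs h T X {i | i ≠ j}) : ℚ) else 0) :=
      sum_coe (PJ cs h T X {i | i ≠ j}) (fun x => if g • x = x then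
        (Nat.card (Y ⧸ PJ cs h T X {i | i ≠ j}) : ℚ) else 0)
    rw [h3, ← Finset.sum_filter, Finset.sum_const, nsmul_eq_mul] at h1
    have h4 : (Finset.univ.filter fun x : Y ⧸ PJ cs h T X {i | i ≠ j} => g • x = x).card =
        Nat.card (MulAction.fixedBy (Y ⧸ PJ cs h T X {i | i ≠ j}) g) := by
      rw [Nat.card_eq_fintype_card, ← Fintype.card_subtype]
      rfl
    rw [h4] at h1
    push_cast at h1
    refine (mul_left_cancel₀ hY0 (h1.trans ?_)).symm
    rw [hN]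
    ring

/-- **the coset test**; `hv`: the other irreducible characters vanish on the cosets -/
theorem co {l : ℕ} (hl : l.Prime) (S : Finset (Fin r)) (hS : ∀ i, i ∈ S ↔ F.irr i ∈ B0 l Y)
    (hv : ∀ ψ : IrrCharacter Y, (∀ i, ψ ≠ F.irr i) → ∀ g : Y, ∑ᶠ z ∈ PJ cs h T X {i | i ≠ j}, (ψ : Y → ℂ) (g * z) = 0)
    (s : Fin N) : ∃ u v : ℤ, ¬ (l : ℤ) ∣ v ∧ (v : ℚ) * ∑ i ∈ S, (d i : ℚ) * a i (t.cls s) =
      u * (Nat.card (Y ⧸ PJ cs h T X {i | i ≠ j}) : ℚ) := by
  classical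
  have := Fintype.ofFinite Y
  obtain ⟨M', hM⟩ := Cfsg.Agent.Blocks.ExistsModular.exists_isPModular hl
  obtain ⟨w, hw'⟩ := t.exists_sw cs h s
  obtain ⟨k, hk⟩ := exists_rp cs R.nsys w
  have h2 : stY R hG t k = s := by rw [stY_eq R hG t (cell_of_rp hk), hw']
  have h3 := H329.PQ.coset_test hl hM (PJ cs h T X {i | i ≠ j}) k
  have hfin : Finite (IrrCharacter Y) := Cfsg.Agent.Characters.Core.finite_irr
  have hN0 : (Nat.card (Y ⧸ PJ cs h T X {i | i ≠ j}) : ℚ) ≠ 0 := Nat.cast_ne_zero.2 Nat.card_pos.ne'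
  have hN0' : (Nat.card (Y ⧸ PJ cs h T X {i | i ≠ j}) : ℂ) ≠ 0 := Nat.cast_ne_zero.2 Nat.card_pos.ne'
  have hP0 : (Nat.card (PJ cs h T X {i | i ≠ j}) : ℂ) ≠ 0 := Nat.cast_ne_zero.2 Nat.card_pos.ne'
  have h4 : (Nat.card Y : ℂ)⁻¹ * ∑ᶠ χ ∈ B0 l Y, (χ : Y → ℂ) 1 * ∑ᶠ z ∈ PJ cs h T X {i | i ≠ j}, (χ : Y → ℂ) (k * z) =
      (((∑ i ∈ S, (d i : ℚ) * a i (t.cls s)) / (Nat.card (Y ⧸ PJ cs h T X {i | i ≠ j}) : ℚ) : ℚ) : ℂ) := by
    have h5 : ∑ᶠ χ ∈ B0 l Y, (χ : Y → ℂ) 1 * ∑ᶠ z ∈ PJ cs h T X {i | i ≠ j}, (χ : Y → ℂ) (k * z) =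
        ∑ i ∈ S, (F.irr i : Y → ℂ) 1 * ∑ᶠ z ∈ PJ cs h T X {i | i ≠ j}, (F.irr i : Y → ℂ) (k * z) := by
      rw [finsum_mem_eq_finite_toFinset_sum _ (Set.toFinite _)]
      have hinj : Set.InjOn F.irr (S : Set (Fin r)) := fun i _ i' _ hi => F.mf.inj hi
      rw [← Finset.sum_image (f := fun χ : IrrCharacter Y =>
        (χ : Y → ℂ) 1 * ∑ᶠ z ∈ PJ cs h T X {i | i ≠ j}, (χ : Y → ℂ) (k * z)) hinj]
      symm
      refine Finset.sum_subset ?_ ?_
      · intro χ' hχ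
        obtain ⟨i, hi, rfl⟩ := Finset.mem_image.1 hχ
        rw [Set.Finite.mem_toFinset]
        exact (hS i).1 hi
      · intro χ' hχ hχ'
        rw [Set.Finite.mem_toFinset] at hχ
        rw [hv χ' (fun i hi => hχ' (Finset.mem_image.2 ⟨i, (hS i).2 (hi ▸ hχ), hi.symm⟩)), mul_zero]
    rw [h5, Rat.cast_div, Rat.cast_sum, Finset.sum_div, Finset.mul_sum]
    refine Finset.sum_congr rfl fun i _ => ?_
    have h6 := (F.val i).coset k
    rw [h2] at h6
    have h7 : (F.irr i : Y → ℂ) 1 = d i := (F.val i).one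
    rw [h7]
    show _ * ((d i : ℂ) * ∑ᶠ z ∈ PJ cs h T X {i | i ≠ j}, χ i (k * z)) = _
    rw [h6]
    have h8 : (Nat.card Y : ℂ) = Nat.card (Y ⧸ PJ cs h T X {i | i ≠ j}) * Nat.card (PJ cs h T X {i | i ≠ j}) := by
      rw [Subgroup.card_eq_card_quotient_mul_card_subgroup (PJ cs h T X {i | i ≠ j})]
      push_cast
      rfl
    rw [h8]
    push_cast
    field_simp
  rw [h4] at h3
  obtain ⟨u, v, hv1, hv2⟩ := rat_local hl hM h3
  refine ⟨u, v, hv1, ?_⟩
  rw [← hv2]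
  field_simp

end Fam

end Cfsg.Agent.H996.PQ
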