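import Cfsg.Agent.H996.PQ.Hi
import Cfsg.Agent.H996.Eight.Enc

/-!
# Tables of the long roots (helper996, for S4612)

`RTab`: an encoded table of the positive roots in the orbit of `α₀`. `RTab.spec`: the roots `w α₀` with negative `j`-th
coordinate are of the form `- w' α_i`, and the class of the reflection `w' s_i w'⁻¹` depends only on the coordinate.
-/

set_option autoImplicit false
set_option linter.unusedSectionVars false

namespace Cfsg.Agent.H996.PQ

open Cfsg.Agent.H967.Sph Cfsg.Agent.H996.Eight.En
open CoxeterSystem Cfsg.Agent.ChevalleyStructure.CoxeterGeom Cfsg.Agent.Tits.Roots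

/-- an encoded table of positive roots: coordinates (4 bits), images under the simple reflections (8 bits), a letter
decreasing the root, or `15` for a simple root (4 bits), the index of the simple root (4 bits) -/
structure RTab (l nr : ℕ) where
  V : ℕ
  S : ℕ
  P : ℕ
  Q : ℕ

namespace RTab

variable {l nr : ℕ} [NeZero l] [NeZero nr] (Z : RTab l nr)

def vec (r : Fin nr) (k : Fin l) : ℤ := (dig 4 Z.V (Nat.add (Nat.mul l r) k) : ℕ)

def st (i : Fin l) (r : Fin nr) : Fin nr := Fin.ofNat nr (dig 8 Z.S (Nat.add (Nat.mul l r) i))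

def par (r : Fin nr) : Fin l := Fin.ofNat l (dig 4 Z.P r)

def sim (r : Fin nr) : Fin l := Fin.ofNat l (dig 4 Z.Q r)

/-- the pairing with a simple coroot -/
def pair (A : Fin l → Fin l → ℤ) (i : Fin l) (r : Fin nr) : ℤ :=
  (List.finRange l).foldr (fun k a => A i k * Z.vec r k + a) 0

/-- the image under `s_i` is positive -/
def good (A : Fin l → Fin l → ℤ) (i : Fin l) (r : Fin nr) : Bool :=
  decide (Z.vec (Z.st i r) i = Z.vec r i - Z.pair A i r) &&
    (List.finRange l).all fun k => decide (k = i) || decide (Z.vec (Z.st i r) k = Z.vec r k)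

/-- the root is `α_i` -/
def isS (i : Fin l) (r : Fin nr) : Bool :=
  (List.finRange l).all fun k => decide (Z.vec r k = if k = i then 1 else 0)

/-- words: `r = w α_i` -/
def word : ℕ → Fin nr → Option (List (Fin l) × Fin l)
  | 0, _ => none
  | f + 1, r => if dig 4 Z.P r = 15 then some ([], Z.sim r) else
      match word f (Z.st (Z.par r) r) with
      | some (w, i) => some (Z.par r :: w, i)
      | none => none

/-- the tests of a table -/
structure Ok (A : Fin l → Fin l → ℤ) (α₀ : Fin l → ℤ) : Prop where
  top : ∃ r, ∀ k, Z.vec r k = α₀ k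
  cl : ∀ r i, (Z.isS i r && decide (Z.st i r = r)) = true ∨ Z.good A i r = true
  par : ∀ r : Fin nr, (if dig 4 Z.P r = 15 then Z.isS (Z.sim r) r else Z.good A (Z.par r) r) = true

variable {A : Fin l → Fin l → ℤ} {j : Fin l} {N m : ℕ}

/-- the test of the classes -/
def clsOk (t : Tab A j N m) (kap : ℕ → Fin m) : Prop :=
  ∀ r : Fin nr, 0 < Z.vec r j → match Z.word 64 r with
    | some (w, i) => t.cls ((w ++ i :: w.reverse).foldl (fun b i => t.st i b) t.o) = kap (Z.vec r j).toNat
    | none => False

instance (t : Tab A j N m) (kap : ℕ → Fin m) : Decidable (Z.clsOk t kap) := by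
  unfold clsOk
  have : ∀ r : Fin nr, Decidable (match Z.word 64 r with
    | some (w, i) => t.cls ((w ++ i :: w.reverse).foldl (fun b i => t.st i b) t.o) = kap (Z.vec r j).toNat
    | none => False) := by
    intro r
    cases Z.word 64 r with
    | none => exact instDecidableFalse
    | some x => exact inferInstanceAs (Decidable (_ = _))
  infer_instance

section Spec

variable {W : Type*} [Group W] {M : CoxeterMatrix (Fin l)} (cs : CoxeterSystem M W) (h : IsCartan M A) {α₀ : Fin l → ℤ}

theorem pair_eq (A : Fin l → Fin l → ℤ) (i : Fin l) (r : Fin nr) : Z.pair A i r = pairing A i (Z.vec r) := by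
  have key : ∀ L : List (Fin l), L.foldr (fun k a => A i k * Z.vec r k + a) 0 =
      (L.map fun k => A i k * Z.vec r k).sum := by
    intro L
    induction L with
    | nil => rfl
    | cons k L ih => rw [List.foldr_cons, List.map_cons, List.sum_cons, ih]
  rw [pair, key, pairing, ← List.sum_ofFn, List.ofFn_eq_map]

include h in
theorem act_good {i : Fin l} {r : Fin nr} (hg : Z.good A i r = true) :
    rep cs h (cs.simple i) (Z.vec r) = Z.vec (Z.st i r) := by
  rw [good, Bool.and_eq_true, decide_eq_true_eq, List.all_eq_true] at hg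
  funext k
  by_cases hk : k = i
  · subst hk
    rw [rep_simple_apply_self, hg.1, Z.pair_eq]
  · rw [rep_simple_apply cs h i _ k hk]
    have h1 := hg.2 k (List.mem_finRange k)
    rw [Bool.or_eq_true, decide_eq_true_eq, decide_eq_true_eq] at h1
    exact (h1.resolve_left hk).symm

theorem isS_iff {i : Fin l} {r : Fin nr} : Z.isS i r = true ↔ Z.vec r = sr i := by
  rw [isS, List.all_eq_true]
  constructor
  · intro h1
    funext k
    have h2 := h1 k (List.mem_finRange k)
    rw [decide_eq_true_eq] at h2
    rw [h2, sr, Pi.single_apply]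
  · intro h1 k _
    rw [decide_eq_true_eq, h1, sr, Pi.single_apply]

variable {Z} (hZ : Z.Ok A α₀)

include h hZ

theorem act_vec (i : Fin l) (r : Fin nr) :
    rep cs h (cs.simple i) (Z.vec r) = Z.vec (Z.st i r) ∨ rep cs h (cs.simple i) (Z.vec r) = - Z.vec (Z.st i r) := by
  rcases hZ.cl r i with h1 | h1
  · rw [Bool.and_eq_true, decide_eq_true_eq, isS_iff] at h1
    right
    rw [h1.2, h1.1, rep_simple_sr]
  · exact Or.inl (Z.act_good cs h h1)

theorem exists_vec (w : W) : ∃ r, rep cs h w α₀ = Z.vec r ∨ rep cs h w α₀ = - Z.vec r := by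
  obtain ⟨ω, rfl⟩ := cs.wordProd_surjective w
  induction ω with
  | nil =>
    obtain ⟨r, hr⟩ := hZ.top
    refine ⟨r, Or.inl ?_⟩
    rw [wordProd_nil, map_one, Module.End.one_apply]
    exact (funext hr).symm
  | cons i ω ih =>
    obtain ⟨r, hr | hr⟩ := ih
    · refine ⟨Z.st i r, ?_⟩
      rw [wordProd_cons, rep_mul_apply, hr]
      exact act_vec cs h hZ i r
    · refine ⟨Z.st i r, ?_⟩
      rw [wordProd_cons, rep_mul_apply, hr, map_neg]
      rcases act_vec cs h hZ i r with h1 | h1
      · exact Or.inr (by rw [h1])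
      · exact Or.inl (by rw [h1, neg_neg])

theorem word_spec : ∀ (f : ℕ) (r : Fin nr) (w : List (Fin l)) (i : Fin l), Z.word f r = some (w, i) →
    Z.vec r = rep cs h (cs.wordProd w) (sr i)
  | 0, _, _, _, h1 => by
    rw [word] at h1
    exact absurd h1 (by simp)
  | f + 1, r, w, i, h1 => by
    have hp := hZ.par r
    rw [word] at h1
    by_cases h2 : dig 4 Z.P r = 15
    · rw [if_pos h2] at hp h1
      simp only [Option.some.injEq, Prod.mk.injEq] at h1
      obtain ⟨rfl, rfl⟩ := h1
      rw [wordProd_nil, map_one, Module.End.one_apply]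
      exact Z.isS_iff.1 hp
    · rw [if_neg h2] at hp h1
      cases h3 : Z.word f (Z.st (Z.par r) r) with
      | none => rw [h3] at h1; exact absurd h1 (by simp)
      | some x =>
        obtain ⟨w', i'⟩ := x
        rw [h3] at h1
        simp only [Option.some.injEq, Prod.mk.injEq] at h1
        obtain ⟨rfl, rfl⟩ := h1
        have h4 := word_spec f _ _ _ h3
        rw [wordProd_cons, rep_mul_apply, ← h4, ← Z.act_good cs h hp, ← rep_mul_apply, simple_mul_simple_self,
          map_one, Module.End.one_apply]

/-- **the reflections in the roots `w α₀`** -/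
theorem spec (t : Tab A j N m) {kap : ℕ → Fin m} (hk : Z.clsOk t kap) (w : W) (hw : rep cs h w α₀ j < 0) :
    ∃ (w' : W) (i : Fin l), rep cs h w α₀ = - rep cs h w' (sr i) ∧ 0 ≤ rep cs h w' (sr i) ∧
      t.cls (t.sw cs h (w' * cs.simple i * w'⁻¹)) = kap (-(rep cs h w α₀ j)).toNat := by
  obtain ⟨r, hr | hr⟩ := exists_vec cs h hZ w
  · exfalso
    rw [hr] at hw
    exact absurd (Int.natCast_nonneg _) (not_le.2 hw)
  · have h1 : 0 < Z.vec r j := by
      rw [hr, Pi.neg_apply] at hw
      linarith
    have h2 := hk r h1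
    cases h3 : Z.word 64 r with
    | none => rw [h3] at h2; exact h2.elim
    | some x =>
      obtain ⟨ω, i⟩ := x
      rw [h3] at h2
      have h2' : t.cls ((ω ++ i :: ω.reverse).foldl (fun b i => t.st i b) t.o) = kap (Z.vec r j).toNat := h2
      have h4 := word_spec cs h hZ _ _ _ _ h3
      refine ⟨cs.wordProd ω, i, by rw [hr, h4], ?_, ?_⟩
      · rw [← h4]
        exact fun k => Int.natCast_nonneg _
      · rw [hr, Pi.neg_apply, neg_neg, ← h2']
        congr 1
        have h5 := t.sw_wordProd cs h 1 (ω ++ i :: ω.reverse)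
        rw [one_mul, Tab.sw_one] at h5
        rw [← h5, wordProd_append, wordProd_cons, wordProd_reverse, mul_assoc]

end Spec

end RTab

end Cfsg.Agent.H996.PQ
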