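import Cfsg.Agent.H996.PQ.RowsX
import Cfsg.Agent.H996.PQ.RowTwD

/-!
# The extended separation theorem: `³D₄(q)` (helper996, for S4612; made by a program)
-/

set_option autoImplicit false
set_option maxRecDepth 20000

namespace Cfsg.Agent.H996.PQ.TwD

open Cfsg Cfsg.Agent.H967.Sph Cfsg.Agent.H317.PQ Cfsg.Agent.H64.Dl.Sph Cfsg.Agent.H996.Eight.Cert
open CoxeterSystem Cfsg.Agent.ChevalleyStructure.CoxeterGeom Cfsg.Agent.Tits.Roots Cfsg.Agent.Tits.Core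
  Cfsg.Agent.Nodes.Reps Cfsg.Agent.Nodes.BNOf Cfsg.Agent.Nodes.Bruhat Cfsg.Agent.Nodes.LeviDec
open Cfsg.Lie Cfsg.Agent.Nodes

universe u

theorem tw_sepX {A' : Fin 2 → Fin 2 → ℤ} (hA : Nodes.RGDTwD4.A = A') {j : Fin 2} {N m : ℕ} (Fu : Full A' j N m ![2, 3])
    {lam : Fin m → Fin m → List ℤ} (hlam : Fu.Lam lam)
    (he : ∀ i, Fu.Da.e i = if i = 0 then 1 else 3)
    {N' m' : ℕ} (Da' : Data A' 0 N' m') (he' : ∀ i, Da'.e i = if i = 0 then 1 else 3)
    (hNL : pEq (pSum Da'.kk) Fu.NL = true)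
    (hw : ∀ r, (∀ k, Fu.Z.vec r k = (![2, 3] : Fin 2 → ℤ) k) → ∃ w i, Fu.Z.word 64 r = some (w, i) ∧ Fu.Da.e i = 1)
    {K : Type u} [Field K] [Fintype K] {x : ℕ} (hq : IsPrimePow x) (hK : Fintype.card K = x ^ 3)
    {p l : ℕ} (hp : p.Prime) (hl : l.Prime) (hS : Same p l ↥(twistedD4 K x)) : 
    SepX Fu.P lam x p l (Nat.card ↥(twistedD4 K x)) Fu.i₀ := by
  obtain ⟨r, hr⟩ := CharP.exists K
  have : Fact r.Prime := ⟨CharP.char_is_prime K r⟩
  obtain ⟨φ, hφ⟩ := ChevalleyStructure.D4Fixed.exists_frob hq hK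
  have : Finite ↥(twistedD4 K x) := by
    have : Finite (GL chevD4.Idx K) := by
      have : Finite (Matrix chevD4.Idx chevD4.Idx K) := inferInstance
      infer_instance
    infer_instance
  have hfin : Finite CoxeterMatrix.G₂.Group := Nodes.RGDFold.finite_W (hp := Nodes.RGDTwD4.hp)
    CoxeterMatrix.G₂.toCoxeterSystem Nodes.RGDTwD4.isCartan Nodes.RGDTwD4.foldData
  have hR := Nodes.RGDTwD4.rgd CoxeterMatrix.G₂.toCoxeterSystem hK hφ r
  have hG1 := Nodes.RGDTwD4.G1_eq_top CoxeterMatrix.G₂.toCoxeterSystem hK hφ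
  have hGG : GG CoxeterMatrix.G₂.toCoxeterSystem Nodes.RGDTwD4.isCartan (Nodes.RGDTwD4.T K x)
      (Nodes.RGDTwD4.X φ x) = ⊤ := by
    rw [eq_top_iff, ← hG1]
    exact le_sup_right
  have hsz : ∀ i, Nat.card ↥(Nodes.RGDTwD4.X φ x (sr i)) = x ^ (if i = 0 then 1 else 3) := by
    intro i
    rw [H934.RowTwD4.card_X hφ hq.one_lt hK i]
    split_ifs
    · rw [pow_one]
    · rfl
  exact sepX_of hR hGG hA Fu hlam hq.two_le (fun i => by rw [hsz, he]) (H315.PQ.cen_TwD4 _ φ) H315.PQ.hi_TwD4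
    (H315.PQ.isRoot_TwD4 _) (card_top hR hA Fu (fun i => by rw [hsz, he]) hw) Da' (fun i => by rw [hsz, he']) hNL
    hp hl hS

end Cfsg.Agent.H996.PQ.TwD

namespace Cfsg.Agent.H996.PQ.FullTwDa

open Cfsg Cfsg.Agent.H317.PQ Cfsg.Agent.H64.Dl.Sph Cfsg.Agent.H996.Eight Cfsg.Agent.H996.Eight.Cert

universe u

/-- the eigenvalues of the double cosets: row `i` (constituent), column `c` (double coset) -/
def lamL : List (List (List ℤ)) :=
  [[[1], [0, 1, 0, 0, 1], [0, 0, 0, 0, 0, 1, 0, 0, 1], [0, 0, 0, 0, 0, 0, 0, 0, 0, 1]],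
   [[1], [-1, 0, 0, -1], [0, 0, 0, 1, 0, 0, 1], [0, 0, 0, 0, 0, 0, -1]],
   [[1], [-1, 1, -1], [0, -1, 1, -1], [0, 0, 0, 1]],
   [[1], [-1, 1, 1], [0, -1, -1, 1], [0, 0, 0, -1]]]

/-- the eigenvalue of the double coset `c` on the constituent `i` -/
def lam (i c : Fin 4) : List ℤ := (lamL.getD i []).getD c []

theorem lam_ok : full.Lam lam := by
  show ∀ i c, pEq (pMul (lam i c) (full.P.nu i full.P.o)) (pMul (full.Da.kk c) (full.P.nu i c)) = true
  decide +kernel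

/-- **The extended theorem.** -/
theorem sepX {K : Type u} [Field K] [Fintype K] {x : ℕ} (hq : IsPrimePow x) (hK : Fintype.card K = x ^ 3)
    {p l : ℕ} (hp : p.Prime) (hl : l.Prime) (hS : Same p l ↥(Cfsg.Lie.twistedD4 K x)) :
    SepX pol lam x p l (Nat.card ↥(Cfsg.Lie.twistedD4 K x)) 0 :=
  TwD.tw_sepX hA full lam_ok (by decide +kernel) TabTwDa.data (by decide +kernel) (by decide +kernel) hw hq hK hp hl hS

end Cfsg.Agent.H996.PQ.FullTwDa

namespace Cfsg.Agent.H996.PQ.FullTwDb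

open Cfsg Cfsg.Agent.H317.PQ Cfsg.Agent.H64.Dl.Sph Cfsg.Agent.H996.Eight Cfsg.Agent.H996.Eight.Cert

universe u

/-- the eigenvalues of the double cosets: row `i` (constituent), column `c` (double coset) -/
def lamL : List (List (List ℤ)) :=
  [[[1], [0, 0, 0, 1, 1], [0, 0, 0, 0, 0, 0, 0, 1, 1], [0, 0, 0, 0, 0, 0, 0, 0, 0, 0, 0, 1]],
   [[1], [-1, 0, -1, 1], [0, 0, 1, -1, 0, -1], [0, 0, 0, 0, 0, 1]],
   [[1], [-1, 0, 1, 1], [0, 0, -1, -1, 0, 1], [0, 0, 0, 0, 0, -1]],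
   [[1], [-1, -1], [0, 1, 1], [0, 0, -1]]]

/-- the eigenvalue of the double coset `c` on the constituent `i` -/
def lam (i c : Fin 4) : List ℤ := (lamL.getD i []).getD c []

theorem lam_ok : full.Lam lam := by
  show ∀ i c, pEq (pMul (lam i c) (full.P.nu i full.P.o)) (pMul (full.Da.kk c) (full.P.nu i c)) = true
  decide +kernel

/-- **The extended theorem.** -/
theorem sepX {K : Type u} [Field K] [Fintype K] {x : ℕ} (hq : IsPrimePow x) (hK : Fintype.card K = x ^ 3)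
    {p l : ℕ} (hp : p.Prime) (hl : l.Prime) (hS : Same p l ↥(Cfsg.Lie.twistedD4 K x)) :
    SepX pol lam x p l (Nat.card ↥(Cfsg.Lie.twistedD4 K x)) 0 :=
  TwD.tw_sepX hA full lam_ok (by decide +kernel) TabTwDa.data (by decide +kernel) (by decide +kernel) hw hq hK hp hl hS

end Cfsg.Agent.H996.PQ.FullTwDb

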