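import Cfsg.Agent.H996.PQ.TabE8cB

/-!
# The large table of the spherical machine: `E₈`, node `6` (helper996, for S4612; made by a program): tests 1

6720 states, 26 classes.
-/

set_option autoImplicit false
set_option maxRecDepth 20000

namespace Cfsg.Agent.H996.PQ.TabE8c

open Cfsg.Agent.H967.Sph Cfsg.Agent.H64.Dl.Sph Cfsg.Agent.H996.Eight.Cert Cfsg.Agent.H996.PQ.Big

theorem hS0 : B.cSa 0 2 256 1 = true := by decide +kernel

theorem hC0 : B.cCa 0 = true := by decide +kernel

theorem hS1 : B.cSa 1 32 4096 1 = true := by decide +kernel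

theorem hC1 : B.cCa 1 = true := by decide +kernel

end Cfsg.Agent.H996.PQ.TabE8c
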