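import Cfsg.Agent.H707.Odd.EigenDeg
import Mathlib.LinearAlgebra.PID

/-!
# The values of the character of a spherical vector (helper996, for S4612)

As `H967.Sph.exists_of_spherical`, with the values of the character: `|X| χ(g) = d ∑ e₀ (γ_x⁻¹ g x)`, and its sums over
the cosets of `Q`.
-/

set_option autoImplicit false
set_option linter.unusedSectionVars false

namespace Cfsg.Agent.H996.PQ

open Cfsg Cfsg.Agent.H707.Odd Cfsg.Agent.H707.Eigen Representation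
open scoped TensorProduct

universe u

section Tr

variable {G : Type u} [Group G] [Finite G] {X : Type*} [Fintype X] [MulAction G X]

/-- the representation on an invariant space of functions -/
def repN (N : Submodule ℚ (X → ℚ)) (hN : ∀ (g : G), ∀ f ∈ N, (fun x => f (g • x)) ∈ N) : Representation ℚ G N where
  toFun g :=
    { toFun := fun φ => ⟨fun x => (φ : X → ℚ) (g⁻¹ • x), hN _ φ φ.2⟩
      map_add' := fun _ _ => rfl
      map_smul' := fun _ _ => rfl }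
  map_one' := by
    refine LinearMap.ext fun φ => Subtype.ext (funext fun x => ?_)
    show (φ : X → ℚ) ((1 : G)⁻¹ • x) = (φ : X → ℚ) x
    rw [inv_one, one_smul]
  map_mul' g h := by
    refine LinearMap.ext fun φ => Subtype.ext (funext fun x => ?_)
    show (φ : X → ℚ) ((g * h)⁻¹ • x) = (φ : X → ℚ) (h⁻¹ • g⁻¹ • x)
    rw [mul_inv_rev, mul_smul]

theorem repN_apply (N : Submodule ℚ (X → ℚ)) (hN : ∀ (g : G), ∀ f ∈ N, (fun x => f (g • x)) ∈ N) (g : G) (φ : N)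
    (x : X) : ((repN N hN g φ : N) : X → ℚ) x = (φ : X → ℚ) (g⁻¹ • x) := rfl

/-- spherical data -/
structure SphD (N : Submodule ℚ (X → ℚ)) (Q : Subgroup G) (x₀ : X) (e₀ : X → ℚ) : Prop where
  htr : ∀ x y : X, ∃ g : G, g • x = y
  hN : ∀ (g : G), ∀ f ∈ N, (fun x => f (g • x)) ∈ N
  hQ : ∀ g : G, g • x₀ = x₀ ↔ g ∈ Q
  he : e₀ ∈ N
  heQ : ∀ q ∈ Q, ∀ x, e₀ (q • x) = e₀ x
  he1 : e₀ x₀ = 1
  hone : ∀ f ∈ N, (∀ q ∈ Q, ∀ x, f (q • x) = f x) → ∃ c : ℚ, f = c • e₀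

namespace SphD

variable {N : Submodule ℚ (X → ℚ)} {Q : Subgroup G} {x₀ : X} {e₀ : X → ℚ} (D : SphD N Q x₀ e₀)

include D

omit [Finite G] in
theorem c_ne_zero : ∑ x, e₀ x ^ 2 ≠ 0 := by
  have h1 : e₀ x₀ ^ 2 ≤ ∑ x, e₀ x ^ 2 := Finset.single_le_sum (fun _ _ => sq_nonneg _) (Finset.mem_univ x₀)
  rw [D.he1, one_pow] at h1
  positivity

/-- reproducing property at the base point -/
theorem base : ∀ f ∈ N, f x₀ * ∑ x, e₀ x ^ 2 = ∑ y, e₀ y * f y := by
  classical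
  have := Fintype.ofFinite Q
  have hQ0 : (Fintype.card Q : ℚ) ≠ 0 := Nat.cast_ne_zero.2 Fintype.card_ne_zero
  intro f hf
  obtain ⟨F, hF⟩ : ∃ F : X → ℚ, F = ∑ q : Q, fun x => f ((q : G) • x) := ⟨_, rfl⟩
  have hFx : ∀ x, F x = ∑ q : Q, f ((q : G) • x) := by
    intro x
    rw [hF, Finset.sum_apply]
  have hFN : F ∈ N := by
    rw [hF]
    exact Submodule.sum_mem _ fun q _ => D.hN q f hf
  obtain ⟨l, hl⟩ := D.hone F hFN (by
    intro r hr x
    rw [hFx, hFx, ← Equiv.sum_comp (Equiv.mulRight (⟨r, hr⟩ : Q)) (fun q : Q => f ((q : G) • x))]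
    refine Finset.sum_congr rfl fun q _ => ?_
    rw [Equiv.coe_mulRight, Subgroup.coe_mul, mul_smul])
  have h0 : ∀ q : Q, f ((q : G) • x₀) = f x₀ := fun q => by rw [(D.hQ q).2 q.2]
  have h1 : F x₀ = Fintype.card Q * f x₀ := by
    rw [hFx, Finset.sum_congr rfl fun (q : Q) _ => h0 q, Finset.sum_const, Finset.card_univ, nsmul_eq_mul]
  have h2 : l = Fintype.card Q * f x₀ := by
    rw [← h1, hl, Pi.smul_apply, smul_eq_mul, D.he1, mul_one]
  have h3 : ∑ y, e₀ y * F y = Fintype.card Q * ∑ y, e₀ y * f y := by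
    have e1 : ∀ y, e₀ y * F y = ∑ q : Q, e₀ y * f ((q : G) • y) := by
      intro y
      rw [hFx, Finset.mul_sum]
    rw [Finset.sum_congr rfl fun y _ => e1 y, Finset.sum_comm]
    have e2 : ∀ q : Q, ∑ y, e₀ y * f ((q : G) • y) = ∑ y, e₀ y * f y := by
      intro q
      rw [← Equiv.sum_comp (MulAction.toPerm (q : G)) (fun y => e₀ y * f y)]
      refine Finset.sum_congr rfl fun y _ => ?_
      rw [MulAction.toPerm_apply, D.heQ q q.2]
    rw [Finset.sum_congr rfl fun q _ => e2 q, Finset.sum_const, Finset.card_univ, nsmul_eq_mul]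
  have h4 : ∑ y, e₀ y * F y = l * ∑ x, e₀ x ^ 2 := by
    rw [Finset.mul_sum]
    refine Finset.sum_congr rfl fun y _ => ?_
    rw [hl, Pi.smul_apply, smul_eq_mul]
    ring
  rw [h4, h2, mul_assoc] at h3
  exact mul_left_cancel₀ hQ0 h3

variable {γ : X → G} (hγ : ∀ x, γ x • x₀ = x)

include hγ

theorem gen : ∀ f ∈ N, ∀ x, f x * ∑ x, e₀ x ^ 2 = ∑ y, e₀ ((γ x)⁻¹ • y) * f y := by
  intro f hf x
  have h1 := D.base _ (D.hN (γ x) f hf)
  simp only [hγ] at h1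
  rw [h1, ← Equiv.sum_comp (MulAction.toPerm (γ x)) (fun y => e₀ ((γ x)⁻¹ • y) * f y)]
  refine Finset.sum_congr rfl fun y _ => ?_
  rw [MulAction.toPerm_apply, inv_smul_smul]

theorem symm (x z : X) : e₀ ((γ x)⁻¹ • z) = e₀ ((γ z)⁻¹ • x) := by
  have h1 := D.gen hγ _ (D.hN (γ x)⁻¹ e₀ D.he) z
  have h2 := D.gen hγ _ (D.hN (γ z)⁻¹ e₀ D.he) x
  have h3 : e₀ ((γ x)⁻¹ • z) * ∑ x, e₀ x ^ 2 = e₀ ((γ z)⁻¹ • x) * ∑ x, e₀ x ^ 2 := by
    rw [h1, h2]
    exact Finset.sum_congr rfl fun y _ => mul_comm _ _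
  exact mul_right_cancel₀ D.c_ne_zero h3

/-- **the trace** -/
theorem trace_eq (g : G) :
    LinearMap.trace ℚ N (repN N D.hN g) * ∑ x, e₀ x ^ 2 = ∑ x, e₀ ((γ x)⁻¹ • g • x) := by
  classical
  obtain ⟨c, hc⟩ : ∃ c : ℚ, c = ∑ x, e₀ x ^ 2 := ⟨_, rfl⟩
  have hc0 : c ≠ 0 := hc ▸ D.c_ne_zero
  have hgen := D.gen hγ
  have hsymm := D.symm hγ
  rw [← hc] at hgen ⊢
  obtain ⟨M, hM⟩ : ∃ M : Matrix X X ℚ, M = Matrix.of fun x y => e₀ ((γ (g⁻¹ • x))⁻¹ • y) * c⁻¹ := ⟨_, rfl⟩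
  have hMapp : ∀ f x, Matrix.toLin' M f x = (∑ y, e₀ ((γ (g⁻¹ • x))⁻¹ • y) * f y) * c⁻¹ := by
    intro f x
    rw [Matrix.toLin'_apply, Matrix.mulVec, dotProduct, Finset.sum_mul]
    refine Finset.sum_congr rfl fun y _ => ?_
    rw [hM, Matrix.of_apply]
    ring
  have hmem : ∀ f, Matrix.toLin' M f ∈ N := by
    intro f
    have h1 : Matrix.toLin' M f = ∑ y, (f y * c⁻¹) • fun x => e₀ ((γ y)⁻¹ • g⁻¹ • x) := by
      funext x
      rw [hMapp, Finset.sum_apply, Finset.sum_mul]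
      refine Finset.sum_congr rfl fun y _ => ?_
      rw [Pi.smul_apply, smul_eq_mul, hsymm _ y]
      ring
    rw [h1]
    refine Submodule.sum_mem _ fun y _ => Submodule.smul_mem _ _ ?_
    have h2 := D.hN g⁻¹ _ (D.hN (γ y)⁻¹ e₀ D.he)
    exact h2
  have hres : (Matrix.toLin' M).restrict (fun x _ => hmem x) = repN N D.hN g := by
    refine LinearMap.ext fun φ => Subtype.ext (funext fun x => ?_)
    rw [repN_apply]
    show Matrix.toLin' M (φ : X → ℚ) x = _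
    rw [hMapp, ← hgen φ φ.2, mul_assoc, mul_inv_cancel₀ hc0, mul_one]
  rw [← hres, LinearMap.trace_restrict_eq_of_forall_mem N (Matrix.toLin' M) hmem, Matrix.trace_toLin'_eq,
    Matrix.trace, Finset.sum_mul, ← Equiv.sum_comp (MulAction.toPerm g)]
  refine Finset.sum_congr rfl fun x _ => ?_
  rw [Matrix.diag_apply, hM, Matrix.of_apply, MulAction.toPerm_apply, inv_smul_smul, mul_assoc,
    inv_mul_cancel₀ hc0, mul_one]

theorem e_inv (g : G) : e₀ (g⁻¹ • x₀) = e₀ (g • x₀) := by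
  have h1 := D.symm hγ x₀ (g • x₀)
  have h2 : (γ x₀)⁻¹ ∈ Q := Q.inv_mem ((D.hQ _).1 (hγ x₀))
  rw [D.heQ _ h2] at h1
  rw [h1]
  have h3 : (γ (g • x₀))⁻¹ * g ∈ Q := by
    rw [← D.hQ, mul_smul, inv_smul_eq_iff, hγ]
  have h4 : (γ (g • x₀))⁻¹ • x₀ = ((γ (g • x₀))⁻¹ * g) • g⁻¹ • x₀ := by
    rw [← mul_smul, mul_assoc, mul_inv_cancel, mul_one]
  rw [h4, D.heQ _ h3]

/-- the sum of the traces over a coset -/
theorem trace_coset [Fintype Q] (g : G) :
    ∑ q : Q, LinearMap.trace ℚ N (repN N D.hN (g * q)) = Fintype.card Q * e₀ (g • x₀) := by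
  classical
  have h1 : ∑ q : Q, LinearMap.trace ℚ N (repN N D.hN (g * q)) =
      LinearMap.trace ℚ N (∑ q : Q, repN N D.hN (g * q)) := by rw [map_sum]
  let ev : N →ₗ[ℚ] ℚ := (LinearMap.proj x₀ : (X → ℚ) →ₗ[ℚ] ℚ) ∘ₗ N.subtype
  have h2 : ∑ q : Q, repN N D.hN (g * q) =
      ((Fintype.card Q : ℚ) • ev).smulRight (repN N D.hN g ⟨e₀, D.he⟩) := by
    refine LinearMap.ext fun φ => ?_
    rw [LinearMap.sum_apply, LinearMap.smulRight_apply]
    have h3 : ∑ q : Q, repN N D.hN (g * q) φ = repN N D.hN g (∑ q : Q, repN N D.hN q φ) := by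
      rw [map_sum]
      refine Finset.sum_congr rfl fun q _ => ?_
      rw [map_mul, Module.End.mul_apply]
    rw [h3, ← map_smul]
    congr 1
    obtain ⟨l, hl⟩ := D.hone ((∑ q : Q, repN N D.hN q φ : N) : X → ℚ) (∑ q : Q, repN N D.hN q φ : N).2 (by
      intro r hr x
      have e1 : ∀ x, ((∑ q : Q, repN N D.hN q φ : N) : X → ℚ) x = ∑ q : Q, (φ : X → ℚ) ((q : G)⁻¹ • x) := by
        intro x
        rw [Submodule.coe_sum, Finset.sum_apply]
        rfl
      rw [e1, e1, ← Equiv.sum_comp (Equiv.mulLeft (⟨r, hr⟩ : Q)) (fun q : Q => (φ : X → ℚ) ((q : G)⁻¹ • r • x))]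
      refine Finset.sum_congr rfl fun q _ => ?_
      rw [Equiv.coe_mulLeft, Subgroup.coe_mul, mul_inv_rev, mul_smul, inv_smul_smul])
    refine Subtype.ext (hl.trans ?_)
    have h4 : ((∑ q : Q, repN N D.hN q φ : N) : X → ℚ) x₀ = Fintype.card Q * (φ : X → ℚ) x₀ := by
      rw [Submodule.coe_sum, Finset.sum_apply]
      have e2 : ∀ q : Q, ((repN N D.hN q φ : N) : X → ℚ) x₀ = (φ : X → ℚ) x₀ := fun q => by
        rw [repN_apply, (D.hQ _).2 (Q.inv_mem q.2)]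
      rw [Finset.sum_congr rfl fun q _ => e2 q, Finset.sum_const, Finset.card_univ, nsmul_eq_mul]
    have h5 : l = Fintype.card Q * (φ : X → ℚ) x₀ := by
      rw [← h4, hl, Pi.smul_apply, smul_eq_mul, D.he1, mul_one]
    rw [h5]
    rfl
  rw [h1, h2, LinearMap.trace_smulRight]
  show (Fintype.card Q : ℚ) * e₀ (g⁻¹ • x₀) = _
  rw [D.e_inv hγ]

end SphD

/-- **The character of a spherical vector, with its values.** -/
theorem exists_of_spherical_val (htr : ∀ x y : X, ∃ g : G, g • x = y) (V : Submodule ℚ (X → ℚ))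
    (hV : ∀ (g : G), ∀ f ∈ V, (fun x => f (g • x)) ∈ V) (Q : Subgroup G) [Fintype Q] (x₀ : X)
    (hQ : ∀ g : G, g • x₀ = x₀ ↔ g ∈ Q) (e₀ : X → ℚ) (he : e₀ ∈ V) (heQ : ∀ q ∈ Q, ∀ x, e₀ (q • x) = e₀ x)
    (he1 : e₀ x₀ = 1) (hone : ∀ f ∈ V, (∀ q ∈ Q, ∀ x, f (q • x) = f x) → ∃ c : ℚ, f = c • e₀)
    (d : ℕ) (hsum : (d : ℚ) * ∑ x, e₀ x ^ 2 = Fintype.card X) :
    ∃ χ : G → ℂ, IsIrrCharacter G χ ∧ χ 1 = d ∧
      (∀ γ : X → G, (∀ x, γ x • x₀ = x) → ∀ g,
        (Fintype.card X : ℂ) * χ g = d * ((∑ x, e₀ ((γ x)⁻¹ • g • x) : ℚ) : ℂ)) ∧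
      ∀ g, ∑ q : Q, χ (g * q) = Fintype.card Q * ((e₀ (g • x₀) : ℚ) : ℂ) := by
  classical
  obtain ⟨N, hNd⟩ : ∃ N : Submodule ℚ (X → ℚ), N = Submodule.span ℚ (Set.range fun (g : G) (x : X) => e₀ (g • x)) :=
    ⟨_, rfl⟩
  have hNV : N ≤ V := by
    rw [hNd, Submodule.span_le]
    rintro _ ⟨g, rfl⟩
    exact hV g e₀ he
  have hN : ∀ (g : G), ∀ f ∈ N, (fun x => f (g • x)) ∈ N := by
    intro g f hf
    rw [hNd] at hf ⊢
    induction hf using Submodule.span_induction with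
    | mem x hx =>
      obtain ⟨h, rfl⟩ := hx
      refine Submodule.subset_span ⟨h * g, ?_⟩
      funext x
      show e₀ ((h * g) • x) = e₀ (h • g • x)
      rw [mul_smul]
    | zero => exact Submodule.zero_mem _
    | add x y _ _ hx hy => exact Submodule.add_mem _ hx hy
    | smul c x _ hx => exact Submodule.smul_mem _ c hx
  have heN : e₀ ∈ N := by
    rw [hNd]
    exact Submodule.subset_span ⟨1, by funext x; show e₀ ((1 : G) • x) = e₀ x; rw [one_smul]⟩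
  have D : SphD N Q x₀ e₀ := ⟨htr, hN, hQ, heN, heQ, he1, fun f hf => hone f (hNV hf)⟩
  obtain ⟨γ, hγ⟩ : ∃ γ : X → G, ∀ x, γ x • x₀ = x := ⟨fun x => (htr x₀ x).choose, fun x => (htr x₀ x).choose_spec⟩
  have hc0 := D.c_ne_zero
  obtain ⟨c, hc⟩ : ∃ c : ℚ, c = ∑ x, e₀ x ^ 2 := ⟨_, rfl⟩
  rw [← hc] at hc0 hsum
  -- irreducible
  have hirr : (bc (repN N D.hN)).IsIrreducible := by
    apply irr_of_cyclic (repN N D.hN) Q (fun _ => 1) ⟨e₀, heN⟩
    · intro h0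
      have h1 : e₀ x₀ = 0 := congrArg (fun φ : N => (φ : X → ℚ) x₀) h0
      rw [he1] at h1
      exact one_ne_zero h1
    · intro q hq
      rw [one_smul]
      refine Subtype.ext (funext fun x => ?_)
      rw [repN_apply]
      exact heQ _ (Q.inv_mem hq) x
    · intro φ hφ
      obtain ⟨l, hl⟩ := hone φ (hNV φ.2) (by
        intro q hq x
        have h1 := hφ q⁻¹ (Q.inv_mem hq)
        rw [one_smul] at h1
        have h2 := congrArg (fun ψ : N => (ψ : X → ℚ) x) h1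
        simp only [repN_apply, inv_inv] at h2
        exact h2)
      exact ⟨l, Subtype.ext hl⟩
    · rw [eq_top_iff]
      rintro ⟨f, hf⟩ -
      have hf' := hf
      rw [hNd] at hf'
      induction hf' using Submodule.span_induction with
      | mem x hx =>
        obtain ⟨g, rfl⟩ := hx
        refine Submodule.subset_span ⟨g⁻¹, Subtype.ext (funext fun x => ?_)⟩
        show e₀ (g⁻¹⁻¹ • x) = e₀ (g • x)
        rw [inv_inv]
      | zero => exact Submodule.zero_mem _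
      | add x y hx hy hx' hy' =>
        rw [← hNd] at hx hy
        have h1 := hx' hx
        have h2 := hy' hy
        exact Submodule.add_mem _ h1 h2
      | smul l x hx hx' =>
        rw [← hNd] at hx
        exact Submodule.smul_mem _ l (hx' hx)
  have hval : ∀ (γ : X → G), (∀ x, γ x • x₀ = x) → ∀ g,
      (Fintype.card X : ℂ) * (bc (repN N D.hN)).character g = d * ((∑ x, e₀ ((γ x)⁻¹ • g • x) : ℚ) : ℂ) := by
    intro γ hγ g
    rw [bc_character, ← D.trace_eq hγ g, ← hc]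
    have h1 : (Fintype.card X : ℂ) = (((d : ℚ) * c : ℚ) : ℂ) := by rw [hsum]; push_cast; rfl
    rw [h1]
    push_cast
    ring
  refine ⟨(bc (repN N D.hN)).character, Characters.Core.isIrrCharacter_of_rep _ hirr, ?_, hval, fun g => ?_⟩
  · have h1 := hval γ hγ 1
    have h2 : ∀ x : X, e₀ ((γ x)⁻¹ • (1 : G) • x) = 1 := by
      intro x
      rw [one_smul]
      have h7 : (γ x)⁻¹ • x = x₀ := by rw [inv_smul_eq_iff, hγ]
      rw [h7, he1]
    rw [Finset.sum_congr rfl fun x _ => h2 x, Finset.sum_const, Finset.card_univ, nsmul_eq_mul, mul_one,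
      mul_comm (d : ℂ)] at h1
    have h3 : (Fintype.card X : ℂ) ≠ 0 := by
      have : Nonempty X := ⟨x₀⟩
      exact Nat.cast_ne_zero.2 Fintype.card_ne_zero
    push_cast at h1
    exact mul_left_cancel₀ h3 h1
  · have h1 := D.trace_coset hγ g
    have h2 : ∀ q : Q, (bc (repN N D.hN)).character (g * q) =
        ((LinearMap.trace ℚ N (repN N D.hN (g * q)) : ℚ) : ℂ) := fun q => bc_character _ _
    rw [Finset.sum_congr rfl fun q _ => h2 q, ← Rat.cast_sum, h1]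
    push_cast
    rfl

end Tr

end Cfsg.Agent.H996.PQ
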