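import Cfsg.Agent.H996.PQ.Trace
import Cfsg.Agent.H996.Eight.Av

/-!
# The spherical machine with the values of the characters (helper996, for S4612)

`HasVal R hG t χ d a`: `χ` is the irreducible constituent of `1_P^Y` with the spherical function `a` (on the classes of the
states), of degree `d`. `exists_val`: as `H996.Eight.Av.exists_char_av`.
-/

set_option autoImplicit false
set_option linter.unusedSectionVars false

namespace Cfsg.Agent.H996.PQ

open Cfsg.Agent.H967.Sph Cfsg.Agent.H996.Eight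
open CoxeterSystem Cfsg.Agent.ChevalleyStructure.CoxeterGeom Cfsg.Agent.Tits.Roots Cfsg.Agent.Tits.Core
  Cfsg.Agent.Nodes.Reps Cfsg.Agent.Nodes.BNOf Cfsg.Agent.Nodes.Bruhat Cfsg.Agent.Nodes.LeviDec

universe u

variable {I W : Type*} {Y : Type u} [Fintype I] [DecidableEq I] [Group W] [Finite W] [Group Y] [Finite Y]
    {M : CoxeterMatrix I} {cs : CoxeterSystem M W} {A : I → I → ℤ} {h : IsCartan M A} {p : ℕ} {T : Subgroup Y}
    {n : I → Y} {X : (I → ℤ) → Subgroup Y} (R : RGD cs h p T n X) (hG : GG cs h T X = ⊤)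
    {j : I} {N m : ℕ} (t : Tab A j N m) (q : I → ℕ) (hq : ∀ i, Nat.card (X (sr i)) = q i)

/-- sums over a subgroup -/
theorem finsum_subgroup {G : Type*} [Group G] (P : Subgroup G) [Fintype P] (f : G → ℂ) :
    ∑ᶠ x ∈ P, f x = ∑ x : P, f x :=
  (finsum_set_coe_eq_finsum_mem (s := (P : Set G)) (f := f)).symm.trans (finsum_eq_sum_of_fintype _)

/-- `χ` is the constituent of the permutation character of the spherical function `a` -/
structure HasVal (χ : Y → ℂ) (d : ℕ) (a : Fin m → ℚ) : Prop where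
  irr : Cfsg.IsIrrCharacter Y χ
  one : χ 1 = d
  val : ∀ g, (Nat.card Y : ℂ) * χ g = d * ((∑ᶠ y : Y, a (t.cls (stY R hG t (y⁻¹ * g * y))) : ℚ) : ℂ)
  coset : ∀ g, ∑ᶠ q ∈ PJ cs h T X {i | i ≠ j}, χ (g * q) =
    Nat.card (PJ cs h T X {i | i ≠ j}) * ((a (t.cls (stY R hG t g)) : ℚ) : ℂ)

/-- the trivial character -/
theorem HasVal.trivial : HasVal R hG t (1 : Y → ℂ) 1 (fun _ => 1) where
  irr := Characters.Core.isIrr_one
  one := by simp
  val g := by
    classical
    have := Fintype.ofFinite Y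
    rw [finsum_eq_sum_of_fintype, Finset.sum_const, Finset.card_univ, nsmul_eq_mul, Nat.card_eq_fintype_card]
    simp
  coset g := by
    classical
    have := Fintype.ofFinite (PJ cs h T X {i | i ≠ j})
    rw [finsum_subgroup]
    simp

/-- from a function on the cosets to the group -/
theorem sum_gamma [Fintype Y] [Fintype (Y ⧸ PJ cs h T X {i | i ≠ j})] (e₀ : Y ⧸ PJ cs h T X {i | i ≠ j} → ℚ)
    (heQ : ∀ q ∈ PJ cs h T X {i | i ≠ j}, ∀ x, e₀ (q • x) = e₀ x)
    (γ : Y ⧸ PJ cs h T X {i | i ≠ j} → Y) (hγ : ∀ x, γ x • ((1 : Y) : Y ⧸ PJ cs h T X {i | i ≠ j}) = x) (g : Y) :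
    ∑ y : Y, e₀ ((y⁻¹ * g * y : Y) : Y ⧸ PJ cs h T X {i | i ≠ j}) =
      Nat.card (PJ cs h T X {i | i ≠ j}) * ∑ x, e₀ ((γ x)⁻¹ • g • x) := by
  classical
  have := Fintype.ofFinite (PJ cs h T X {i | i ≠ j})
  have hγ' : ∀ x, (γ x : Y ⧸ PJ cs h T X {i | i ≠ j}) = x := fun x => by
    have h1 := hγ x
    rwa [MulAction.Quotient.smul_coe, smul_eq_mul, mul_one] at h1
  have h1 : ∀ y : Y, e₀ ((y⁻¹ * g * y : Y) : Y ⧸ PJ cs h T X {i | i ≠ j}) =
      e₀ ((γ (y : Y ⧸ PJ cs h T X {i | i ≠ j}))⁻¹ • g • (y : Y ⧸ PJ cs h T X {i | i ≠ j})) := by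
    intro y
    have h2 : (γ (y : Y ⧸ PJ cs h T X {i | i ≠ j}))⁻¹ * y ∈ PJ cs h T X {i | i ≠ j} :=
      QuotientGroup.eq.1 (hγ' _)
    rw [MulAction.Quotient.smul_coe, MulAction.Quotient.smul_coe, smul_eq_mul, smul_eq_mul]
    have h3 : (γ (y : Y ⧸ PJ cs h T X {i | i ≠ j}))⁻¹ * (g * y) =
        ((γ (y : Y ⧸ PJ cs h T X {i | i ≠ j}))⁻¹ * y) * (y⁻¹ * g * y) := by group
    have h4 : (((γ (y : Y ⧸ PJ cs h T X {i | i ≠ j}))⁻¹ * y * (y⁻¹ * g * y) : Y) : Y ⧸ PJ cs h T X {i | i ≠ j}) =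
        ((γ (y : Y ⧸ PJ cs h T X {i | i ≠ j}))⁻¹ * y) • ((y⁻¹ * g * y : Y) : Y ⧸ PJ cs h T X {i | i ≠ j}) := rfl
    rw [h3, h4, heQ _ h2]
  rw [Finset.sum_congr rfl fun y _ => h1 y,
    ← Finset.sum_fiberwise Finset.univ (fun y : Y => (y : Y ⧸ PJ cs h T X {i | i ≠ j})), Finset.mul_sum]
  refine Finset.sum_congr rfl fun x _ => ?_
  have h2 : ∀ y ∈ Finset.univ.filter (fun y : Y => (y : Y ⧸ PJ cs h T X {i | i ≠ j}) = x),
      e₀ ((γ (y : Y ⧸ PJ cs h T X {i | i ≠ j}))⁻¹ • g • (y : Y ⧸ PJ cs h T X {i | i ≠ j})) =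
      e₀ ((γ x)⁻¹ • g • x) := by
    intro y hy
    rw [(Finset.mem_filter.1 hy).2]
  rw [Finset.sum_congr rfl h2, Finset.sum_const, nsmul_eq_mul]
  congr 1
  rw [Nat.cast_inj]
  have h3 : Finset.univ.filter (fun y : Y => (y : Y ⧸ PJ cs h T X {i | i ≠ j}) = x) =
      Finset.univ.image (fun z : PJ cs h T X {i | i ≠ j} => γ x * z) := by
    ext y
    rw [Finset.mem_filter, Finset.mem_image]
    constructor
    · rintro ⟨-, h4⟩
      have h5 : (γ x)⁻¹ * y ∈ PJ cs h T X {i | i ≠ j} := QuotientGroup.eq.1 ((hγ' x).trans h4.symm)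
      exact ⟨⟨_, h5⟩, Finset.mem_univ _, by simp⟩
    · rintro ⟨z, -, rfl⟩
      refine ⟨Finset.mem_univ _, ?_⟩
      conv_rhs => rw [← hγ' x]
      exact (QuotientGroup.eq.2 (by simp)).symm
  rw [h3, Finset.card_image_of_injective _ (fun a b hab => Subtype.ext (mul_left_cancel hab)), Finset.card_univ,
    Nat.card_eq_fintype_card]

include R hG hq in
/-- **Spherical machine, averaging operator, with values.** -/
theorem exists_val (θ : ℚ) (a : Fin m → ℚ) (ha : a (t.cls t.o) = 1)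
    (wt : Fin N → ℕ) (hw : wt t.o = 1) (hws : ∀ i s, 0 < t.vec s i → wt (t.st i s) = q i * wt s)
    (he : ∀ c, ∑ s, (if t.cls s = c then wt s * t.tau q j (fun u => a (t.cls u)) s else 0) =
      θ * (∑ s, if t.cls s = c then (wt s : ℚ) else 0) * a c)
    (hu : ∀ b : Fin m → ℚ, (∀ c, ∑ s, (if t.cls s = c then wt s * t.tau q j (fun u => b (t.cls u)) s else 0) =
      θ * (∑ s, if t.cls s = c then (wt s : ℚ) else 0) * b c) → ∀ c, b c = b (t.cls t.o) * a c)
    (d : ℕ) (hd : (d : ℚ) * ∑ s, (wt s : ℚ) * a (t.cls s) ^ 2 = ∑ s, (wt s : ℚ)) :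
    ∃ χ : Y → ℂ, HasVal R hG t χ d a := by
  classical
  have := Fintype.ofFinite Y
  have := Fintype.ofFinite (Y ⧸ PJ cs h T X {i | i ≠ j})
  have := Fintype.ofFinite (PJ cs h T X {i | i ≠ j})
  have hcP : (Fintype.card (PJ cs h T X {i | i ≠ j}) : ℚ) ≠ 0 := Nat.cast_ne_zero.2 Fintype.card_ne_zero
  -- the space
  let pull : (Y ⧸ PJ cs h T X {i | i ≠ j} → ℚ) →ₗ[ℚ] (Y → ℚ) :=
    LinearMap.funLeft ℚ ℚ (fun g : Y => (g : Y ⧸ PJ cs h T X {i | i ≠ j}))
  have hpull : ∀ f g, pull f g = f (g : Y ⧸ PJ cs h T X {i | i ≠ j}) := fun _ _ => rfl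
  let av : (Y → ℚ) →ₗ[ℚ] (Y → ℚ) :=
    { toFun := fun F g => ∑ p : PJ cs h T X {i | i ≠ j}, F (g * p)
      map_add' := fun F F' => by
        funext g
        exact Finset.sum_add_distrib
      map_smul' := fun c F => by
        funext g
        rw [RingHom.id_apply, Pi.smul_apply, smul_eq_mul, Finset.mul_sum]
        rfl }
  have hav : ∀ F g, av F g = ∑ p : PJ cs h T X {i | i ≠ j}, F (g * p) := fun _ _ => rfl
  let V : Submodule ℚ (Y ⧸ PJ cs h T X {i | i ≠ j} → ℚ) := LinearMap.ker ((av ∘ₗ opT X n j -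
    ((Fintype.card (PJ cs h T X {i | i ≠ j}) : ℚ) * θ) • LinearMap.id) ∘ₗ pull)
  have hV : ∀ f, f ∈ V ↔ ∀ g, ∑ p : PJ cs h T X {i | i ≠ j}, opT X n j (pull f) (g * p) =
      (Fintype.card (PJ cs h T X {i | i ≠ j}) : ℚ) * θ * f (g : Y ⧸ PJ cs h T X {i | i ≠ j}) := by
    intro f
    rw [LinearMap.mem_ker, LinearMap.comp_apply, LinearMap.sub_apply, sub_eq_zero, funext_iff]
    rfl
  have hK0 : ∀ g : Y, (∑ s, if t.cls s = t.cls (stY R hG t g) then (wt s : ℚ) else 0) ≠ 0 := fun g => by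
    have h0 : ∀ s, (wt s : ℚ) = cnt R hG t s / cnt R hG t t.o := fun s => by
      have hc0 : cnt R hG t t.o ≠ 0 := by
        rw [cnt_o]
        exact Nat.cast_ne_zero.2 Nat.card_pos.ne'
      rw [cnt_eq R hG t q hq wt hw hws s, mul_div_assoc, div_self hc0, mul_one]
    have h1 : 0 < wt (stY R hG t g) := by
      have h2 : cnt R hG t (stY R hG t g) ≠ 0 := by
        have h3 : (0 : ℚ) < cnt R hG t (stY R hG t g) := by
          rw [cnt]
          refine Finset.sum_pos' (fun x _ => ?_) ⟨g, Finset.mem_univ _, by rw [Pi.single_eq_same]; exact one_pos⟩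
          by_cases h4 : stY R hG t x = stY R hG t g
          · rw [h4, Pi.single_eq_same]; exact zero_le_one
          · rw [Pi.single_eq_of_ne h4]
        exact h3.ne'
      rcases Nat.eq_zero_or_pos (wt (stY R hG t g)) with h3 | h3
      · rw [cnt_eq R hG t q hq wt hw hws, h3, Nat.cast_zero, zero_mul] at h2
        exact absurd rfl h2
      · exact h3
    refine ne_of_gt (Finset.sum_pos' (fun x _ => ?_) ⟨stY R hG t g, Finset.mem_univ _, by
      rw [if_pos rfl]; exact_mod_cast h1⟩)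
    split_ifs
    · exact Nat.cast_nonneg _
    · exact le_rfl
  -- the eigenvalue condition
  have hcond : ∀ (b : Fin m → ℚ) (f : Y ⧸ PJ cs h T X {i | i ≠ j} → ℚ)
      (hf : ∀ g : Y, f g = b (t.cls (stY R hG t g))) (g : Y),
      (∑ p : PJ cs h T X {i | i ≠ j}, opT X n j (pull f) (g * p) =
        (Fintype.card (PJ cs h T X {i | i ≠ j}) : ℚ) * θ * f (g : Y ⧸ PJ cs h T X {i | i ≠ j})) ↔
      ∑ s, (if t.cls s = t.cls (stY R hG t g) then wt s * t.tau q j (fun u => b (t.cls u)) s else 0) =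
        θ * (∑ s, if t.cls s = t.cls (stY R hG t g) then (wt s : ℚ) else 0) * b (t.cls (stY R hG t g)) := by
    intro b f hf g
    have h1 : pull f = fun g => (fun u => b (t.cls u)) (stY R hG t g) := funext hf
    have h2 := Av.sum_P R hG t q hq wt hw hws (t.tau q j (fun u => b (t.cls u))) g
    rw [h1, opT_stY R hG t q hq j (fun u => b (t.cls u)), hf g]
    beta_reduce
    constructor
    · intro h3
      rw [h3] at h2
      have h4 : (Fintype.card (PJ cs h T X {i | i ≠ j}) : ℚ) *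
          (θ * (∑ s, if t.cls s = t.cls (stY R hG t g) then (wt s : ℚ) else 0) * b (t.cls (stY R hG t g))) =
          (Fintype.card (PJ cs h T X {i | i ≠ j}) : ℚ) *
          ∑ s, (if t.cls s = t.cls (stY R hG t g) then wt s * t.tau q j (fun u => b (t.cls u)) s else 0) := by
        rw [← h2]
        ring
      exact (mul_left_cancel₀ hcP h4).symm
    · intro h3
      rw [h3] at h2
      refine mul_right_cancel₀ (hK0 g) ?_
      rw [h2]
      ring
  -- the spherical function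
  let e₀ : Y ⧸ PJ cs h T X {i | i ≠ j} → ℚ := fun x => Quotient.liftOn' x (fun g => a (t.cls (stY R hG t g))) (by
    intro g g' hgg
    have h1 : g⁻¹ * g' ∈ PJ cs h T X {i | i ≠ j} := QuotientGroup.leftRel_apply.1 hgg
    have h2 := cls_mul_right R hG t h1 g
    rw [mul_inv_cancel_left] at h2
    rw [h2])
  have he₀ : ∀ g : Y, e₀ g = a (t.cls (stY R hG t g)) := fun _ => rfl
  have hbase : t.cls (stY R hG t 1) = t.cls t.o := by
    rw [(stY_eq_o_iff R hG t).2 (one_mem _)]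
  have heQ : ∀ y ∈ PJ cs h T X {i | i ≠ j}, ∀ x, e₀ (y • x) = e₀ x := by
    intro y hy x
    induction x using Quotient.inductionOn' with
    | h g =>
      show e₀ ((y * g : Y) : Y ⧸ PJ cs h T X {i | i ≠ j}) = e₀ (g : Y ⧸ PJ cs h T X {i | i ≠ j})
      rw [he₀, he₀, stY_mul_left R hG t hy]
  suffices hs : ∃ χ : Y → ℂ, Cfsg.IsIrrCharacter Y χ ∧ χ 1 = d ∧
      (∀ γ : Y ⧸ PJ cs h T X {i | i ≠ j} → Y, (∀ x, γ x • ((1 : Y) : Y ⧸ PJ cs h T X {i | i ≠ j}) = x) → ∀ g,
        (Fintype.card (Y ⧸ PJ cs h T X {i | i ≠ j}) : ℂ) * χ g = d * ((∑ x, e₀ ((γ x)⁻¹ • g • x) : ℚ) : ℂ)) ∧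
      ∀ g : Y, ∑ q : PJ cs h T X {i | i ≠ j}, χ (g * q) = Fintype.card (PJ cs h T X {i | i ≠ j}) *
        ((e₀ (g • ((1 : Y) : Y ⧸ PJ cs h T X {i | i ≠ j})) : ℚ) : ℂ) by
    obtain ⟨χ, hχ, hχ1, hval, hcos⟩ := hs
    refine ⟨χ, hχ, hχ1, fun g => ?_, fun g => ?_⟩
    · have hγ : ∀ x : Y ⧸ PJ cs h T X {i | i ≠ j}, x.out • ((1 : Y) : Y ⧸ PJ cs h T X {i | i ≠ j}) = x := by
        intro x
        rw [MulAction.Quotient.smul_coe, smul_eq_mul, mul_one]
        exact Quotient.out_eq' x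
      have h1 := hval _ hγ g
      have h2 := sum_gamma (cs := cs) (h := h) (T := T) (X := X) (j := j) e₀ heQ _ hγ g
      rw [finsum_eq_sum_of_fintype]
      have h3 : ∀ y : Y, a (t.cls (stY R hG t (y⁻¹ * g * y))) =
          e₀ ((y⁻¹ * g * y : Y) : Y ⧸ PJ cs h T X {i | i ≠ j}) := fun y => rfl
      rw [Finset.sum_congr rfl fun y _ => h3 y, h2]
      have h4 : Nat.card Y = Fintype.card (Y ⧸ PJ cs h T X {i | i ≠ j}) * Nat.card (PJ cs h T X {i | i ≠ j}) := by
        rw [Subgroup.card_eq_card_quotient_mul_card_subgroup (PJ cs h T X {i | i ≠ j}),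
          Nat.card_eq_fintype_card (α := Y ⧸ PJ cs h T X {i | i ≠ j})]
      rw [h4]
      push_cast
      push_cast at h1
      rw [mul_right_comm, h1]
      ring
    · rw [finsum_subgroup, hcos, Nat.card_eq_fintype_card]
      congr 3
      show e₀ ((g * 1 : Y) : Y ⧸ PJ cs h T X {i | i ≠ j}) = _
      rw [mul_one, he₀]
  refine exists_of_spherical_val (X := Y ⧸ PJ cs h T X {i | i ≠ j}) ?_ V ?_
    (PJ cs h T X {i | i ≠ j}) ((1 : Y) : Y ⧸ PJ cs h T X {i | i ≠ j}) ?_ e₀ ?_ heQ ?_ ?_ d ?_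
  · intro x y
    exact MulAction.exists_smul_eq Y x y
  · intro y f hf
    rw [hV] at hf ⊢
    intro g
    have h1 : pull (fun x => f (y • x)) = fun g => pull f (y * g) := rfl
    rw [h1, opT_left]
    have h2 := hf (y * g)
    simp only [mul_assoc] at h2 ⊢
    exact h2
  · intro g
    rw [MulAction.Quotient.smul_coe, smul_eq_mul, mul_one]
    constructor
    · intro h1
      have h2 := QuotientGroup.eq.1 h1
      rw [mul_one] at h2
      simpa using inv_mem h2
    · intro h1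
      exact QuotientGroup.eq.2 (by simpa using inv_mem h1)
  · rw [hV]
    intro g
    exact (hcond a e₀ he₀ g).2 (he _)
  · rw [he₀, hbase, ha]
  · intro f hf hinv
    obtain ⟨b, hb⟩ := exists_fun R hG t (pull f)
      (fun y hy g => hinv y hy (g : Y ⧸ PJ cs h T X {i | i ≠ j}))
      (fun y hy g => by
        rw [hpull, hpull]
        congr 1
        exact QuotientGroup.eq.2 (by simpa using hy))
    have h1 : ∀ c, ∑ s, (if t.cls s = c then wt s * t.tau q j (fun u => b (t.cls u)) s else 0) =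
        θ * (∑ s, if t.cls s = c then (wt s : ℚ) else 0) * b c := by
      intro c
      by_cases hc : ∃ s, t.cls s = c
      · obtain ⟨s, hs⟩ := hc
        obtain ⟨w, hw'⟩ := t.exists_sw cs h s
        obtain ⟨k, hk⟩ := exists_rp cs R.nsys w
        have h2 : stY R hG t k = s := by rw [stY_eq R hG t (cell_of_rp hk), hw']
        have h3 := (hcond b f hb k).1 ((hV f).1 hf k)
        rw [h2, hs] at h3
        exact h3
      · push Not at hc
        rw [Finset.sum_congr rfl fun s _ => if_neg (hc s), Finset.sum_congr rfl fun s _ => if_neg (hc s)]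
        simp
    refine ⟨b (t.cls t.o), funext fun x => ?_⟩
    induction x using Quotient.inductionOn' with
    | h g =>
      show pull f g = b (t.cls t.o) * e₀ (g : Y ⧸ PJ cs h T X {i | i ≠ j})
      rw [hb, he₀, hu b h1]
  · rw [sum_quot R hG t q hq wt hw hws (fun s => a (t.cls s) ^ 2) (fun x => e₀ x ^ 2) (fun g => by rw [he₀]), hd]
    have h1 := sum_quot R hG t q hq wt hw hws (fun _ => 1) (fun _ => 1) (fun _ => rfl)
    rw [Finset.sum_const, Finset.card_univ, nsmul_eq_mul, mul_one] at h1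
    rw [h1]
    exact Finset.sum_congr rfl fun s _ => by rw [mul_one]

end Cfsg.Agent.H996.PQ
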